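import Mathlib

/-!
# Averaging for coprime fixed-point-free actions on abelian groups
-/

set_option autoImplicit false

namespace Cfsg.Lib.IsaacsStep

universe u v

variable {E : Type u} [CommGroup E] [Finite E] {S : Type v} [Group S] [Fintype S]

/-- Raising to the order of the acting group is injective. -/
theorem eq_one_of_pow {x : E} (hcop : (Fintype.card S).Coprime (Nat.card E))
    (h : x ^ Fintype.card S = 1) : x = 1 := by
  have h1 : x ^ Nat.gcd (Fintype.card S) (Nat.card E) = 1 :=
    pow_gcd_eq_one.mpr ⟨h, pow_card_eq_one'⟩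
  rwa [hcop, pow_one] at h1

/-- The norm of every element is trivial. -/
theorem prod_orbit_eq_one (act : S →* MulAut E) (hfix : ∀ x : E, (∀ s, act s x = x) → x = 1) (x : E) :
    ∏ s, act s x = 1 := by
  refine hfix _ fun t => ?_
  rw [map_prod]
  refine Fintype.prod_equiv (Equiv.mulLeft t) _ _ fun s => ?_
  simp [map_mul]

/-- A homomorphism invariant under the action is trivial. -/
theorem hom_eq_one {M : Type*} [CommMonoid M] (act : S →* MulAut E)
    (hcop : (Fintype.card S).Coprime (Nat.card E))
    (hfix : ∀ x : E, (∀ s, act s x = x) → x = 1) (l : E →* M) (hl : ∀ s x, l (act s x) = l x)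
    (x : E) : l x = 1 := by
  obtain ⟨y, rfl⟩ := (powCoprime (G := E) hcop.symm).surjective x
  have h := congrArg l (prod_orbit_eq_one act hfix y)
  rw [map_one, map_prod, Finset.prod_congr rfl (fun s _ => hl s y), Finset.prod_const,
    ← map_pow] at h
  exact h

/-- Every cocycle is a coboundary, in exactly one way. -/
theorem existsUnique_coboundary (act : S →* MulAut E)
    (hcop : (Fintype.card S).Coprime (Nat.card E))
    (hfix : ∀ x : E, (∀ s, act s x = x) → x = 1) (a : S → E)
    (ha : ∀ s t, a (s * t) = a s * act s (a t)) :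
    ∃! v : E, ∀ s, a s * act s v = v := by
  obtain ⟨v, hv⟩ := (powCoprime (G := E) hcop.symm).surjective (∏ t, a t)
  have hv' : v ^ Fintype.card S = ∏ t, a t := hv
  have hall : ∀ s, a s * act s v = v := fun s => by
    have h : (∏ t, a t) = a s ^ Fintype.card S * act s (∏ t, a t) := by
      conv_lhs => rw [← Fintype.prod_equiv (Equiv.mulLeft s) (fun t => a (s * t)) a (fun t => rfl)]
      rw [Finset.prod_congr rfl (fun t _ => ha s t), Finset.prod_mul_distrib, Finset.prod_const,
        map_prod]
      rfl
    refine mul_inv_eq_one.mp (eq_one_of_pow (S := S) hcop ?_)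
    rw [mul_pow, mul_pow, inv_pow, ← map_pow, hv', ← h, mul_inv_cancel]
  refine ⟨v, hall, fun w hw => mul_inv_eq_one.mp (hfix _ fun s => ?_)⟩
  conv_rhs => rw [← hw s, ← hall s]
  simp [map_mul, map_inv, mul_assoc, mul_comm, mul_left_comm]

end Cfsg.Lib.IsaacsStep
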