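import Cfsg.Agent.Chars.Irr

/-!
# The block of an invariant irreducible representation of a normal subgroup

For a normal subgroup `R` of `G` with an invariant irreducible representation `ρ` on `V`, the map
`t : End V → ℂ[G]` inverts `ρ` on the block of `ρ`, and every `g` gives an element `f g` of `ℂ[G]`
supported on `Rg` commuting with this block.
-/

set_option autoImplicit false
set_option linter.unusedSectionVars false

namespace Cfsg.Lib.IsaacsStep

open Cfsg.Lib.Chars MonoidAlgebra

universe u v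

variable {G : Type u} [Group G]

theorem single_mul_domCongr (g : G) (x : MonoidAlgebra ℂ G) :
    single g 1 * x * single g⁻¹ 1 = domCongr ℂ ℂ (MulAut.conj g) x := by
  induction x using MonoidAlgebra.induction_linear with
  | zero => simp
  | add x y hx hy => rw [mul_add, add_mul, hx, hy, map_add]
  | single m a => rw [single_mul_single, single_mul_single, domCongr_single]; simp

section Schur

variable {R : Type u} [Group R] [Fintype R] {V : Type v} [AddCommGroup V] [Module ℂ V]
  [FiniteDimensional ℂ V] (ρ : Representation ℂ R V) [ρ.IsIrreducible]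

theorem sum_conj_eq (N : Module.End ℂ V) :
    ∑ r : R, ρ r * N * ρ r⁻¹ =
      ((Nat.card R : ℂ) * LinearMap.trace ℂ V N / Module.finrank ℂ V) • (1 : Module.End ℂ V) := by
  obtain ⟨c, hc⟩ := schur_scalar ρ (∑ r : R, ρ r * N * ρ r⁻¹) fun g v => by
    have h : (∑ r : R, ρ r * N * ρ r⁻¹) * ρ g = ρ g * ∑ r : R, ρ r * N * ρ r⁻¹ := by
      rw [Finset.sum_mul, Finset.mul_sum]
      refine (Fintype.sum_equiv (Equiv.mulLeft g) _ _ fun r => ?_).symm
      simp [mul_inv_rev, map_mul, mul_assoc, ← map_mul ρ g⁻¹ g]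
    exact LinearMap.congr_fun h v
  have hd : (Module.finrank ℂ V : ℂ) ≠ 0 := Nat.cast_ne_zero.mpr (finrank_pos_of_irreducible ρ).ne'
  have h := congrArg (LinearMap.trace ℂ V) hc
  rw [map_sum, map_smul, Finset.sum_congr rfl (g := fun _ => LinearMap.trace ℂ V N) (fun r _ => by
    rw [LinearMap.trace_mul_comm, ← mul_assoc, ← map_mul, inv_mul_cancel, map_one, one_mul]),
    Finset.sum_const, Finset.card_univ, LinearMap.trace_id, nsmul_eq_mul, smul_eq_mul,
    ← Nat.card_eq_fintype_card] at h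
  rw [hc, h, mul_div_cancel_right₀ _ hd]
  rfl

theorem schur_formula (M : Module.End ℂ V) :
    ((Module.finrank ℂ V : ℂ) / Nat.card R) • ∑ r : R, LinearMap.trace ℂ V (M * ρ r⁻¹) • ρ r = M := by
  have hd : (Module.finrank ℂ V : ℂ) ≠ 0 := Nat.cast_ne_zero.mpr (finrank_pos_of_irreducible ρ).ne'
  have hR : (Nat.card R : ℂ) ≠ 0 := Nat.cast_ne_zero.mpr Nat.card_pos.ne'
  have hrank : ∀ (g : Module.Dual ℂ V) (w : V),
      ((Module.finrank ℂ V : ℂ) / Nat.card R) • ∑ r : R,
        LinearMap.trace ℂ V (g.smulRight w * ρ r⁻¹) • ρ r = g.smulRight w := by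
    intro g w
    ext v
    have h := LinearMap.congr_fun (sum_conj_eq ρ (g.smulRight v)) w
    simp only [LinearMap.sum_apply, Module.End.mul_apply, LinearMap.smulRight_apply, map_smul,
      LinearMap.trace_smulRight, LinearMap.smul_apply, Module.End.one_apply] at h
    have htr : ∀ r : R, LinearMap.trace ℂ V (g.smulRight w * ρ r⁻¹) = g (ρ r⁻¹ w) := fun r => by
      rw [show g.smulRight w * ρ r⁻¹ = (g ∘ₗ ρ r⁻¹).smulRight w from rfl, LinearMap.trace_smulRight]
      rfl
    simp only [LinearMap.smul_apply, LinearMap.sum_apply, htr, LinearMap.smulRight_apply]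
    rw [h, smul_smul]
    congr 1
    field_simp
  let b := Module.finBasis ℂ V
  have hM : M = ∑ i, (b.coord i).smulRight (M (b i)) := by
    refine b.ext fun j => ?_
    simp [LinearMap.sum_apply, Finsupp.single_apply]
  conv_rhs => rw [hM, ← Finset.sum_congr rfl (fun i _ => hrank (b.coord i) (M (b i)))]
  rw [← Finset.smul_sum, Finset.sum_comm]
  congr 1
  refine Finset.sum_congr rfl fun r _ => ?_
  conv_lhs => rw [hM, Finset.sum_mul, map_sum, Finset.sum_smul]

end Schur

/-- An invariant irreducible representation of a normal subgroup. -/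
structure Block (G : Type u) [Group G] [Fintype G] where
  R : Subgroup G
  normal : R.Normal
  n : ℕ
  ρ : Representation ℂ R (Fin n → ℂ)
  irr : ρ.IsIrreducible
  inv : ∀ (g : G) (r s : R), (s : G) = g * r * g⁻¹ → ρ.character s = ρ.character r

namespace Block

variable [Fintype G] (B : Block G)

attribute [instance] Block.normal Block.irr

noncomputable instance : Fintype B.R := Fintype.ofFinite _

/-- Endomorphisms of the space of `ρ`. -/
abbrev E0 := Module.End ℂ (Fin B.n → ℂ)

/-- The inverse of `ρ` on its block. -/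
noncomputable def t : B.E0 →ₗ[ℂ] MonoidAlgebra ℂ G where
  toFun M := ((B.n : ℂ) / Nat.card B.R) •
    ∑ r : B.R, LinearMap.trace ℂ _ (M * B.ρ r⁻¹) • single (r : G) 1
  map_add' M N := by simp [add_mul, add_smul, Finset.sum_add_distrib]
  map_smul' c M := by
    simp [Finset.smul_sum, mul_comm, mul_left_comm]

theorem t_apply (M : B.E0) : B.t M = ((B.n : ℂ) / Nat.card B.R) •
    ∑ r : B.R, LinearMap.trace ℂ _ (M * B.ρ r⁻¹) • single (r : G) 1 := rfl

theorem schur (M : B.E0) :
    ((B.n : ℂ) / Nat.card B.R) • ∑ r : B.R, LinearMap.trace ℂ _ (M * B.ρ r⁻¹) • B.ρ r = M := by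
  have h := schur_formula B.ρ M
  rwa [Module.finrank_fin_fun] at h

/-- An element of `ℂ[G]` coming from `ℂ[R]`, times a block element. -/
theorem sum_mul_t (c : B.R → ℂ) (M : B.E0) :
    (∑ r : B.R, c r • single (r : G) 1) * B.t M = B.t ((∑ r : B.R, c r • B.ρ r) * M) := by
  have h1 : ∀ (r : B.R) (M : B.E0), single (r : G) 1 * B.t M = B.t (B.ρ r * M) := by
    intro r M
    simp only [t_apply, mul_smul_comm, Finset.mul_sum, single_mul_single, one_mul]
    congr 1
    refine Fintype.sum_equiv (Equiv.mulLeft r) _ _ fun s => ?_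
    simp only [Equiv.coe_mulLeft, Subgroup.coe_mul]
    congr 1
    rw [mul_inv_rev, map_mul B.ρ, mul_assoc (B.ρ r), LinearMap.trace_mul_comm (ℂ) (B.ρ r),
      ← mul_assoc M, mul_assoc (M * B.ρ s⁻¹), ← map_mul B.ρ, inv_mul_cancel, map_one, mul_one]
  rw [Finset.sum_mul, Finset.sum_mul, map_sum]
  refine Finset.sum_congr rfl fun r _ => ?_
  rw [smul_mul_assoc, h1, smul_mul_assoc, map_smul]

theorem t_mul (M N : B.E0) : B.t M * B.t N = B.t (M * N) := by
  conv_lhs => rw [B.t_apply M, smul_mul_assoc, B.sum_mul_t, ← map_smul, ← smul_mul_assoc, B.schur]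

theorem single_mul_t (r : B.R) (M : B.E0) : single (r : G) 1 * B.t M = B.t (B.ρ r * M) := by
  classical
  have h := B.sum_mul_t (Pi.single r 1) M
  simpa [Pi.single_apply, ite_smul] using h

theorem t_inj {M : B.E0} (h : B.t M = 0) : M = 0 := by
  classical
  have hd : (B.n : ℂ) ≠ 0 := by
    have := finrank_pos_of_irreducible B.ρ
    rw [Module.finrank_fin_fun] at this
    exact Nat.cast_ne_zero.mpr this.ne'
  have hz : ∀ r : B.R, LinearMap.trace ℂ _ (M * B.ρ r⁻¹) = 0 := fun r => by
    have h2 := congrArg (fun x => x.coeff (r : G)) h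
    rw [t_apply] at h2
    simpa [coeff_sum, Finsupp.single_apply, hd] using h2
  rw [← B.schur M]
  simp [hz]

/-- `(P, Q)` intertwines `ρ` and `ρ ∘ e`. -/
structure Int (e : B.R ≃* B.R) (P Q : B.E0) : Prop where
  left : P * Q = 1
  right : Q * P = 1
  comm : ∀ r, P * B.ρ r = B.ρ (e r) * P

variable {B}

theorem Int.trans {e e' : B.R ≃* B.R} {P Q P' Q' : B.E0} (h : B.Int e P Q) (h' : B.Int e' P' Q') :
    B.Int (e'.trans e) (P * P') (Q' * Q) where
  left := by rw [mul_assoc, ← mul_assoc P', h'.left, one_mul, h.left]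
  right := by rw [mul_assoc, ← mul_assoc Q, h.right, one_mul, h'.right]
  comm r := by rw [mul_assoc, h'.comm, ← mul_assoc, h.comm, mul_assoc]; rfl

theorem Int.unique {e : B.R ≃* B.R} {P Q P' Q' : B.E0} (h : B.Int e P Q) (h' : B.Int e P' Q') :
    ∃ c : ℂ, c ≠ 0 ∧ Q' = c • Q := by
  obtain ⟨c, hc⟩ := schur_scalar B.ρ (Q' * P) fun r v => by
    have hQ' : Q' * B.ρ (e r) = B.ρ r * Q' := by
      calc Q' * B.ρ (e r) = Q' * (B.ρ (e r) * P') * Q' := by
            rw [mul_assoc, mul_assoc, h'.left, mul_one]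
        _ = Q' * (P' * B.ρ r) * Q' := by rw [h'.comm]
        _ = B.ρ r * Q' := by rw [← mul_assoc, h'.right, one_mul]
    have h1 : Q' * P * B.ρ r = B.ρ r * (Q' * P) := by
      rw [mul_assoc, h.comm, ← mul_assoc, hQ', mul_assoc]
    exact LinearMap.congr_fun h1 v
  refine ⟨c, fun h0 => ?_, ?_⟩
  · rw [h0, zero_smul] at hc
    have e1 : (1 : B.E0) = 0 := by
      calc (1 : B.E0) = P' * (Q' * P) * Q := by
            rw [← mul_assoc P', h'.left, one_mul, h.left]
        _ = 0 := by rw [hc, mul_zero, zero_mul]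
    have hne : Nontrivial (Fin B.n → ℂ) := nontrivial_of_irreducible B.ρ
    exact one_ne_zero e1
  · rw [← mul_one Q', ← h.left, ← mul_assoc, hc]
    exact smul_mul_assoc c (1 : B.E0) Q |>.trans (by rw [one_mul])

theorem Int.refl (r : B.R) : B.Int (MulAut.conjNormal (r : G)) (B.ρ r) (B.ρ r⁻¹) where
  left := by rw [← map_mul, mul_inv_cancel, map_one]
  right := by rw [← map_mul, inv_mul_cancel, map_one]
  comm s := by
    rw [← map_mul, ← map_mul]
    congr 1
    ext
    simp [MulAut.conjNormal_apply]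

variable (B)

theorem exists_int (e : B.R ≃* B.R) (he : ∀ r, B.ρ.character (e r) = B.ρ.character r) :
    ∃ P Q, B.Int e P Q := by
  let σ : Representation ℂ B.R (Fin B.n → ℂ) := B.ρ.comp e.toMonoidHom
  have hσ : σ.IsIrreducible := by
    haveI : Nontrivial (Subrepresentation σ) := by
      refine ⟨⊥, ⊤, fun h => ?_⟩
      have : Nontrivial (Fin B.n → ℂ) := nontrivial_of_irreducible B.ρ
      exact bot_ne_top (α := Submodule ℂ (Fin B.n → ℂ)) (congrArg Subrepresentation.toSubmodule h)
    refine ⟨fun S => ?_⟩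
    let S' : Subrepresentation B.ρ :=
      { toSubmodule := S.toSubmodule
        apply_mem_toSubmodule := fun g v hv => by
          have := S.apply_mem_toSubmodule (e.symm g) hv
          simpa [σ] using this }
    rcases IsSimpleOrder.eq_bot_or_eq_top S' with h | h
    · exact Or.inl (Subrepresentation.toSubmodule_injective (congrArg Subrepresentation.toSubmodule h :))
    · exact Or.inr (Subrepresentation.toSubmodule_injective (congrArg Subrepresentation.toSubmodule h :))
  obtain ⟨φ⟩ := nonempty_equiv_of_irr_character_eq B.ρ σ (funext fun r => (he r).symm)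
  refine ⟨φ.toLinearEquiv.toLinearMap, φ.toLinearEquiv.symm.toLinearMap, ?_, ?_, fun r => ?_⟩
  · exact LinearMap.ext fun v => φ.toLinearEquiv.apply_symm_apply v
  · exact LinearMap.ext fun v => φ.toLinearEquiv.symm_apply_apply v
  · exact φ.toIntertwiningMap.isIntertwining' r

theorem map_t {α : MulAut G} {e : B.R ≃* B.R} (hα : ∀ r : B.R, α (r : G) = (e r : G))
    {P Q : B.E0} (h : B.Int e P Q) (M : B.E0) : domCongr ℂ ℂ α (B.t M) = B.t (P * M * Q) := by
  simp only [t_apply, map_smul, map_sum, domCongr_single]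
  congr 1
  refine Fintype.sum_equiv e.toEquiv _ _ fun r => ?_
  simp only [MulEquiv.toEquiv_eq_coe, EquivLike.coe_coe, hα, ← map_inv]
  congr 1
  have h2 : Q * B.ρ (e r⁻¹) = B.ρ r⁻¹ * Q := by
    calc Q * B.ρ (e r⁻¹) = Q * (B.ρ (e r⁻¹) * P) * Q := by rw [mul_assoc, mul_assoc, h.left, mul_one]
      _ = Q * (P * B.ρ r⁻¹) * Q := by rw [h.comm]
      _ = B.ρ r⁻¹ * Q := by rw [← mul_assoc, h.right, one_mul]
  rw [mul_assoc (P * M), h2, mul_assoc P, LinearMap.trace_mul_comm (ℂ) P, mul_assoc M,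
    mul_assoc (B.ρ r⁻¹), h.right, mul_one]

theorem single_mul_t_mul (g : G) {P Q : B.E0} (h : B.Int (MulAut.conjNormal g) P Q) (M : B.E0) :
    single g 1 * B.t M = B.t (P * M * Q) * single g 1 := by
  rw [← B.map_t (α := MulAut.conj g) (fun r => by simp [MulAut.conjNormal_apply]) h M,
    ← single_mul_domCongr, mul_assoc, single_mul_single, inv_mul_cancel, one_mul, ← one_def, mul_one]

theorem exists_int_conj (g : G) : ∃ P Q, B.Int (MulAut.conjNormal g) P Q :=
  B.exists_int _ fun r => B.inv g r _ (MulAut.conjNormal_apply g r)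

/-- A chosen intertwiner for `g`. -/
noncomputable def P (g : G) : B.E0 := (B.exists_int_conj g).choose

/-- Its inverse. -/
noncomputable def Q (g : G) : B.E0 := (B.exists_int_conj g).choose_spec.choose

theorem int_PQ (g : G) : B.Int (MulAut.conjNormal g) (B.P g) (B.Q g) :=
  (B.exists_int_conj g).choose_spec.choose_spec

/-- The element attached to `g`. -/
noncomputable def f (g : G) : MonoidAlgebra ℂ G := B.t (B.Q g) * single g 1

theorem t_mul_single_eq {g : G} {P Q : B.E0} (h : B.Int (MulAut.conjNormal g) P Q) :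
    ∃ c : ℂ, c ≠ 0 ∧ B.t Q * single g 1 = c • B.f g := by
  obtain ⟨c, hc0, hc⟩ := (B.int_PQ g).unique h
  exact ⟨c, hc0, by rw [hc, map_smul, smul_mul_assoc, f]⟩

theorem f_comm (g : G) (M : B.E0) : B.f g * B.t M = B.t M * B.f g := by
  rw [f, mul_assoc, B.single_mul_t_mul g (B.int_PQ g), ← mul_assoc, ← mul_assoc, B.t_mul, B.t_mul]
  rw [← mul_assoc (B.Q g), ← mul_assoc (B.Q g), (B.int_PQ g).right, one_mul]

theorem f_mul (g h : G) : ∃ c : ℂ, c ≠ 0 ∧ B.f g * B.f h = c • B.f (g * h) := by
  have hi : B.Int (MulAut.conjNormal (g * h)) (B.P g * B.P h) (B.Q h * B.Q g) := by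
    rw [map_mul]
    exact (B.int_PQ g).trans (B.int_PQ h)
  obtain ⟨c, hc0, hc⟩ := B.t_mul_single_eq hi
  refine ⟨c, hc0, ?_⟩
  rw [← hc]
  conv_lhs => arg 2; rw [f]
  rw [← mul_assoc, B.f_comm, f, ← mul_assoc, B.t_mul, mul_assoc, single_mul_single, one_mul]

theorem t_one_mul_t (M : B.E0) : B.t 1 * B.t M = B.t M := by rw [B.t_mul, one_mul]

theorem t_mul_t_one (M : B.E0) : B.t M * B.t 1 = B.t M := by rw [B.t_mul, mul_one]

theorem t_one_central (g : G) : single g 1 * B.t 1 = B.t 1 * single g 1 := by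
  rw [B.single_mul_t_mul g (B.int_PQ g), mul_one, (B.int_PQ g).left]

theorem single_eq (g : G) : B.t 1 * single g 1 = B.t (B.P g) * B.f g := by
  rw [f, ← mul_assoc, B.t_mul, (B.int_PQ g).left]

theorem f_one_mul (g : G) : B.t 1 * B.f g = B.f g := by
  rw [f, ← mul_assoc, B.t_one_mul_t]

theorem f_mul_one (g : G) : B.f g * B.t 1 = B.f g := by rw [B.f_comm, B.f_one_mul]

theorem f_of_mem (r : B.R) : ∃ c : ℂ, c ≠ 0 ∧ B.f (r : G) = c • B.t 1 := by
  obtain ⟨c, hc0, hc⟩ := B.t_mul_single_eq (Int.refl r)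
  refine ⟨c⁻¹, inv_ne_zero hc0, ?_⟩
  have h2 : B.t (B.ρ r⁻¹) * single (r : G) 1 = B.t 1 := by
    have h3 := B.single_mul_t_mul (r : G) (Int.refl r) (B.ρ r⁻¹)
    rw [B.single_mul_t, ← map_mul, mul_inv_cancel, map_one, one_mul] at h3
    exact h3.symm
  rw [← h2, hc, smul_smul, inv_mul_cancel₀ hc0, one_smul]

theorem f_ne_zero (g : G) : B.f g ≠ 0 := by
  intro h
  have h2 : B.t (B.Q g) = 0 := by
    have := congrArg (· * single g⁻¹ (1 : ℂ)) h
    simpa [f, mul_assoc, single_mul_single, ← one_def] using this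
  have h3 := (B.int_PQ g).right
  rw [B.t_inj h2, zero_mul] at h3
  have hne : Nontrivial (Fin B.n → ℂ) := nontrivial_of_irreducible B.ρ
  exact zero_ne_one h3

theorem coeff_f_eq_zero {g x : G} (hx : x * g⁻¹ ∉ B.R) : (B.f g).coeff x = 0 := by
  classical
  rw [f, coeff_mul_single_eq_coeff_mul (x * g⁻¹) (fun m _ => by rw [eq_mul_inv_iff_mul_eq]), t_apply,
    mul_one, coeff_smul_apply]
  simp [coeff_sum, Finsupp.single_apply]
  right
  refine Finset.sum_eq_zero fun r _ => if_neg fun h => hx (by rw [← h]; exact r.2)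

theorem map_f {α : MulAut G} {e : B.R ≃* B.R} (hα : ∀ r : B.R, α (r : G) = (e r : G))
    (he : ∀ r, B.ρ.character (e r) = B.ρ.character r) (g : G) :
    ∃ c : ℂ, c ≠ 0 ∧ domCongr ℂ ℂ α (B.f g) = c • B.f (α g) := by
  obtain ⟨P, Q, h⟩ := B.exists_int e he
  have h2 : B.Int (MulAut.conjNormal (α g)) (P * B.P g * Q) (P * B.Q g * Q) := by
    refine ⟨?_, ?_, fun r => ?_⟩
    · calc P * B.P g * Q * (P * B.Q g * Q) = P * B.P g * (Q * P) * B.Q g * Q := by
            simp only [mul_assoc]
        _ = P * (B.P g * B.Q g) * Q := by rw [h.right, mul_one]; simp only [mul_assoc]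
        _ = 1 := by rw [(B.int_PQ g).left, mul_one, h.left]
    · calc P * B.Q g * Q * (P * B.P g * Q) = P * B.Q g * (Q * P) * B.P g * Q := by
            simp only [mul_assoc]
        _ = P * (B.Q g * B.P g) * Q := by rw [h.right, mul_one]; simp only [mul_assoc]
        _ = 1 := by rw [(B.int_PQ g).right, mul_one, h.left]
    · obtain ⟨s, rfl⟩ := e.surjective r
      have hs : Q * B.ρ (e s) = B.ρ s * Q := by
        calc Q * B.ρ (e s) = Q * (B.ρ (e s) * P) * Q := by rw [mul_assoc, mul_assoc, h.left, mul_one]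
          _ = Q * (P * B.ρ s) * Q := by rw [h.comm]
          _ = B.ρ s * Q := by rw [← mul_assoc, h.right, one_mul]
      rw [mul_assoc, hs, ← mul_assoc, mul_assoc P, (B.int_PQ g).comm, ← mul_assoc P, h.comm]
      simp only [← mul_assoc]
      rw [show MulAut.conjNormal (α g) (e s) = e (MulAut.conjNormal g s) from ?_]
      apply Subtype.ext
      simp only [MulAut.conjNormal_apply, ← hα, map_mul, map_inv]
  obtain ⟨c, hc0, hc⟩ := B.t_mul_single_eq h2
  refine ⟨c, hc0, ?_⟩
  rw [f, map_mul, B.map_t hα h, domCongr_single, hc]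

end Block

end Cfsg.Lib.IsaacsStep
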