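import Mathlib

/-!
# Symmetric cocycles of a finite abelian group with values in `ℂˣ` are coboundaries
-/

set_option autoImplicit false

namespace Cfsg.Lib.IsaacsStep

universe u

/-- A symmetric normalised two-cocycle with values in `ℂˣ`. -/
structure SymCocycle (E : Type u) [CommGroup E] where
  r : E → E → ℂˣ
  symm : ∀ x y, r x y = r y x
  one_left : ∀ x, r 1 x = 1
  assoc : ∀ x y z, r x y * r (x * y) z = r y z * r x (y * z)

variable {E : Type u} [CommGroup E]

/-- The abelian extension given by a symmetric cocycle. -/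
@[ext]
structure Ext (c : SymCocycle E) where
  fst : ℂˣ
  snd : E

namespace Ext

variable {c : SymCocycle E}

noncomputable instance : Mul (Ext c) :=
  ⟨fun a b => ⟨a.fst * b.fst * c.r a.snd b.snd, a.snd * b.snd⟩⟩

noncomputable instance : One (Ext c) := ⟨⟨1, 1⟩⟩

noncomputable instance : Inv (Ext c) :=
  ⟨fun a => ⟨a.fst⁻¹ * (c.r a.snd⁻¹ a.snd)⁻¹, a.snd⁻¹⟩⟩

theorem mul_def (a b : Ext c) :
    a * b = ⟨a.fst * b.fst * c.r a.snd b.snd, a.snd * b.snd⟩ := rfl

theorem one_def : (1 : Ext c) = ⟨1, 1⟩ := rfl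

theorem inv_def (a : Ext c) : a⁻¹ = ⟨a.fst⁻¹ * (c.r a.snd⁻¹ a.snd)⁻¹, a.snd⁻¹⟩ := rfl

noncomputable instance : CommGroup (Ext c) where
  mul_assoc a b d := by
    ext1
    · simp only [mul_def]
      calc a.fst * b.fst * c.r a.snd b.snd * d.fst * c.r (a.snd * b.snd) d.snd
          = a.fst * b.fst * d.fst * (c.r a.snd b.snd * c.r (a.snd * b.snd) d.snd) := by
            simp only [mul_assoc, mul_left_comm]
        _ = a.fst * b.fst * d.fst * (c.r b.snd d.snd * c.r a.snd (b.snd * d.snd)) := by rw [c.assoc]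
        _ = a.fst * (b.fst * d.fst * c.r b.snd d.snd) * c.r a.snd (b.snd * d.snd) := by
            simp only [mul_assoc, mul_left_comm]
    · exact mul_assoc _ _ _
  one_mul a := by ext1 <;> simp [mul_def, one_def, c.one_left]
  mul_one a := by ext1 <;> simp [mul_def, one_def, c.symm _ 1, c.one_left]
  inv_mul_cancel a := by
    ext1
    · simp [mul_def, inv_def, one_def, mul_assoc, mul_left_comm, mul_comm]
    · simp [mul_def, inv_def, one_def]
  mul_comm a b := by
    ext1
    · simp only [mul_def]; rw [c.symm, mul_comm a.fst]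
    · exact mul_comm _ _

/-- The projection to `E`. -/
def sndHom (c : SymCocycle E) : Ext c →* E where
  toFun := Ext.snd
  map_one' := rfl
  map_mul' _ _ := rfl

end Ext

theorem aux_cancel {A : Type*} [CommGroup A] (a b d p q r w : A)
    (h : a * b = p * q * r * w⁻¹ * d) : a * p⁻¹ * (b * q⁻¹) = r * (d * w⁻¹) := by
  calc a * p⁻¹ * (b * q⁻¹) = a * b * (p * q)⁻¹ := by rw [mul_inv]; ac_rfl
    _ = p * q * r * w⁻¹ * d * (p * q)⁻¹ := by rw [h]
    _ = r * (d * w⁻¹) * ((p * q) * (p * q)⁻¹) := by ac_rfl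
    _ = r * (d * w⁻¹) := by rw [mul_inv_cancel, mul_one]

open Ext in
theorem exists_coboundary [Finite E] (c : SymCocycle E) :
    ∃ l : E → ℂˣ, ∀ x y, l x * l y = c.r x y * l (x * y) := by
  classical
  set n := Nat.card E with hn
  have hn0 : n ≠ 0 := Nat.card_pos.ne'
  have hsnd : ∀ m : Ext c, (m ^ n).snd = 1 := fun m => by
    rw [show (m ^ n).snd = sndHom c (m ^ n) from rfl, map_pow, hn, pow_card_eq_one']
  let ν : Ext c →* ℂˣ :=
    { toFun := fun m => (m ^ n).fst
      map_one' := by rw [one_pow]; rfl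
      map_mul' := fun a b => by
        rw [mul_pow]
        show (a ^ n).fst * (b ^ n).fst * c.r (a ^ n).snd (b ^ n).snd = _
        rw [hsnd, hsnd, c.one_left, mul_one] }
  have htors : ∀ m ∈ ν.ker, m ^ n = 1 := fun m hm => Ext.ext hm (hsnd m)
  let ι : ℂˣ →* Ext c :=
    { toFun := fun z => ⟨z, 1⟩
      map_one' := rfl
      map_mul' := fun a b => by ext1 <;> simp [mul_def, c.one_left] }
  have hν : ∀ z, ν (ι z) = z ^ n := fun z => by
    show (ι z ^ n).fst = z ^ n
    rw [← map_pow]; rfl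
  have hu : ∀ x : E, ∃ z : ℂˣ, (⟨z, x⟩ : Ext c) ∈ ν.ker := fun x => by
    obtain ⟨w, hw⟩ := IsAlgClosed.exists_pow_nat_eq ((ν ⟨1, x⟩)⁻¹ : ℂˣ).val (Nat.pos_of_ne_zero hn0)
    have hw0 : w ≠ 0 := fun h => by
      rw [h, zero_pow hn0] at hw; exact Units.ne_zero _ hw.symm
    refine ⟨Units.mk0 w hw0, ?_⟩
    have : (⟨Units.mk0 w hw0, x⟩ : Ext c) = ι (Units.mk0 w hw0) * ⟨1, x⟩ := by
      ext1 <;> simp [ι, mul_def, c.one_left]
    rw [MonoidHom.mem_ker, this, map_mul, hν, mul_eq_one_iff_eq_inv]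
    exact Units.ext (by simpa using hw)
  choose z hz using hu
  let u : E → ν.ker := fun x => ⟨⟨z x, x⟩, hz x⟩
  haveI : NeZero n := ⟨hn0⟩
  have hroot : ∀ m : Ext c, m ∈ ν.ker → m.snd = 1 → m.fst ^ n = 1 := fun m hm hs => by
    have he : ι m.fst = m := Ext.ext rfl hs.symm
    rw [← hν, he]
    exact hm
  haveI : Finite ν.ker := by
    let key : ν.ker → E × rootsOfUnity n ℂ := fun m =>
      ((m : Ext c).snd, ⟨((m : Ext c) * ((u (m : Ext c).snd : Ext c))⁻¹).fst, by
        have hk : (m : Ext c) * ((u (m : Ext c).snd : Ext c))⁻¹ ∈ ν.ker :=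
          mul_mem m.2 (inv_mem (u _).2)
        have hs : ((m : Ext c) * ((u (m : Ext c).snd : Ext c))⁻¹).snd = 1 := by
          show (m : Ext c).snd * ((m : Ext c).snd)⁻¹ = 1
          exact mul_inv_cancel _
        rw [mem_rootsOfUnity]
        exact hroot _ hk hs⟩)
    refine Finite.of_injective key fun m m' h => Subtype.ext ?_
    obtain ⟨h1, h2⟩ := Prod.ext_iff.mp h
    have h2' := congrArg Subtype.val h2
    simp only [key] at h1 h2'
    rw [← h1] at h2'
    exact mul_right_cancel (Ext.ext h2' (by simp [mul_def, h1]))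
  let μ : Subgroup ν.ker := ((sndHom c).comp ν.ker.subtype).ker
  let χ0 : μ →* ℂˣ :=
    { toFun := fun m => ((m : ν.ker) : Ext c).fst
      map_one' := rfl
      map_mul' := fun a b => by
        show _ * _ * c.r _ _ = _
        rw [show ((a : ν.ker) : Ext c).snd = 1 from a.2, c.one_left, mul_one] }
  haveI : NeZero (Monoid.exponent ν.ker) := ⟨Monoid.exponent_ne_zero_of_finite⟩
  obtain ⟨e, he⟩ := MonoidHom.domRestrict_surjective (M := ℂ) μ χ0
  refine ⟨fun x => e (u x) * (z x)⁻¹, fun x y => ?_⟩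
  have hm : u x * u y * (u (x * y))⁻¹ ∈ μ := by
    show x * y * (x * y)⁻¹ = 1
    exact mul_inv_cancel _
  have h := DFunLike.congr_fun he ⟨_, hm⟩
  rw [MonoidHom.domRestrictHom_apply, MonoidHom.domRestrict_apply, map_mul, map_mul, map_inv] at h
  have h' : e (u x) * e (u y) * (e (u (x * y)))⁻¹ = z x * z y * c.r x y * (z (x * y))⁻¹ := by
    refine h.trans ?_
    show z x * z y * c.r x y * ((z (x * y))⁻¹ * (c.r (x * y)⁻¹ (x * y))⁻¹) * c.r (x * y) (x * y)⁻¹ = _
    rw [c.symm (x * y) (x * y)⁻¹]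
    simp only [mul_assoc, inv_mul_cancel, mul_one]
  rw [mul_inv_eq_iff_eq_mul] at h'
  exact aux_cancel _ _ _ _ _ _ _ h'

end Cfsg.Lib.IsaacsStep
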