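import Cfsg.Agent.Chars.Irr
import Cfsg.Agent.Chars.Construct

/-!
# Inner products of parity-twisted restrictions

If `a`, `a'` are involutive operators on two representations of a group of odd order commuting with
`H`, inducing inversion modulo `L` on the abelian section `K ⧸ L`, where `G = KH` and `K ⊓ H = L`,
then the class functions `h ↦ tr (a σ(h))` have the same inner product as the characters.
-/

set_option autoImplicit false
set_option linter.unusedSectionVars false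

namespace Cfsg.Lib.IsaacsStep

open Cfsg.Lib.Chars
open scoped Pointwise
open scoped TensorProduct

universe u v w

variable {G : Type u} [Group G] [Fintype G]
variable {V : Type v} [AddCommGroup V] [Module ℂ V] [FiniteDimensional ℂ V]
variable {W : Type w} [AddCommGroup W] [Module ℂ W] [FiniteDimensional ℂ W]

theorem lm_comp_sum {ι : Type*} {X Y Z : Type*} [AddCommGroup X] [Module ℂ X] [AddCommGroup Y]
    [Module ℂ Y] [AddCommGroup Z] [Module ℂ Z] (t : Finset ι) (f : ι → X →ₗ[ℂ] Y) (g : Y →ₗ[ℂ] Z) :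
    g ∘ₗ (∑ i ∈ t, f i) = ∑ i ∈ t, g ∘ₗ f i := by
  ext x; simp [LinearMap.sum_apply]

theorem lm_sum_comp {ι : Type*} {X Y Z : Type*} [AddCommGroup X] [Module ℂ X] [AddCommGroup Y]
    [Module ℂ Y] [AddCommGroup Z] [Module ℂ Z] (t : Finset ι) (f : ι → Y →ₗ[ℂ] Z) (g : X →ₗ[ℂ] Y) :
    (∑ i ∈ t, f i) ∘ₗ g = ∑ i ∈ t, f i ∘ₗ g := by
  ext x; simp [LinearMap.sum_apply]

/-- The map `M ↦ P M Q`. -/
noncomputable def sandwich (P : V →ₗ[ℂ] V) (Q : W →ₗ[ℂ] W) : (W →ₗ[ℂ] V) →ₗ[ℂ] (W →ₗ[ℂ] V) where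
  toFun M := P ∘ₗ M ∘ₗ Q
  map_add' M N := by simp [LinearMap.add_comp, LinearMap.comp_add]
  map_smul' c M := by simp [LinearMap.smul_comp, LinearMap.comp_smul]

theorem trace_sandwich (P : V →ₗ[ℂ] V) (Q : W →ₗ[ℂ] W) :
    LinearMap.trace ℂ _ (sandwich P Q) = LinearMap.trace ℂ V P * LinearMap.trace ℂ W Q := by
  let e : Module.Dual ℂ W ⊗[ℂ] V ≃ₗ[ℂ] (W →ₗ[ℂ] V) := dualTensorHomEquiv ℂ W V
  have h : sandwich P Q = e.conj (TensorProduct.map (Module.Dual.transpose Q) P) := by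
    rw [← e.conj.apply_symm_apply (sandwich P Q)]
    congr 1
    refine TensorProduct.ext' fun f v => e.injective ?_
    show e (e.symm (sandwich P Q (e (f ⊗ₜ[ℂ] v)))) = _
    rw [LinearEquiv.apply_symm_apply]
    ext x
    simp [e, sandwich, dualTensorHomEquiv, dualTensorHomEquivOfBasis, Module.Dual.transpose]
  rw [h, LinearMap.trace_conj', LinearMap.trace_tensorProduct', LinearMap.trace_transpose', mul_comm]

theorem sandwich_comp (P P' : V →ₗ[ℂ] V) (Q Q' : W →ₗ[ℂ] W) :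
    sandwich P Q ∘ₗ sandwich P' Q' = sandwich (P * P') (Q' * Q) := by
  ext M x; rfl

section

variable (σ : Representation ℂ G V) (σ' : Representation ℂ G W)

/-- The action on maps. -/
noncomputable def homOp (g : G) : (W →ₗ[ℂ] V) →ₗ[ℂ] (W →ₗ[ℂ] V) := sandwich (σ g) (σ' g⁻¹)

theorem homOp_mul (g h : G) : homOp σ σ' (g * h) = homOp σ σ' g ∘ₗ homOp σ σ' h := by
  rw [homOp, homOp, homOp, sandwich_comp, mul_inv_rev, map_mul, map_mul]

theorem homOp_one : homOp σ σ' 1 = LinearMap.id := by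
  ext M x; simp [homOp, sandwich]

variable (L : Subgroup G) [Fintype L]

/-- The sum over `L`. -/
noncomputable def lSum : (W →ₗ[ℂ] V) →ₗ[ℂ] (W →ₗ[ℂ] V) := ∑ l : L, homOp σ σ' l

theorem homOp_lSum {l : G} (hl : l ∈ L) : homOp σ σ' l ∘ₗ lSum σ σ' L = lSum σ σ' L := by
  rw [lSum, lm_comp_sum]
  exact Fintype.sum_equiv (Equiv.mulLeft (⟨l, hl⟩ : L)) _ _ fun x => (homOp_mul σ σ' l x).symm

theorem lSum_homOp [hL : L.Normal] (g : G) :
    lSum σ σ' L ∘ₗ homOp σ σ' g = homOp σ σ' g ∘ₗ lSum σ σ' L := by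
  rw [lSum, lm_comp_sum, lm_sum_comp]
  let e : L ≃ L :=
    { toFun := fun l => ⟨g⁻¹ * l * g, by simpa using hL.conj_mem _ l.2 g⁻¹⟩
      invFun := fun l => ⟨g * l * g⁻¹, hL.conj_mem _ l.2 g⟩
      left_inv := fun l => by ext; simp [mul_assoc]
      right_inv := fun l => by ext; simp [mul_assoc] }
  refine Fintype.sum_equiv e _ _ fun l => ?_
  show _ = homOp σ σ' g ∘ₗ homOp σ σ' (g⁻¹ * l * g)
  rw [← homOp_mul, ← homOp_mul]
  congr 1
  group

end

theorem sum_sum_mul_eq (K H L : Subgroup G) [Fintype K] [Fintype H] (hKn : K.Normal)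
    (hsup : K ⊔ H = ⊤) (hinf : K ⊓ H = L) {M : Type*} [AddCommMonoid M] (f : G → M) :
    ∑ h : H, ∑ z : K, f (h * z) = Nat.card L • ∑ g : G, f g := by
  classical
  rw [← Fintype.sum_prod_type' (f := fun (h : H) (z : K) => f (h * z)),
    ← Finset.sum_fiberwise Finset.univ (fun p : H × K => (p.1 : G) * p.2)
      (fun p : H × K => f (p.1 * p.2)), Finset.smul_sum]
  refine Finset.sum_congr rfl fun g _ => ?_
  rw [Finset.sum_congr rfl (g := fun _ => f g) (fun p hp => by rw [(Finset.mem_filter.mp hp).2]),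
    Finset.sum_const]
  congr 1
  rw [← Fintype.card_subtype, ← Nat.card_eq_fintype_card]
  have hg : g ∈ (H : Set G) * (K : Set G) := by
    rw [← Subgroup.mul_normal H K, sup_comm, hsup]
    trivial
  obtain ⟨h₀, hh₀, z₀, hz₀, rfl⟩ := hg
  subst hinf
  refine Nat.card_congr
    { toFun := fun p => ⟨h₀⁻¹ * p.1.1, ?_, H.mul_mem (H.inv_mem hh₀) p.1.1.2⟩
      invFun := fun l => ⟨(⟨h₀ * l, H.mul_mem hh₀ l.2.2⟩,
        ⟨(l : G)⁻¹ * z₀, K.mul_mem (K.inv_mem l.2.1) hz₀⟩), by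
          show h₀ * (l : G) * ((l : G)⁻¹ * z₀) = h₀ * z₀; group⟩
      left_inv := fun p => ?_
      right_inv := fun l => by ext; simp }
  · have hp : (p.1.1 : G) * p.1.2 = h₀ * z₀ := p.2
    have e : h₀⁻¹ * (p.1.1 : G) = z₀ * ((p.1.2 : G))⁻¹ := by
      rw [eq_mul_inv_iff_mul_eq, mul_assoc, hp]; group
    rw [e]
    exact K.mul_mem hz₀ (K.inv_mem p.1.2.2)
  · have hp : (p.1.1 : G) * p.1.2 = h₀ * z₀ := p.2
    ext
    · simp
    · show (h₀⁻¹ * (p.1.1 : G))⁻¹ * z₀ = p.1.2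
      rw [show (h₀⁻¹ * (p.1.1 : G))⁻¹ * z₀ = (p.1.1 : G)⁻¹ * (h₀ * z₀) by group, ← hp]
      group

/-- The hypotheses on a pair of parity operators. -/
structure IsParityPair (K L H : Subgroup G) [Fintype L] (σ : Representation ℂ G V)
    (σ' : Representation ℂ G W) (a : V →ₗ[ℂ] V) (a' : W →ₗ[ℂ] W) : Prop where
  sq : a * a = 1
  sq' : a' * a' = 1
  comm : ∀ h ∈ H, a * σ h = σ h * a
  comm' : ∀ h ∈ H, a' * σ' h = σ' h * a'
  neg : ∀ y ∈ K, ∃ b : L → ℂ, σ y * a * σ y * a = ∑ l : L, b l • σ l ∧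
    σ' y * a' * σ' y * a' = ∑ l : L, b l • σ' l
  fix : ∀ M : W →ₗ[ℂ] V, (∀ g, σ g ∘ₗ M = M ∘ₗ σ' g) → a ∘ₗ M ∘ₗ a' = M

theorem sum_trace_eq (K L H : Subgroup G) [Fintype K] [Fintype L] [Fintype H] [hKn : K.Normal]
    [hLn : L.Normal] (hodd : Odd (Nat.card G)) (hab : ∀ x ∈ K, ∀ y ∈ K, x * y * x⁻¹ * y⁻¹ ∈ L)
    (hsup : K ⊔ H = ⊤) (hinf : K ⊓ H = L) (σ : Representation ℂ G V) (σ' : Representation ℂ G W)
    (a : V →ₗ[ℂ] V) (a' : W →ₗ[ℂ] W) (P : IsParityPair K L H σ σ' a a') :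
    ∑ h : H, LinearMap.trace ℂ V (a * σ h) * LinearMap.trace ℂ W (a' * σ' (h : G)⁻¹) =
      (Nat.card H : ℂ) * Cfsg.classInner σ.character σ'.character := by
  have hLK : L ≤ K := hinf ▸ inf_le_left
  have hLH : L ≤ H := hinf ▸ inf_le_right
  set π := homOp σ σ' with hπ
  set A := sandwich a a' with hA
  set Q := lSum σ σ' L with hQ
  set tr := LinearMap.trace ℂ (W →ₗ[ℂ] V)
  have hT : ∀ h : G, tr (A ∘ₗ π h) =
      LinearMap.trace ℂ V (a * σ h) * LinearMap.trace ℂ W (a' * σ' h⁻¹) := by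
    intro h
    rw [hA, hπ, homOp, sandwich_comp, show tr = LinearMap.trace ℂ _ from rfl, trace_sandwich,
      LinearMap.trace_mul_comm ℂ (σ' h⁻¹) a']
  have hAl : ∀ h ∈ H, A ∘ₗ π h = π h ∘ₗ A := fun h hh => by
    rw [hA, hπ, homOp, sandwich_comp, sandwich_comp, P.comm h hh, P.comm' h⁻¹ (H.inv_mem hh)]
  have hAQ : A ∘ₗ Q = Q ∘ₗ A := by
    rw [hQ, lSum, lm_comp_sum, lm_sum_comp]
    exact Finset.sum_congr rfl fun l _ => hAl l (hLH l.2)
  have hfixQ : ∀ l : L, ∀ M, σ l ∘ₗ Q M = Q M ∘ₗ σ' l := fun l M => by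
    have h1 : π l (Q M) = Q M := LinearMap.congr_fun (homOp_lSum σ σ' L l.2) M
    conv_rhs => rw [← h1]
    ext x
    show σ l (Q M x) = σ l (Q M (σ' (l : G)⁻¹ (σ' l x)))
    rw [← Module.End.mul_apply (σ' (l : G)⁻¹), ← map_mul, inv_mul_cancel, map_one,
      Module.End.one_apply]
  have hneg : ∀ y ∈ K, π y ∘ₗ A ∘ₗ Q = A ∘ₗ π y⁻¹ ∘ₗ Q := by
    intro y hy
    obtain ⟨b, hb, hb'⟩ := P.neg y hy
    set B := σ y * a * σ y * a with hB
    set B' := σ' y * a' * σ' y * a' with hB'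
    set B'i := a' * σ' y⁻¹ * a' * σ' y⁻¹ with hB'i
    have h1 : σ' y * σ' y⁻¹ = 1 := by rw [← map_mul, mul_inv_cancel, map_one]
    have h1' : σ y * σ y⁻¹ = 1 := by rw [← map_mul, mul_inv_cancel, map_one]
    have hBB : B' * B'i = 1 := by
      rw [hB', hB'i]
      calc σ' y * a' * σ' y * a' * (a' * σ' y⁻¹ * a' * σ' y⁻¹)
          = σ' y * a' * σ' y * (a' * a') * σ' y⁻¹ * a' * σ' y⁻¹ := by simp only [mul_assoc]
        _ = σ' y * a' * (σ' y * σ' y⁻¹) * a' * σ' y⁻¹ := by rw [P.sq', mul_one]; simp only [mul_assoc]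
        _ = σ' y * (a' * a') * σ' y⁻¹ := by rw [h1, mul_one]; simp only [mul_assoc]
        _ = 1 := by rw [P.sq', mul_one, h1]
    apply LinearMap.ext
    intro M
    set N := A (π y⁻¹ (Q M)) with hN
    show π y (A (Q M)) = N
    have hcomm : B ∘ₗ N = N ∘ₗ B' := by
      have e : N = Q (A (π y⁻¹ M)) := by
        have e2 : π y⁻¹ (Q M) = Q (π y⁻¹ M) :=
          (LinearMap.congr_fun (lSum_homOp σ σ' L y⁻¹) M).symm
        rw [hN, e2]
        exact LinearMap.congr_fun hAQ _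
      rw [hb, hb', e, lm_sum_comp, lm_comp_sum]
      exact Finset.sum_congr rfl fun l _ => by rw [LinearMap.smul_comp, LinearMap.comp_smul, hfixQ]
    have e3 : π y (A (Q M)) = B ∘ₗ N ∘ₗ B'i := by
      show sandwich (σ y) (σ' y⁻¹) (sandwich a a' (Q M)) =
        B ∘ₗ (sandwich a a' (sandwich (σ y⁻¹) (σ' y⁻¹⁻¹) (Q M))) ∘ₗ B'i
      rw [inv_inv]
      show σ y ∘ₗ (a ∘ₗ Q M ∘ₗ a') ∘ₗ σ' y⁻¹ =
        B ∘ₗ (a ∘ₗ (σ y⁻¹ ∘ₗ Q M ∘ₗ σ' y) ∘ₗ a') ∘ₗ B'i
      simp only [LinearMap.comp_assoc]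
      rw [show a' ∘ₗ σ' y⁻¹ = σ' y ∘ₗ a' ∘ₗ B'i by
        show a' * σ' y⁻¹ = σ' y * (a' * B'i)
        rw [hB'i, ← mul_assoc a', ← mul_assoc a', ← mul_assoc a', P.sq', one_mul]
        rw [← mul_assoc, ← mul_assoc, h1, one_mul]]
      simp only [← LinearMap.comp_assoc]
      congr 4
      show σ y * a = B * a * σ y⁻¹
      rw [hB, mul_assoc _ a a, P.sq, mul_one, mul_assoc, h1', mul_one]
    rw [e3, ← LinearMap.comp_assoc, hcomm, LinearMap.comp_assoc]
    show N ∘ₗ (B' * B'i) = N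
    rw [hBB]; rfl
  have hinv : ∀ h : G, ∀ y ∈ K,
      tr (A ∘ₗ π (y⁻¹ * h * y⁻¹) ∘ₗ Q) = tr (A ∘ₗ π h ∘ₗ Q) := by
    intro h y hy
    have e : A ∘ₗ π (y⁻¹ * h * y⁻¹) ∘ₗ Q = π y ∘ₗ ((A ∘ₗ π h ∘ₗ Q) ∘ₗ π y⁻¹) := by
      calc A ∘ₗ π (y⁻¹ * h * y⁻¹) ∘ₗ Q
          = A ∘ₗ π y⁻¹ ∘ₗ (π (h * y⁻¹) ∘ₗ Q) := by
            rw [hπ, mul_assoc, homOp_mul σ σ' y⁻¹ (h * y⁻¹), LinearMap.comp_assoc]
        _ = (A ∘ₗ π y⁻¹ ∘ₗ Q) ∘ₗ π (h * y⁻¹) := by
            rw [← lSum_homOp σ σ' L (h * y⁻¹)]; rfl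
        _ = π y ∘ₗ (A ∘ₗ (Q ∘ₗ π h)) ∘ₗ π y⁻¹ := by
            rw [← hneg y hy, hπ, homOp_mul σ σ' h y⁻¹]; rfl
        _ = _ := by rw [lSum_homOp σ σ' L h]
    rw [e, ← LinearMap.comp_assoc]
    show tr (π y * (A ∘ₗ π h ∘ₗ Q) * π y⁻¹) = _
    rw [LinearMap.trace_mul_comm, ← mul_assoc, show π y⁻¹ * π y = 1 by
      show π y⁻¹ ∘ₗ π y = LinearMap.id
      rw [hπ, ← homOp_mul, inv_mul_cancel, homOp_one], one_mul]
  have hconst : ∀ h ∈ H, ∀ z ∈ K, tr (A ∘ₗ π (h * z) ∘ₗ Q) = tr (A ∘ₗ π h ∘ₗ Q) := by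
    intro h hh z hz
    let E := K ⧸ L.subgroupOf K
    let cj : K →* K :=
      { toFun := fun x => ⟨h⁻¹ * x * h, by simpa using hKn.conj_mem _ x.2 h⁻¹⟩
        map_one' := by ext; simp
        map_mul' := fun x y => by ext; simp [mul_assoc] }
    let cb : E →* E := QuotientGroup.map _ _ cj fun x hx => by
      show h⁻¹ * (x : G) * h ∈ L
      simpa using hLn.conj_mem _ hx h⁻¹
    have hcomm : ∀ p q : E, p * q = q * p := by
      intro p q
      induction p using QuotientGroup.induction_on with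
      | H x =>
        induction q using QuotientGroup.induction_on with
        | H y =>
          rw [← QuotientGroup.mk_mul, ← QuotientGroup.mk_mul, QuotientGroup.eq, Subgroup.mem_subgroupOf]
          simpa [mul_assoc] using hab (y : G)⁻¹ (K.inv_mem y.2) (x : G)⁻¹ (K.inv_mem x.2)
    have hinj : Function.Injective (fun p : E => cb p * p) := by
      intro p q hpq
      set d := p * q⁻¹ with hd
      have h1 : cb d = d⁻¹ := by
        have h2 : cb p * p = cb q * q := hpq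
        rw [hd, map_mul, map_inv, mul_inv_rev, inv_inv, hcomm q p⁻¹,
          mul_inv_eq_iff_eq_mul, mul_assoc, hcomm q (cb q), eq_inv_mul_iff_mul_eq, hcomm p (cb p)]
        exact h2
      have hit : ∀ (n : ℕ) (x : K), h ^ n * ((cj ^[n]) x : G) = (x : G) * h ^ n := by
        intro n
        induction n with
        | zero => intro x; simp
        | succ n ih =>
          intro x
          rw [Function.iterate_succ_apply, pow_succ, mul_assoc (h ^ n) h]
          have := ih (cj x)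
          calc h ^ n * (h * ((cj ^[n]) (cj x) : G)) = h * (h ^ n * ((cj ^[n]) (cj x) : G)) := by
                rw [← mul_assoc, ← mul_assoc, ← pow_succ, ← pow_succ']
            _ = h * ((cj x : G) * h ^ n) := by rw [this]
            _ = _ := by
              show h * (h⁻¹ * (x : G) * h * h ^ n) = (x : G) * (h ^ n * h)
              rw [← pow_succ, pow_succ']; group
      have hcb : ∀ (n : ℕ) (x : K), (cb ^[n]) (x : E) = (((cj ^[n]) x : K) : E) := by
        intro n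
        induction n with
        | zero => intro x; rfl
        | succ n ih => intro x; rw [Function.iterate_succ_apply, Function.iterate_succ_apply]; exact ih _
      have hpar : ∀ n : ℕ, (cb ^[2 * n + 1]) d = d⁻¹ := by
        intro n
        induction n with
        | zero => exact h1
        | succ n ih =>
          rw [show 2 * (n + 1) + 1 = (2 * n + 1) + 2 by ring, Function.iterate_add_apply,
            show (cb ^[2]) d = cb (cb d) from rfl, h1, map_inv, h1, inv_inv, ih]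
      obtain ⟨k, hk⟩ := hodd.of_dvd_nat (orderOf_dvd_natCard h)
      have h3 : (cb ^[orderOf h]) d = d := by
        obtain ⟨x, hx⟩ := QuotientGroup.mk_surjective d
        rw [← hx, hcb]
        congr 1
        apply Subtype.ext
        simpa [pow_orderOf_eq_one] using hit (orderOf h) x
      rw [hk, hpar] at h3
      have h4 : d ^ 2 = 1 := by rw [sq]; nth_rewrite 1 [← h3]; exact inv_mul_cancel d
      have hoE : Odd (Nat.card E) := hodd.of_dvd_nat
        ((Subgroup.card_quotient_dvd_card _).trans (Subgroup.card_subgroup_dvd_card K))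
      have h5 : d ^ Nat.gcd 2 (Nat.card E) = 1 := pow_gcd_eq_one.mpr ⟨h4, pow_card_eq_one'⟩
      rw [Nat.coprime_two_left.mpr hoE, pow_one] at h5
      exact mul_inv_eq_one.mp h5
    obtain ⟨p, hp⟩ := (Finite.injective_iff_surjective.mp hinj) ((⟨z, hz⟩ : K) : E)⁻¹
    obtain ⟨y, rfl⟩ := QuotientGroup.mk_surjective p
    have hl : ((h⁻¹ * (y : G)⁻¹ * h) * (y : G)⁻¹)⁻¹ * z ∈ L := by
      have e : ((cj y⁻¹ * y⁻¹ : K) : E) = ((⟨z, hz⟩ : K) : E) := by
        have e2 : cb (y : E) * (y : E) = ((⟨z, hz⟩ : K) : E)⁻¹ := hp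
        rw [QuotientGroup.mk_mul, map_inv, QuotientGroup.mk_inv, QuotientGroup.mk_inv, ← mul_inv_rev,
          hcomm]
        rw [inv_eq_iff_eq_inv, ← e2]; rfl
      have := QuotientGroup.eq.mp e
      simpa [Subgroup.mem_subgroupOf, cj] using this
    set l := ((h⁻¹ * (y : G)⁻¹ * h) * (y : G)⁻¹)⁻¹ * z with hldef
    rw [show h * z = ((y : G)⁻¹ * h * (y : G)⁻¹) * l by rw [hldef]; group, hπ, homOp_mul,
      LinearMap.comp_assoc, homOp_lSum σ σ' L hl]
    exact hinv h y y.2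
  have step1 : (Nat.card L : ℂ) * ∑ h : H, tr (A ∘ₗ π h) = ∑ h : H, tr (A ∘ₗ π h ∘ₗ Q) := by
    have e : ∑ h : H, tr (A ∘ₗ π h ∘ₗ Q) = ∑ l : L, ∑ h : H, tr (A ∘ₗ π (h * l)) := by
      rw [Finset.sum_comm]
      refine Finset.sum_congr rfl fun h _ => ?_
      rw [hQ, lSum, lm_comp_sum, lm_comp_sum, map_sum]
      exact Finset.sum_congr rfl fun l _ => by rw [hπ, homOp_mul]
    rw [e, Finset.sum_congr rfl (g := fun _ : L => ∑ h : H, tr (A ∘ₗ π h)) (fun l _ =>
      Fintype.sum_equiv (Equiv.mulRight (⟨l, hLH l.2⟩ : H)) (fun h : H => tr (A ∘ₗ π ((h : G) * l))) _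
        fun h => rfl),
      Finset.sum_const, Finset.card_univ, nsmul_eq_mul, Nat.card_eq_fintype_card]
  have step2 : (Nat.card K : ℂ) * ∑ h : H, tr (A ∘ₗ π h ∘ₗ Q) =
      (Nat.card L : ℂ) * ∑ g : G, tr (A ∘ₗ π g ∘ₗ Q) := by
    have h1 := sum_sum_mul_eq K H L hKn hsup hinf (fun g => tr (A ∘ₗ π g ∘ₗ Q))
    rw [nsmul_eq_mul] at h1
    rw [← h1, Finset.mul_sum]
    refine Finset.sum_congr rfl fun h _ => ?_
    rw [Finset.sum_congr rfl (g := fun _ : K => tr (A ∘ₗ π h ∘ₗ Q)) (fun z _ => hconst h h.2 z z.2),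
      Finset.sum_const, Finset.card_univ, nsmul_eq_mul, Nat.card_eq_fintype_card]
  have step3 : ∑ g : G, tr (A ∘ₗ π g ∘ₗ Q) = (Nat.card L : ℂ) * ∑ g : G, tr (A ∘ₗ π g) := by
    have e : ∑ g : G, tr (A ∘ₗ π g ∘ₗ Q) = ∑ l : L, ∑ g : G, tr (A ∘ₗ π (g * l)) := by
      rw [Finset.sum_comm]
      refine Finset.sum_congr rfl fun h _ => ?_
      rw [hQ, lSum, lm_comp_sum, lm_comp_sum, map_sum]
      exact Finset.sum_congr rfl fun l _ => by rw [hπ, homOp_mul]
    rw [e, Finset.sum_congr rfl (g := fun _ : L => ∑ g : G, tr (A ∘ₗ π g)) (fun l _ =>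
      Fintype.sum_equiv (Equiv.mulRight (l : G)) (fun g : G => tr (A ∘ₗ π (g * l))) _ fun h => rfl),
      Finset.sum_const, Finset.card_univ, nsmul_eq_mul, Nat.card_eq_fintype_card]
  have step4 : ∑ g : G, tr (A ∘ₗ π g) = (Nat.card G : ℂ) * Cfsg.classInner σ.character σ'.character := by
    have hP : A ∘ₗ (∑ g : G, π g) = ∑ g : G, π g := by
      refine LinearMap.ext fun M => ?_
      set N := (∑ g : G, π g) M with hN
      show A N = N
      refine P.fix N fun g => ?_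
      have hg : π g N = N := by
        have e : π g ∘ₗ (∑ x : G, π x) = ∑ x : G, π x := by
          rw [lm_comp_sum]
          exact Fintype.sum_equiv (Equiv.mulLeft g) _ _ fun x => (homOp_mul σ σ' g x).symm
        exact LinearMap.congr_fun e M
      conv_rhs => rw [← hg]
      ext x
      show σ g (N x) = σ g (N (σ' g⁻¹ (σ' g x)))
      rw [← Module.End.mul_apply (σ' g⁻¹), ← map_mul, inv_mul_cancel, map_one,
        Module.End.one_apply]
    rw [← map_sum, ← lm_comp_sum, hP, map_sum, classInner_def, ← mul_assoc,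
      mul_inv_cancel₀ (Nat.cast_ne_zero.mpr Nat.card_pos.ne'), one_mul]
    refine Finset.sum_congr rfl fun g _ => ?_
    rw [hπ, homOp, show tr = LinearMap.trace ℂ _ from rfl, trace_sandwich, ← character_inv σ' g]
    rfl
  have hcard : Nat.card H * Nat.card K = Nat.card L * Nat.card G := by
    have h1 := sum_sum_mul_eq K H L hKn hsup hinf (fun _ => (1 : ℕ))
    simpa [Nat.card_eq_fintype_card] using h1
  rw [step3, step4, ← step1] at step2
  simp only [← hT]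
  have hL0 : (Nat.card L : ℂ) ≠ 0 := Nat.cast_ne_zero.mpr Nat.card_pos.ne'
  have hK0 : (Nat.card K : ℂ) ≠ 0 := Nat.cast_ne_zero.mpr Nat.card_pos.ne'
  have hc : (Nat.card H : ℂ) * Nat.card K = Nat.card L * Nat.card G := by exact_mod_cast hcard
  apply mul_left_cancel₀ (mul_ne_zero hK0 hL0)
  linear_combination step2 - Nat.card L * Cfsg.classInner σ.character σ'.character * hc

end Cfsg.Lib.IsaacsStep
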