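import Cfsg.Agent.Chars.IsaacsStep.Radical
import Cfsg.Agent.Chars.IsaacsStep.Norm
import Cfsg.Agent.Chars.Inertia
import Cfsg.Agent.Chars.Count

/-!
# The correspondence over an invariant character

The parity operators of the irreducible representations over a level give the irreducible
characters of `R ⊔ C` over the character of the level.
-/

set_option autoImplicit false
set_option linter.unusedSectionVars false

namespace Cfsg.Lib.IsaacsStep

open Cfsg Cfsg.Lib.Chars MonoidAlgebra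
open scoped ComplexConjugate Pointwise

universe u v w

/-- `ψ` occurs with odd multiplicity in the restriction of `χ`. -/
def OddMult {G : Type u} [Group G] (H : Subgroup G) [Fintype H] (χ : G → ℂ) (ψ : H → ℂ) : Prop :=
  ∃ m : ℕ, classInner (fun h : H => χ h) ψ = (m : ℂ) ∧ Odd m

/-- The linear extension of a function to the group algebra. -/
noncomputable def ext {G : Type u} [Group G] [Fintype G] (χ : G → ℂ) (z : MonoidAlgebra ℂ G) : ℂ :=
  ∑ g : G, z.coeff g * χ g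

theorem trace_eq_ext {G : Type u} [Group G] [Fintype G] {V : Type v} [AddCommGroup V] [Module ℂ V]
    (σ : Representation ℂ G V) (z : MonoidAlgebra ℂ G) :
    LinearMap.trace ℂ V (σ.asAlgebraHom z) = ext σ.character z := by
  classical
  induction z using MonoidAlgebra.induction_linear with
  | zero => simp [ext]
  | add x y hx hy => simp [ext, hx, hy, Finset.sum_add_distrib, add_mul]
  | single m a =>
    rw [Representation.asAlgebraHom_single, map_smul]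
    simp [ext, Finsupp.single_apply, Representation.character]

variable {G : Type u} [Group G] [Fintype G] {S : Type v} [Group S] [Fintype S] {F : Frame G S}

namespace Lev

variable (Λ : Lev F)

/-- The character of the level. -/
noncomputable abbrev φ : Λ.B.R → ℂ := Λ.B.ρ.character

theorem isIrr_φ : IsIrrCharacter Λ.B.R Λ.φ := ⟨_, Λ.B.ρ, Λ.B.irr, rfl⟩

theorem n_ne : (Λ.B.n : ℂ) ≠ 0 := by
  have h := finrank_pos_of_irreducible Λ.B.ρ
  rw [Module.finrank_fin_fun] at h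
  exact Nat.cast_ne_zero.mpr h.ne'

theorem φ_one : Λ.φ 1 = (Λ.B.n : ℂ) := by
  rw [φ, Representation.char_one, Module.finrank_fin_fun]

theorem card_R_ne : (Nat.card Λ.B.R : ℂ) ≠ 0 := Nat.cast_ne_zero.mpr Nat.card_pos.ne'

theorem t_eq_sum (N : Λ.B.E0) : ∃ b : Λ.B.R → ℂ, Λ.B.t N = ∑ r : Λ.B.R, b r • single (r : G) 1 :=
  ⟨fun r => (Λ.B.n : ℂ) / Nat.card Λ.B.R * LinearMap.trace ℂ _ (N * Λ.B.ρ r⁻¹), by
    rw [Λ.B.t_apply, Finset.smul_sum]
    exact Finset.sum_congr rfl fun r _ => by rw [smul_smul]⟩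

theorem ext_t_one {χ : G → ℂ} :
    ext χ (Λ.B.t 1) = (Λ.B.n : ℂ) * classInner (fun r : Λ.B.R => χ r) Λ.φ := by
  classical
  rw [classInner_def, ext, Λ.B.t_apply]
  simp only [one_mul, coeff_smul_apply, smul_eq_mul]
  rw [Finset.mul_sum, Finset.mul_sum]
  have h : ∀ g : G, (∑ r : Λ.B.R, LinearMap.trace ℂ _ (Λ.B.ρ r⁻¹) • single (r : G) (1 : ℂ)).coeff g =
      ∑ r : Λ.B.R, if (r : G) = g then Λ.φ r⁻¹ else 0 := fun g => by
    simp [coeff_sum, Finsupp.single_apply, φ, Representation.character]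
  simp only [h, Finset.sum_mul, Finset.mul_sum]
  rw [Finset.sum_comm]
  refine Finset.sum_congr rfl fun r _ => ?_
  rw [Finset.sum_eq_single (r : G) (fun g _ hg => by simp [Ne.symm hg]) (by simp), if_pos rfl,
    φ, ← character_inv Λ.B.ρ r]
  ring

theorem eps_coeff_one :
    (Λ.eps 1).coeff 1 = (Λ.B.n : ℂ) * Λ.B.n / (Nat.card Λ.B.R * Nat.card Λ.Rad) := by
  classical
  rw [eps, coeff_smul_apply, coeff_sum, Finsupp.finset_sum_apply, Finset.sum_eq_single 1]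
  · rw [MonoidHom.one_apply, Units.val_one, one_smul, Λ.isSec_sec.apply_one, Λ.B.t_apply,
      coeff_smul_apply, coeff_sum, Finsupp.finset_sum_apply, Finset.sum_eq_single 1]
    · simp [LinearMap.trace_one]
      ring
    · intro r _ hr
      simp [Finsupp.single_apply, show ((r : G) ≠ 1) from fun h => hr (Subtype.ext h)]
    · simp
  · intro p _ hp
    obtain ⟨k, -, hs⟩ := Λ.isSec_sec.2 p
    have hp' : (p : Λ.E) ≠ 1 := fun h => hp (Subtype.ext h)
    have ho : ((((p : Λ.E).out : F.K) : G)) ∉ Λ.B.R := fun h => hp'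
      ((QuotientGroup.out_eq' (p : Λ.E)).symm.trans ((QuotientGroup.eq_one_iff _).mpr h))
    have h0 : (Λ.e (p : Λ.E)).coeff 1 = 0 := by
      show (Λ.fhat F.K (p : Λ.E)).coeff 1 = 0
      rw [fhat, if_neg hp']
      exact Λ.B.coeff_f_eq_zero (by simpa using ho)
    rw [MonoidHom.one_apply, Units.val_one, one_smul, hs, coeff_smul_apply, h0, smul_zero]
  · simp

theorem t_one_sq : Λ.B.t 1 * Λ.B.t 1 = Λ.B.t 1 := by rw [Λ.B.t_mul, one_mul]

theorem single_comm_e' (r : Λ.B.R) (q : Λ.E') :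
    single (r : G) 1 * Λ.e' q = Λ.e' q * single (r : G) 1 := by
  have he : ∀ p : Λ.E, single (r : G) 1 * Λ.e p = Λ.e p * single (r : G) 1 := fun p => by
    have h1 : Λ.B.t 1 * Λ.e p = Λ.e p := by rw [← Λ.fhat_one (M := F.K)]; exact Λ.fhat_one_mul p
    have h2 : Λ.e p * Λ.B.t 1 = Λ.e p := by rw [← Λ.fhat_one (M := F.K)]; exact Λ.fhat_mul_one p
    have h3 : single (r : G) 1 * Λ.B.t 1 = Λ.B.t (Λ.B.ρ r) := by rw [Λ.B.single_mul_t, mul_one]
    calc single (r : G) 1 * Λ.e p = single (r : G) 1 * Λ.B.t 1 * Λ.e p := by rw [mul_assoc, h1]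
      _ = Λ.e p * (single (r : G) 1 * Λ.B.t 1) := by rw [h3, Λ.fhat_comm_t]
      _ = Λ.e p * single (r : G) 1 := by rw [Λ.B.t_one_central, ← mul_assoc, h2]
  obtain ⟨d, -, hd⟩ := Λ.e'_eq q
  rw [hd, mul_smul_comm, smul_mul_assoc, ← mul_assoc, he, mul_assoc, Λ.eps_one_central, ← mul_assoc]

theorem t_comm_e' (N : Λ.B.E0) (q : Λ.E') : Λ.B.t N * Λ.e' q = Λ.e' q * Λ.B.t N := by
  obtain ⟨d, -, hd⟩ := Λ.e'_eq q
  rw [hd, mul_smul_comm, smul_mul_assoc, ← mul_assoc, ← Λ.fhat_comm_t, mul_assoc, Λ.eps_comm_t,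
    ← mul_assoc]

theorem t_comm_J (N : Λ.B.E0) : Λ.B.t N * Λ.J = Λ.J * Λ.B.t N := by
  obtain ⟨⟨c, -, hJ⟩, -⟩ := Λ.isPar_J
  rw [hJ, Twisted.comb, Finset.mul_sum, Finset.sum_mul]
  refine Finset.sum_congr rfl fun q _ => ?_
  rw [mul_smul_comm, smul_mul_assoc]
  exact congrArg (c q • ·) (Λ.t_comm_e' N q)

theorem J_comm {h : G} (hh : h ∈ Λ.B.R ⊔ F.C) : single h 1 * Λ.J = Λ.J * single h 1 := by
  have hg : h ∈ (Λ.B.R : Set G) * (F.C : Set G) := by
    rw [← Subgroup.normal_mul Λ.B.R F.C]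
    exact hh
  obtain ⟨r, hr, c, hc, rfl⟩ := hg
  have h1 : single r 1 * Λ.J = Λ.J * single r 1 := by
    obtain ⟨⟨k, -, hJ⟩, -⟩ := Λ.isPar_J
    rw [hJ, Twisted.comb, Finset.mul_sum, Finset.sum_mul]
    refine Finset.sum_congr rfl fun q _ => ?_
    rw [mul_smul_comm, smul_mul_assoc]
    exact congrArg (k q • ·) (Λ.single_comm_e' ⟨r, hr⟩ q)
  have h2 : single c 1 * Λ.J = Λ.J * single c 1 := by
    have h := Λ.J_conj ⟨c, hc⟩
    change domCongr ℂ ℂ (MulAut.conj c) Λ.J = Λ.J at h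
    conv_rhs => rw [← h, ← single_mul_domCongr, mul_assoc, single_mul_single, inv_mul_cancel,
      one_mul, ← one_def, mul_one]
  have e : single (r * c) (1 : ℂ) = single r 1 * single c 1 := by rw [single_mul_single, one_mul]
  rw [e, mul_assoc, h2, ← mul_assoc, h1, mul_assoc]

theorem eps_mul_J : Λ.eps 1 * Λ.J = Λ.J := by
  obtain ⟨⟨c, -, hJ⟩, -⟩ := Λ.isPar_J
  rw [hJ, ← Λ.e'_one]
  exact Λ.T.one_mul_comb c

theorem J_mul_J : Λ.J * Λ.J = (Nat.card Λ.E' : ℂ) • Λ.eps 1 := by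
  rw [Λ.isPar_J.mul_self Λ.odd_E', ← Λ.e'_one]
  rfl

theorem sq_single_J {y : G} (hy : y ∈ F.K) : ∃ b : Λ.B.R → ℂ,
    single y 1 * Λ.J * (single y 1 * Λ.J) = (∑ r : Λ.B.R, b r • single (r : G) 1) * Λ.eps 1 := by
  obtain ⟨c, -, hf⟩ := Λ.f_eq_fhat (M := F.K) ⟨y, hy⟩
  obtain ⟨d, -, hd⟩ := Λ.e_mul_eps ((⟨y, hy⟩ : F.K) : Λ.E)
  set q : Λ.E' := (((⟨y, hy⟩ : F.K) : Λ.E) : Λ.E')
  have hy1 : single y 1 * Λ.eps 1 = (c * d) • (Λ.B.t (Λ.B.P y) * Λ.e' q) := by
    calc single y 1 * Λ.eps 1 = Λ.B.t 1 * single y 1 * Λ.eps 1 := by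
          rw [← Λ.B.t_one_central, mul_assoc, Λ.t_one_mul_eps]
      _ = _ := by
          rw [Λ.B.single_eq, mul_assoc, mul_smul, ← mul_smul_comm d, ← hd, ← mul_smul_comm c,
            ← smul_mul_assoc]
          exact congrArg (fun z => Λ.B.t (Λ.B.P y) * (z * Λ.eps 1)) hf
  obtain ⟨μ, hμ⟩ := Λ.isPar_J.2 q
  obtain ⟨b, hb⟩ := Λ.t_eq_sum (Λ.B.P y * Λ.B.P y)
  refine ⟨fun r => (c * d * (c * d)) * (μ * (Λ.T.β q q⁻¹ * Nat.card Λ.E')) * b r, ?_⟩
  have e1 : single y 1 * Λ.J = (c * d) • (Λ.B.t (Λ.B.P y) * (Λ.e' q * Λ.J)) := by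
    rw [← Λ.eps_mul_J, ← mul_assoc, hy1, smul_mul_assoc, mul_assoc, Λ.eps_mul_J]
  have hTf : ∀ x, Λ.T.f x = Λ.e' x := fun _ => rfl
  simp only [hTf] at hμ
  have hee : Λ.e' q * Λ.e' q⁻¹ = Λ.T.β q q⁻¹ • Λ.eps 1 := by
    rw [← hTf, ← hTf, Λ.T.mul, mul_inv_cancel, hTf, Λ.e'_one]
  have e2 : Λ.e' q * Λ.J * (Λ.e' q * Λ.J) =
      (μ * (Λ.T.β q q⁻¹ * Nat.card Λ.E')) • Λ.eps 1 := by
    calc Λ.e' q * Λ.J * (Λ.e' q * Λ.J) = Λ.e' q * (Λ.J * Λ.e' q) * Λ.J := by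
          simp only [mul_assoc]
      _ = μ • (Λ.e' q * Λ.e' q⁻¹ * (Λ.J * Λ.J)) := by
          rw [hμ, mul_smul_comm, smul_mul_assoc]
          simp only [mul_assoc]
      _ = _ := by
          rw [hee, Λ.J_mul_J, smul_mul_smul_comm, Λ.eps_mul_eps, smul_smul]
  have hc' : Λ.B.t (Λ.B.P y) * (Λ.e' q * Λ.J) = Λ.e' q * Λ.J * Λ.B.t (Λ.B.P y) := by
    rw [← mul_assoc, Λ.t_comm_e', mul_assoc, Λ.t_comm_J, mul_assoc]
  rw [e1, smul_mul_smul_comm, (show Commute (Λ.e' q * Λ.J) (Λ.B.t (Λ.B.P y)) from hc'.symm).mul_mul_mul_comm,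
    e2, Λ.B.t_mul, mul_smul_comm, smul_smul, hb, ← smul_mul_assoc, Finset.smul_sum]
  congr 1
  refine Finset.sum_congr rfl fun r _ => ?_
  rw [smul_smul]

section Rep

variable {V : Type w} [AddCommGroup V] [Module ℂ V] [FiniteDimensional ℂ V]
  (σ : Representation ℂ G V)

/-- The representation lies over the invariant idempotent. -/
def Over : Prop := σ.asAlgebraHom (Λ.eps 1) = 1

/-- The square root of the order of the non-degenerate section. -/
noncomputable def sn : ℂ := ((Real.sqrt (Nat.card Λ.E') : ℝ) : ℂ)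

theorem sn_mul : Λ.sn * Λ.sn = (Nat.card Λ.E' : ℂ) := by
  rw [sn, ← Complex.ofReal_mul, Real.mul_self_sqrt (Nat.cast_nonneg _), Complex.ofReal_natCast]

theorem sn_ne : Λ.sn ≠ 0 := fun h => by
  have := Λ.sn_mul
  rw [h, mul_zero] at this
  exact (Nat.cast_ne_zero.mpr Nat.card_pos.ne') this.symm

/-- The parity operator. -/
noncomputable def op : Module.End ℂ V := Λ.sn⁻¹ • σ.asAlgebraHom Λ.J

variable {Λ σ}

theorem Over.t_one (hσ : Λ.Over σ) : σ.asAlgebraHom (Λ.B.t 1) = 1 := by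
  have h := congrArg σ.asAlgebraHom (Λ.t_one_mul_eps 1)
  rwa [map_mul, show σ.asAlgebraHom (Λ.eps 1) = 1 from hσ, mul_one] at h

theorem Over.op_sq (hσ : Λ.Over σ) : Λ.op σ * Λ.op σ = 1 := by
  rw [op, smul_mul_smul_comm, ← map_mul, Λ.J_mul_J, map_smul,
    show σ.asAlgebraHom (Λ.eps 1) = 1 from hσ, smul_smul, ← mul_inv, Λ.sn_mul,
    inv_mul_cancel₀ (Nat.cast_ne_zero.mpr Nat.card_pos.ne'), one_smul]

theorem op_comm {h : G} (hh : h ∈ Λ.B.R ⊔ F.C) : Λ.op σ * σ h = σ h * Λ.op σ := by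
  rw [op, smul_mul_assoc, mul_smul_comm, ← Representation.asAlgebraHom_single_one, ← map_mul,
    ← map_mul, Λ.J_comm hh]

theorem Over.trace_op (hσ : Λ.Over σ) :
    LinearMap.trace ℂ V (Λ.op σ) = Λ.sn⁻¹ * (Module.finrank ℂ V : ℂ) := by
  rw [op, map_smul, smul_eq_mul, Λ.T.trace_par σ.asAlgebraHom (by
    show σ.asAlgebraHom (Λ.e' 1) = 1
    rw [Λ.e'_one]
    exact hσ) Λ.isPar_J]

end Rep

section Pair

variable {V : Type w} [AddCommGroup V] [Module ℂ V] [FiniteDimensional ℂ V]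
  {W : Type w} [AddCommGroup W] [Module ℂ W] [FiniteDimensional ℂ W]
  {σ : Representation ℂ G V} {σ' : Representation ℂ G W}

theorem isParityPair (hσ : Λ.Over σ) (hσ' : Λ.Over σ') :
    IsParityPair F.K Λ.B.R (Λ.B.R ⊔ F.C) σ σ' (Λ.op σ) (Λ.op σ') where
  sq := hσ.op_sq
  sq' := hσ'.op_sq
  comm _ hh := op_comm hh
  comm' _ hh := op_comm hh
  neg y hy := by
    obtain ⟨b, hb⟩ := Λ.sq_single_J hy
    refine ⟨fun r => Λ.sn⁻¹ * Λ.sn⁻¹ * b r, ?_⟩
    have key : ∀ {U : Type w} [AddCommGroup U] [Module ℂ U] (τ : Representation ℂ G U),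
        τ.asAlgebraHom (Λ.eps 1) = 1 → τ y * Λ.op τ * τ y * Λ.op τ =
          ∑ r : Λ.B.R, (Λ.sn⁻¹ * Λ.sn⁻¹ * b r) • τ r := by
      intro U _ _ τ hτ
      have h := congrArg τ.asAlgebraHom hb
      rw [map_mul, map_mul, map_mul, map_sum, hτ, mul_one,
        Representation.asAlgebraHom_single_one] at h
      simp only [op, mul_smul_comm, smul_mul_assoc, smul_smul]
      rw [mul_assoc (τ y * _) (τ y), h, Finset.smul_sum]
      refine Finset.sum_congr rfl fun r _ => ?_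
      rw [map_smul, Representation.asAlgebraHom_single_one, smul_smul]
    exact ⟨key σ hσ, key σ' hσ'⟩
  fix M hM := by
    have hA : ∀ z : MonoidAlgebra ℂ G, σ.asAlgebraHom z ∘ₗ M = M ∘ₗ σ'.asAlgebraHom z := by
      intro z
      induction z using MonoidAlgebra.induction_linear with
      | zero => simp
      | add x y hx hy => simp only [map_add, LinearMap.add_comp, LinearMap.comp_add, hx, hy]
      | single m a =>
        rw [Representation.asAlgebraHom_single, Representation.asAlgebraHom_single,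
          LinearMap.smul_comp, LinearMap.comp_smul, hM]
    have h1 : Λ.op σ ∘ₗ M = M ∘ₗ Λ.op σ' := by
      rw [op, op, LinearMap.smul_comp, LinearMap.comp_smul, hA]
    rw [← LinearMap.comp_assoc, h1, LinearMap.comp_assoc]
    show M ∘ₗ (Λ.op σ' * Λ.op σ') = M
    rw [hσ'.op_sq]
    rfl

end Pair

section Corr

variable (H : Subgroup G) [Fintype H] (hH : H = Λ.B.R ⊔ F.C)
  {V : Type w} [AddCommGroup V] [Module ℂ V] [FiniteDimensional ℂ V]

/-- The corresponding function. -/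
noncomputable def D (σ : Representation ℂ G V) : H → ℂ :=
  fun h => LinearMap.trace ℂ V (Λ.op σ * σ (h : G))

variable {Λ} {σ : Representation ℂ G V}

include hH in
theorem exists_split (hσ : Λ.Over σ) :
    ∃ P : H → ℂ, IsCharacter H P ∧ Λ.D H σ = P + P - fun h : H => σ.character h := by
  set a := Λ.op σ with ha
  set P : Module.End ℂ V := (2 : ℂ)⁻¹ • (1 + a) with hP
  have hPP : P * P = P := by
    rw [hP, smul_mul_smul_comm, add_mul, mul_add, mul_add, one_mul, one_mul, mul_one, hσ.op_sq,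
      show (1 : Module.End ℂ V) + a + (a + 1) = (2 : ℂ) • (1 + a) by rw [two_smul]; abel, smul_smul]
    norm_num
  have hcomm : ∀ h : H, P * σ (h : G) = σ (h : G) * P := fun h => by
    have hh : (h : G) ∈ Λ.B.R ⊔ F.C := hH ▸ h.2
    rw [hP, smul_mul_assoc, mul_smul_comm, add_mul, mul_add, one_mul, mul_one, ha, op_comm hh]
  let τ : Representation ℂ H V := σ.comp H.subtype
  let W : Subrepresentation τ :=
    { toSubmodule := LinearMap.range P
      apply_mem_toSubmodule := fun h v hv => by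
        obtain ⟨x, rfl⟩ := hv
        exact ⟨σ (h : G) x, LinearMap.congr_fun (hcomm h) x⟩ }
  refine ⟨W.toRepresentation.character, ?_, funext fun h => ?_⟩
  · exact isCharacter_character W.toRepresentation
  · have hfix : ∀ x ∈ LinearMap.range P, P x = x := by
      rintro _ ⟨x, rfl⟩
      exact LinearMap.congr_fun hPP x
    have hmem : ∀ v, (P * σ (h : G)) v ∈ LinearMap.range P := fun v => ⟨_, rfl⟩
    have htr : W.toRepresentation.character h = LinearMap.trace ℂ V (P * σ (h : G)) := by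
      rw [← LinearMap.trace_restrict_eq_of_forall_mem (LinearMap.range P) (P * σ (h : G)) hmem]
      show LinearMap.trace ℂ _ (W.toRepresentation h) = _
      congr 1
      refine LinearMap.ext fun x => Subtype.ext ?_
      exact (hfix _ (W.apply_mem_toSubmodule h x.2)).symm
    show LinearMap.trace ℂ V (a * σ (h : G)) = _
    rw [Pi.sub_apply, Pi.add_apply, htr]
    simp only [Representation.character, hP, smul_mul_assoc,
      map_smul, add_mul, one_mul, map_add, smul_eq_mul]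
    ring

include hH in
theorem D_conj_inv (hσ : Λ.Over σ) (h : H) : Λ.D H σ h⁻¹ = conj (Λ.D H σ h) := by
  obtain ⟨P, hP, hD⟩ := exists_split H hH hσ
  rw [hD]
  simp only [Pi.sub_apply, Pi.add_apply, map_sub, map_add, IsCharacter.conj_inv hP,
    IsCharacter.conj_inv (IsCharacter.restrict (isCharacter_character σ) H)]

include hH in
theorem classInner_D {W : Type w} [AddCommGroup W] [Module ℂ W] [FiniteDimensional ℂ W]
    {σ' : Representation ℂ G W} (hσ : Λ.Over σ) (hσ' : Λ.Over σ') :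
    classInner (Λ.D H σ) (Λ.D H σ') = classInner σ.character σ'.character := by
  subst hH
  haveI : Fintype F.K := Fintype.ofFinite _
  have hinf : F.K ⊓ (Λ.B.R ⊔ F.C) = Λ.B.R := by
    refine le_antisymm (fun x hx => ?_) (le_inf Λ.ge le_sup_left)
    have hx2 : x ∈ (Λ.B.R : Set G) * (F.C : Set G) := by
      rw [← Subgroup.normal_mul Λ.B.R F.C]
      exact hx.2
    obtain ⟨r, hr, c, hc, rfl⟩ := hx2
    refine Λ.B.R.mul_mem hr (Λ.le (F.inter ⟨?_, hc⟩))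
    have := F.K.mul_mem (F.K.inv_mem (Λ.ge hr)) hx.1
    simpa using this
  have hsup : F.K ⊔ (Λ.B.R ⊔ F.C) = ⊤ :=
    top_le_iff.mp (F.sup ▸ sup_le_sup_left le_sup_right F.K)
  have h := sum_trace_eq F.K Λ.B.R (Λ.B.R ⊔ F.C) F.odd
    (fun x hx y hy => Λ.le (F.abelian x hx y hy)) hsup hinf σ σ' _ _ (Λ.isParityPair hσ hσ')
  rw [classInner_def (Λ.D _ σ), eq_comm, eq_inv_mul_iff_mul_eq₀ (Nat.cast_ne_zero.mpr Nat.card_pos.ne'),
    ← h]
  exact Finset.sum_congr rfl fun x _ => congrArg (Λ.D _ σ x * ·) (D_conj_inv _ rfl hσ' x)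

theorem D_one (hσ : Λ.Over σ) : Λ.D H σ 1 = Λ.sn⁻¹ * (Module.finrank ℂ V : ℂ) := by
  rw [D, OneMemClass.coe_one, map_one, mul_one, hσ.trace_op]

include hH in
theorem isIrr_D [σ.IsIrreducible] (hσ : Λ.Over σ) : IsIrrCharacter H (Λ.D H σ) := by
  obtain ⟨P, hP, hD⟩ := exists_split H hH hσ
  have hg : IsGeneralizedCharacter H (Λ.D H σ) := by
    rw [hD]
    exact IsGeneralizedCharacter.sub (IsCharacter.isGeneralized (IsCharacter.add hP hP))
      (IsCharacter.isGeneralized (IsCharacter.restrict (isCharacter_character σ) H))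
  have hn : classInner (Λ.D H σ) (Λ.D H σ) = 1 := by
    rw [classInner_D H hH hσ hσ, classInner_character, if_pos ⟨Representation.Equiv.refl _⟩]
  refine (isIrr_or_neg_of_norm_one hg hn).resolve_right fun hneg => ?_
  obtain ⟨k, hk, hk1⟩ := IsIrrCharacter.apply_one hneg
  rw [Pi.neg_apply, D_one H hσ, sn, ← Complex.ofReal_inv] at hk1
  have h := congrArg Complex.re hk1
  simp only [Complex.neg_re, Complex.mul_re, Complex.ofReal_re, Complex.natCast_re,
    Complex.ofReal_im, zero_mul, sub_zero] at h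
  have h1 : (0 : ℝ) ≤ (Real.sqrt (Nat.card Λ.E'))⁻¹ * (Module.finrank ℂ V : ℝ) := by positivity
  have h2 : (0 : ℝ) < k := by exact_mod_cast hk
  linarith

include hH in
theorem oddMult_iff [σ.IsIrreducible] (hσ : Λ.Over σ) {ψ : H → ℂ} (hψ : IsIrrCharacter H ψ) :
    OddMult H σ.character ψ ↔ ψ = Λ.D H σ := by
  classical
  obtain ⟨P, hP, hD⟩ := exists_split H hH hσ
  obtain ⟨k, hk⟩ := IsCharacter.exists_mult hP hψ
  obtain ⟨m, hm⟩ := IsCharacter.exists_mult (IsCharacter.restrict (isCharacter_character σ) H) hψ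
  have h := congrArg (classInner · ψ) hD
  simp only [classInner_sub_left, classInner_add_left, hk, hm,
    classInner_irrChar (isIrr_D H hH hσ) hψ] at h
  constructor
  · rintro ⟨m', hm', hodd⟩
    obtain rfl : m = m' := Nat.cast_injective (hm.symm.trans hm')
    by_contra hne
    rw [if_neg (fun e => hne e.symm)] at h
    have : m = k + k := Nat.cast_injective (R := ℂ) (by push_cast; linear_combination h)
    exact (Nat.not_even_iff_odd.mpr hodd) ⟨k, this⟩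
  · intro he
    rw [if_pos he.symm] at h
    have : m + 1 = k + k := Nat.cast_injective (R := ℂ) (by push_cast; linear_combination h)
    exact ⟨m, hm, by rw [← Nat.not_even_iff_odd, ← Nat.even_add_one]; exact ⟨k, this⟩⟩

theorem over_D (hRH : Λ.B.R ≤ H) [σ.IsIrreducible] (hσ : Λ.Over σ) :
    classInner (fun r : Λ.B.R => Λ.D H σ ⟨r, hRH r.2⟩) Λ.φ ≠ 0 := by
  let L : Λ.B.E0 →ₗ[ℂ] ℂ := (LinearMap.trace ℂ V) ∘ₗ (LinearMap.mulLeft ℂ (Λ.op σ)) ∘ₗ
    σ.asAlgebraHom.toLinearMap ∘ₗ Λ.B.t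
  have hswap : ∀ M N, L (M * N) = L (N * M) := fun M N => by
    show LinearMap.trace ℂ V (Λ.op σ * σ.asAlgebraHom (Λ.B.t (M * N))) =
      LinearMap.trace ℂ V (Λ.op σ * σ.asAlgebraHom (Λ.B.t (N * M)))
    have hc : σ.asAlgebraHom (Λ.B.t N) * Λ.op σ = Λ.op σ * σ.asAlgebraHom (Λ.B.t N) := by
      rw [op, smul_mul_assoc, mul_smul_comm, ← map_mul, ← map_mul, Λ.t_comm_J]
    rw [← Λ.B.t_mul, ← Λ.B.t_mul, map_mul σ.asAlgebraHom, map_mul σ.asAlgebraHom, ← mul_assoc, LinearMap.trace_mul_comm,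
      ← mul_assoc (σ.asAlgebraHom (Λ.B.t N)), hc, mul_assoc]
  have hL : ∀ M, L M = LinearMap.trace ℂ _ M / Λ.B.n * L 1 := fun M => by
    have h := congrArg L (sum_conj_eq Λ.B.ρ M)
    rw [map_sum, map_smul, Finset.sum_congr rfl (g := fun _ => L M) (fun r _ => by
      rw [hswap, ← mul_assoc, ← map_mul, inv_mul_cancel, map_one, one_mul]), Finset.sum_const,
      Finset.card_univ, nsmul_eq_mul, ← Nat.card_eq_fintype_card, Module.finrank_fin_fun,
      smul_eq_mul] at h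
    apply mul_left_cancel₀ Λ.card_R_ne
    rw [h]
    ring
  have hr : ∀ r : Λ.B.R, Λ.D H σ ⟨r, hRH r.2⟩ = L (Λ.B.ρ r) := fun r => by
    show LinearMap.trace ℂ V (Λ.op σ * σ (r : G)) =
      LinearMap.trace ℂ V (Λ.op σ * σ.asAlgebraHom (Λ.B.t (Λ.B.ρ r)))
    rw [← mul_one (Λ.B.ρ r), ← Λ.B.single_mul_t, map_mul σ.asAlgebraHom, hσ.t_one, mul_one,
      Representation.asAlgebraHom_single_one]
  have hfun : (fun r : Λ.B.R => Λ.D H σ ⟨r, hRH r.2⟩) = (L 1 / Λ.B.n) • Λ.φ := funext fun r => by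
    rw [hr, hL, Pi.smul_apply, smul_eq_mul, φ, Representation.character]
    ring
  rw [hfun, classInner_smul_left, classInner_self_irr Λ.isIrr_φ, mul_one]
  refine div_ne_zero ?_ Λ.n_ne
  show LinearMap.trace ℂ V (Λ.op σ * σ.asAlgebraHom (Λ.B.t 1)) ≠ 0
  rw [hσ.t_one, mul_one, hσ.trace_op]
  exact mul_ne_zero (inv_ne_zero Λ.sn_ne)
    (Nat.cast_ne_zero.mpr (finrank_pos_of_irreducible σ).ne')

end Corr

section Main

/-- `χ` lies over the invariant idempotent. -/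
def IsOver (χ : G → ℂ) : Prop := ext χ (Λ.eps 1) = χ 1

theorem ext_eps_cases {χ : G → ℂ} (hχ : IsIrrCharacter G χ) :
    ext χ (Λ.eps 1) = χ 1 ∨ ext χ (Λ.eps 1) = 0 := by
  obtain ⟨m, σ, hσ, rfl⟩ := hχ
  obtain ⟨b, hb⟩ := scalar_of_central σ Λ.eps_one_central
  have h := congrArg σ.asAlgebraHom (Λ.eps_mul_eps 1)
  rw [map_mul, hb, smul_mul_smul_comm, one_mul] at h
  haveI : Nontrivial (Fin m → ℂ) := nontrivial_of_irreducible σ
  have h2 : b * b = b := smul_left_injective ℂ (one_ne_zero : (1 : Module.End ℂ (Fin m → ℂ)) ≠ 0) h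
  rw [← trace_eq_ext, hb, map_smul, LinearMap.trace_one, Representation.char_one, smul_eq_mul]
  rcases eq_or_ne b 0 with h0 | h0
  · exact Or.inr (by rw [h0, zero_mul])
  · exact Or.inl (by rw [mul_left_cancel₀ h0 (h2.trans (mul_one b).symm), one_mul])

theorem over_iff {m : ℕ} (σ : Representation ℂ G (Fin m → ℂ)) [σ.IsIrreducible] :
    Λ.Over σ ↔ Λ.IsOver σ.character := by
  rw [Over, IsOver, ← trace_eq_ext, Representation.char_one]
  refine ⟨fun h => by rw [h, LinearMap.trace_one], fun h => ?_⟩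
  obtain ⟨b, hb⟩ := scalar_of_central σ Λ.eps_one_central
  rw [hb, map_smul, LinearMap.trace_one, smul_eq_mul] at h
  have hd : (Module.finrank ℂ (Fin m → ℂ) : ℂ) ≠ 0 :=
    Nat.cast_ne_zero.mpr (finrank_pos_of_irreducible σ).ne'
  rw [hb, show b = 1 from mul_right_cancel₀ hd (h.trans (one_mul _).symm), one_smul]

theorem isOver_of_invariant (χ : IrrCharacter G) (hS : ∀ s g, χ.1 (F.act s g) = χ.1 g)
    (hc : classInner (fun r : Λ.B.R => χ.1 r) Λ.φ ≠ 0) : Λ.IsOver χ.1 := by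
  obtain ⟨χ, m, σ, hσ, rfl⟩ := χ
  haveI : Nontrivial (Fin m → ℂ) := nontrivial_of_irreducible σ
  obtain ⟨b, hb⟩ := scalar_of_central σ Λ.B.t_one_central
  have hb0 : b ≠ 0 := by
    intro h0
    have h := Λ.ext_t_one (χ := σ.character)
    rw [← trace_eq_ext, hb, h0, zero_smul, map_zero] at h
    exact hc ((mul_eq_zero.mp h.symm).resolve_left Λ.n_ne)
  have h := congrArg σ.asAlgebraHom Λ.t_one_sq
  rw [map_mul, hb, smul_mul_smul_comm, one_mul] at h
  have hb1 : b = 1 :=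
    mul_left_cancel₀ hb0 ((smul_left_injective ℂ (one_ne_zero : (1 : Module.End ℂ (Fin m → ℂ)) ≠ 0) h).trans (mul_one b).symm)
  exact (Λ.over_iff σ).mp (Λ.eps_one_acts σ (by rw [hb, hb1, one_smul]) hS)

theorem sum_sq_over [DecidablePred fun χ : IrrCharacter G => Λ.IsOver χ.1] :
    ∑ χ ∈ Finset.univ.filter (fun χ : IrrCharacter G => Λ.IsOver χ.1), (χ.1 1) ^ 2 =
      (Nat.card G : ℂ) * (Λ.eps 1).coeff 1 := by
  classical
  have h : ∑ χ : IrrCharacter G, χ.1 1 * ext χ.1 (Λ.eps 1) =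
      (Nat.card G : ℂ) * (Λ.eps 1).coeff 1 := by
    simp only [ext, Finset.mul_sum]
    rw [Finset.sum_comm]
    rw [Finset.sum_eq_single (1 : G)]
    · rw [Finset.sum_congr rfl (g := fun χ : IrrCharacter G => (Λ.eps 1).coeff 1 * (χ.1 1 * χ.1 1))
        (fun χ _ => by ring), ← Finset.mul_sum, sum_deg_mul, if_pos rfl, mul_comm]
    · intro g _ hg
      rw [Finset.sum_congr rfl (g := fun χ : IrrCharacter G => (Λ.eps 1).coeff g * (χ.1 1 * χ.1 g))
        (fun χ _ => by ring), ← Finset.mul_sum, sum_deg_mul, if_neg hg, mul_zero]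
    · simp
  rw [← h, Finset.sum_filter]
  refine Finset.sum_congr rfl fun χ _ => ?_
  by_cases ho : Λ.IsOver χ.1
  · rw [if_pos ho, show ext χ.1 (Λ.eps 1) = χ.1 1 from ho, sq]
  · rw [if_neg ho, ((Λ.ext_eps_cases χ.2).resolve_left ho), mul_zero]

variable (H : Subgroup G) [Fintype H]

theorem mult_H (hRH : Λ.B.R ≤ H) (ψ : IrrCharacter H) :
    classInner (fun r : Λ.B.R => ψ.1 ⟨r, hRH r.2⟩) Λ.φ * Λ.B.n = ψ.1 1 ∨
      classInner (fun r : Λ.B.R => ψ.1 ⟨r, hRH r.2⟩) Λ.φ = 0 := by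
  by_cases hc : classInner (fun r : Λ.B.R => ψ.1 ⟨r, hRH r.2⟩) Λ.φ = 0
  · exact Or.inr hc
  left
  have hT : H ≤ inertia Λ.B.R Λ.φ := fun g _ => mem_inertia.mpr
    (funext fun r => Λ.B.inv g r _ rfl)
  obtain ⟨e, -, he⟩ := restrict_of_le_inertia Λ.B.R Λ.isIrr_φ H hRH hT ψ.2 hc
  rw [he, classInner_smul_left, classInner_self_irr Λ.isIrr_φ, mul_one, ← Λ.φ_one]
  exact (congrFun he 1).symm

theorem sum_sq_H (hRH : Λ.B.R ≤ H)
    [DecidablePred fun ψ : IrrCharacter H =>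
      classInner (fun r : Λ.B.R => ψ.1 ⟨r, hRH r.2⟩) Λ.φ ≠ 0] :
    ∑ ψ ∈ Finset.univ.filter (fun ψ : IrrCharacter H =>
        classInner (fun r : Λ.B.R => ψ.1 ⟨r, hRH r.2⟩) Λ.φ ≠ 0), (ψ.1 1) ^ 2 =
      (Nat.card H : ℂ) * ((Λ.B.n : ℂ) * Λ.B.n / Nat.card Λ.B.R) := by
  classical
  have h : ∑ ψ : IrrCharacter H, ψ.1 1 * classInner (fun r : Λ.B.R => ψ.1 ⟨r, hRH r.2⟩) Λ.φ =
      (Nat.card H : ℂ) * ((Λ.B.n : ℂ) / Nat.card Λ.B.R) := by
    simp only [classInner_def, Finset.mul_sum]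
    rw [Finset.sum_comm, Finset.sum_eq_single (1 : Λ.B.R)]
    · rw [Finset.sum_congr rfl (g := fun ψ : IrrCharacter H =>
          ((Nat.card Λ.B.R : ℂ)⁻¹ * conj (Λ.φ 1)) * (ψ.1 1 * ψ.1 1))
        (fun ψ _ => by rw [show (⟨((1 : Λ.B.R) : G), hRH (1 : Λ.B.R).2⟩ : H) = 1 from rfl]; ring),
        ← Finset.mul_sum, sum_deg_mul, if_pos rfl, Λ.φ_one, Complex.conj_natCast]
      ring
    · intro r _ hr
      rw [Finset.sum_congr rfl (g := fun ψ : IrrCharacter H =>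
          ((Nat.card Λ.B.R : ℂ)⁻¹ * conj (Λ.φ r)) * (ψ.1 1 * ψ.1 ⟨r, hRH r.2⟩))
        (fun ψ _ => by ring), ← Finset.mul_sum, sum_deg_mul,
        if_neg (fun e : (⟨(r : G), hRH r.2⟩ : H) = 1 =>
          hr (Subtype.ext (show (r : G) = 1 from congrArg Subtype.val e))), mul_zero]
    · simp
  rw [mul_div_assoc, ← mul_assoc, mul_comm (Nat.card H : ℂ) (Λ.B.n : ℂ), mul_assoc, ← h,
    Finset.mul_sum, Finset.sum_filter]
  refine Finset.sum_congr rfl fun ψ _ => ?_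
  rcases Λ.mult_H H hRH ψ with hm | hm
  · by_cases hne : classInner (fun r : Λ.B.R => ψ.1 ⟨r, hRH r.2⟩) Λ.φ ≠ 0
    · rw [if_pos hne, sq]
      conv_lhs => arg 2; rw [← hm]
      ring
    · rw [if_neg hne, not_not.mp hne, mul_zero, mul_zero]
  · rw [if_neg (not_not.mpr hm), hm, mul_zero, mul_zero]

theorem card_relation (hH : H = Λ.B.R ⊔ F.C) :
    (Nat.card H : ℂ) * Nat.card Λ.E' * Nat.card Λ.Rad = Nat.card G := by
  have h1 : Nat.card Λ.E = Nat.card Λ.E' * Nat.card Λ.Rad :=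
    Subgroup.card_eq_card_quotient_mul_card_subgroup Λ.Rad
  have h2 : Nat.card F.K = Nat.card Λ.E * Nat.card Λ.B.R := by
    rw [Subgroup.card_eq_card_quotient_mul_card_subgroup (Λ.B.R.subgroupOf F.K),
      Nat.card_congr (Subgroup.subgroupOfEquivOfLe Λ.ge).toEquiv]
  haveI : Fintype F.K := Fintype.ofFinite _
  subst hH
  have hinf : F.K ⊓ (Λ.B.R ⊔ F.C) = Λ.B.R := by
    refine le_antisymm (fun x hx => ?_) (le_inf Λ.ge le_sup_left)
    have hx2 : x ∈ (Λ.B.R : Set G) * (F.C : Set G) := by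
      rw [← Subgroup.normal_mul Λ.B.R F.C]
      exact hx.2
    obtain ⟨r, hr, c, hc, rfl⟩ := hx2
    refine Λ.B.R.mul_mem hr (Λ.le (F.inter ⟨?_, hc⟩))
    have := F.K.mul_mem (F.K.inv_mem (Λ.ge hr)) hx.1
    simpa using this
  have h3 := sum_sum_mul_eq F.K (Λ.B.R ⊔ F.C) Λ.B.R F.normalK
    (top_le_iff.mp (F.sup ▸ sup_le_sup_left le_sup_right F.K)) hinf (fun _ => (1 : ℕ))
  simp only [Finset.sum_const, Finset.card_univ, smul_eq_mul, mul_one, ← Nat.card_eq_fintype_card,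
    h2, h1] at h3
  have h4 : (Nat.card ↥(Λ.B.R ⊔ F.C) : ℂ) * (Nat.card Λ.E' * Nat.card Λ.Rad * Nat.card Λ.B.R) =
      Nat.card Λ.B.R * Nat.card G := by exact_mod_cast h3
  apply mul_right_cancel₀ Λ.card_R_ne
  linear_combination h4

/-- The correspondence over a level. -/
theorem correspondence (hH : H = Λ.B.R ⊔ F.C) (hRH : Λ.B.R ≤ H) :
    (∀ χ : IrrCharacter G, Λ.IsOver χ.1 → ∃ ψ : IrrCharacter H,
      classInner (fun r : Λ.B.R => ψ.1 ⟨r, hRH r.2⟩) Λ.φ ≠ 0 ∧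
      ∀ ψ' : IrrCharacter H, OddMult H χ.1 ψ'.1 ↔ ψ' = ψ) ∧
    (∀ χ χ' : IrrCharacter G, Λ.IsOver χ.1 → Λ.IsOver χ'.1 → ∀ ψ : IrrCharacter H,
      OddMult H χ.1 ψ.1 → OddMult H χ'.1 ψ.1 → χ = χ') ∧
    (∀ ψ : IrrCharacter H, classInner (fun r : Λ.B.R => ψ.1 ⟨r, hRH r.2⟩) Λ.φ ≠ 0 →
      ∃ χ : IrrCharacter G, Λ.IsOver χ.1 ∧ OddMult H χ.1 ψ.1) := by
  classical
  have hA : ∀ χ : IrrCharacter G, Λ.IsOver χ.1 → ∃ ψ : IrrCharacter H,
      classInner (fun r : Λ.B.R => ψ.1 ⟨r, hRH r.2⟩) Λ.φ ≠ 0 ∧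
      (∀ ψ' : IrrCharacter H, OddMult H χ.1 ψ'.1 ↔ ψ' = ψ) ∧
      (ψ.1 1) ^ 2 * (Nat.card Λ.E' : ℂ) = (χ.1 1) ^ 2 := by
    rintro ⟨χ, m, σ, hσ, rfl⟩ ho
    have hσo : Λ.Over σ := (Λ.over_iff σ).mpr ho
    refine ⟨⟨_, isIrr_D H hH hσo⟩, over_D H hRH hσo,
      fun ψ' => (oddMult_iff H hH hσo ψ'.2).trans
      ⟨fun e => Subtype.ext e, fun e => congrArg Subtype.val e⟩, ?_⟩
    show (Λ.D H σ 1) ^ 2 * _ = (σ.character 1) ^ 2
    rw [D_one H hσo, Representation.char_one, ← Λ.sn_mul]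
    field_simp [Λ.sn_ne]
  have hB : ∀ χ χ' : IrrCharacter G, Λ.IsOver χ.1 → Λ.IsOver χ'.1 → ∀ ψ : IrrCharacter H,
      OddMult H χ.1 ψ.1 → OddMult H χ'.1 ψ.1 → χ = χ' := by
    rintro ⟨χ, m, σ, hσ, rfl⟩ ⟨χ', m', σ', hσ', rfl⟩ ho ho' ψ h h'
    have hσo : Λ.Over σ := (Λ.over_iff σ).mpr ho
    have hσo' : Λ.Over σ' := (Λ.over_iff σ').mpr ho'
    have e := (oddMult_iff H hH hσo ψ.2).mp h
    have e' := (oddMult_iff H hH hσo' ψ.2).mp h'
    have hh := classInner_D H hH hσo hσo'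
    rw [← e, ← e', classInner_self_irr ψ.2,
      classInner_irrChar ⟨_, σ, hσ, rfl⟩ ⟨_, σ', hσ', rfl⟩] at hh
    by_contra hne
    rw [if_neg fun h => hne (Subtype.ext h)] at hh
    exact one_ne_zero hh
  refine ⟨fun χ hχ => ?_, hB, fun ψ hψ => ?_⟩
  · obtain ⟨ψ, h1, h2, -⟩ := hA χ hχ
    exact ⟨ψ, h1, h2⟩
  choose c hc1 hc2 hc3 using hA
  set A := Finset.univ.filter (fun χ : IrrCharacter G => Λ.IsOver χ.1) with hAdef
  set B := Finset.univ.filter (fun ψ : IrrCharacter H =>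
    classInner (fun r : Λ.B.R => ψ.1 ⟨r, hRH r.2⟩) Λ.φ ≠ 0) with hBdef
  by_contra hno
  push Not at hno
  let f : {χ // χ ∈ A} → IrrCharacter H := fun x => c x.1 (Finset.mem_filter.mp x.2).2
  have hinj : Function.Injective f := fun x y hxy => Subtype.ext (hB _ _
    (Finset.mem_filter.mp x.2).2 (Finset.mem_filter.mp y.2).2 (f x)
    ((hc2 _ _ _).mpr rfl) ((hc2 _ _ _).mpr hxy))
  have hsub : A.attach.image f ⊆ B.erase ψ := by
    intro x hx
    obtain ⟨y, -, rfl⟩ := Finset.mem_image.mp hx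
    refine Finset.mem_erase.mpr ⟨fun e => ?_, Finset.mem_filter.mpr ⟨Finset.mem_univ _, hc1 _ _⟩⟩
    exact hno y.1 (Finset.mem_filter.mp y.2).2 ((hc2 _ _ _).mpr e.symm)
  have hsumA : ∑ χ ∈ A, (χ.1 1) ^ 2 = (Nat.card Λ.E' : ℂ) * ∑ x ∈ A.attach.image f, (x.1 1) ^ 2 := by
    rw [Finset.sum_image fun x _ y _ h => hinj h, Finset.mul_sum, ← Finset.sum_attach A]
    exact Finset.sum_congr rfl fun x _ => by rw [mul_comm]; exact (hc3 _ _).symm
  have hsumB : ∑ x ∈ B, (x.1 1) ^ 2 = ∑ x ∈ A.attach.image f, (x.1 1) ^ 2 := by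
    apply mul_left_cancel₀ (Nat.cast_ne_zero.mpr (Nat.card_pos (α := Λ.E')).ne' :
      (Nat.card Λ.E' : ℂ) ≠ 0)
    rw [← hsumA, hBdef, hAdef, Λ.sum_sq_H H hRH, Λ.sum_sq_over, Λ.eps_coeff_one,
      ← Λ.card_relation H hH]
    field_simp [Λ.card_Rad_ne, Λ.card_R_ne]
  have key : ∀ s : Finset (IrrCharacter H),
      ∑ x ∈ s, (x.1 1) ^ 2 = ((∑ x ∈ s, deg (x.1) ^ 2 : ℕ) : ℂ) := fun s => by
    push_cast
    exact Finset.sum_congr rfl fun x _ => by rw [irr_apply_one_eq_deg]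
  rw [key, key, Nat.cast_inj] at hsumB
  have hψB : ψ ∈ B := Finset.mem_filter.mpr ⟨Finset.mem_univ _, hψ⟩
  have h5 := Finset.add_sum_erase B (fun x => deg (x.1) ^ 2) hψB
  have h6 := Finset.sum_le_sum_of_subset (f := fun x : IrrCharacter H => deg (x.1) ^ 2) hsub
  have h7 : 0 < deg (ψ.1) ^ 2 := pow_pos (deg_irr_pos ψ) 2
  omega

end Main

end Lev

end Cfsg.Lib.IsaacsStep
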