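import Cfsg.Agent.Chars.Inertia
import Cfsg.Agent.Chars.Constituent

/-!
# The Clifford correspondence and automorphisms
-/

set_option autoImplicit false
set_option linter.unusedSectionVars false

namespace Cfsg.Lib.IsaacsStep

open Cfsg Cfsg.Lib.Chars

universe u

variable {X : Type u} [Group X] [Fintype X] {N : Subgroup X} [N.Normal] [Fintype N]
  {θ : N → ℂ} (hθ : IsIrrCharacter N θ) (T : Subgroup X) [Fintype T] (hT : T = inertia N θ)
  (hNT : N ≤ T)

/-- `η` lies over `θ`. -/
def LiesOver (η : T → ℂ) (θ : N → ℂ) : Prop :=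
  classInner (fun n : N => η ⟨n, hNT n.2⟩) θ ≠ 0

include hθ hT in
theorem clifford_down {χ : X → ℂ} (hχ : IsIrrCharacter X χ)
    (hc : classInner (fun n : N => χ n) θ ≠ 0) :
    ∃ η : T → ℂ, IsIrrCharacter T η ∧ LiesOver T hNT η θ ∧ indFun T η = χ ∧
      classInner (fun t : T => χ t) η = 1 ∧
      ∀ η' : T → ℂ, IsIrrCharacter T η' → classInner (fun t : T => χ t) η' ≠ 0 →
        LiesOver T hNT η' θ → η' = η := by
  obtain ⟨η, hη, h1, h2⟩ := exists_constituent_over T hNT (isCharacter_of_irr hχ) hc
  obtain ⟨hind, -, hu⟩ := clifford_correspondence hθ T hT hNT hχ hη h1 h2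
  refine ⟨η, hη, h2, hind, ?_, hu⟩
  rw [← frobenius_reciprocity' T η (isClassFunction_isChar (isCharacter_of_irr hχ)), hind,
    classInner_self_irr hχ]

include hθ hT in
theorem clifford_up {η : T → ℂ} (hη : IsIrrCharacter T η) (ho : LiesOver T hNT η θ) :
    IsIrrCharacter X (indFun T η) ∧ classInner (fun t : T => indFun T η t) η ≠ 0 ∧
      classInner (fun n : N => indFun T η n) θ ≠ 0 := by
  obtain ⟨χ, hχ, h1⟩ : ∃ χ : X → ℂ, IsIrrCharacter X χ ∧ classInner (fun t : T => χ t) η ≠ 0 := by
    by_contra h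
    push Not at h
    have h0 := eq_zero_of_classInner_eq_zero (isClassFunction_indFun (G := X) T η) fun χ => by
      rw [frobenius_reciprocity T η (isClassFunction_irr χ), ← classInner_conj_symm, h χ χ.2,
        map_zero]
    have h1 := congrFun h0 1
    rw [indFun_one, Pi.zero_apply, mul_eq_zero, Nat.cast_eq_zero] at h1
    exact h1.elim T.index_ne_zero_of_finite (IsIrrCharacter.apply_one_ne_zero hη)
  obtain ⟨hind, -, -⟩ := clifford_correspondence hθ T hT hNT hχ hη h1 ho
  rw [hind]
  exact ⟨hχ, h1, classInner_pullback_ne_zero (Subgroup.inclusion hNT)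
    (IsCharacter.restrict (isCharacter_of_irr hχ) T) hη h1 hθ ho⟩

variable (α : MulAut X) (hN : ∀ n ∈ N, α n ∈ N)
  (hα : ∀ n n' : N, (n' : X) = α n → θ n' = θ n)

include hT hN hα in
theorem inertia_stable {g : X} (hg : g ∈ T) : α g ∈ T := by
  rw [hT, mem_inertia] at hg ⊢
  funext n
  have hs : Function.Surjective (fun m : N => (⟨α m, hN m m.2⟩ : N)) :=
    Finite.injective_iff_surjective.mp
      fun _ _ h => Subtype.ext (α.injective (congrArg Subtype.val h))
  obtain ⟨m, hm⟩ := hs n
  have hm' : (n : X) = α m := by rw [← hm]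
  rw [hα m n hm', ← congrFun hg m]
  exact hα _ _ (show α g * (n : X) * (α g)⁻¹ = α (g * m * g⁻¹) by
    rw [hm', map_mul, map_mul, map_inv])

/-- The automorphism of the inertia group. -/
noncomputable def inertiaAut : T ≃* T :=
  MulEquiv.ofBijective
    ({ toFun := fun t => ⟨α t, inertia_stable T hT α hN hα t.2⟩
       map_one' := Subtype.ext (map_one α)
       map_mul' := fun a b => Subtype.ext (map_mul α _ _) } : T →* T)
    (Finite.injective_iff_bijective.mp fun _ _ h =>
      Subtype.ext (α.injective (congrArg Subtype.val h)))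

include hN hα in
theorem liesOver_comp {η : T → ℂ} (ho : LiesOver T hNT η θ) :
    LiesOver T hNT (fun t => η (inertiaAut T hT α hN hα t)) θ := by
  let e : N ≃ N := Equiv.ofBijective (fun n => (⟨α n, hN n n.2⟩ : N))
    (Finite.injective_iff_bijective.mp fun _ _ h =>
      Subtype.ext (α.injective (congrArg Subtype.val h)))
  intro h0
  apply ho
  rw [← classInner_comp_equiv e]
  refine Eq.trans ?_ h0
  rw [show (fun n : N => θ (e n)) = θ from funext fun n => hα n (e n) rfl]
  rfl

include hθ hN hα in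
theorem down_invariant {χ : X → ℂ} (hχ : IsIrrCharacter X χ) (hinv : ∀ x, χ (α x) = χ x)
    {η : T → ℂ} (hη : IsIrrCharacter T η) (h1 : classInner (fun t : T => χ t) η ≠ 0)
    (ho : LiesOver T hNT η θ) (t : T) : η (inertiaAut T hT α hN hα t) = η t := by
  obtain ⟨-, -, hu⟩ := clifford_correspondence hθ T hT hNT hχ hη h1 ho
  refine congrFun (hu _ (IsIrrCharacter.comp_mulEquiv hη (inertiaAut T hT α hN hα)) ?_
    (liesOver_comp T hT hNT α hN hα ho)) t
  intro h0
  apply h1
  rw [← classInner_comp_equiv (inertiaAut T hT α hN hα).toEquiv]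
  refine Eq.trans ?_ h0
  congr 1
  funext t
  exact hinv t

include hθ hN hα in
theorem up_invariant {η : T → ℂ} (hη : IsIrrCharacter T η) (ho : LiesOver T hNT η θ)
    (hinv : ∀ t, η (inertiaAut T hT α hN hα t) = η t) (x : X) :
    indFun T η (α x) = indFun T η x := by
  obtain ⟨h1, h2, -⟩ := clifford_up hθ T hT hNT hη ho
  have h3 : classInner (fun t : T => indFun T η (α t)) η ≠ 0 := by
    intro h0
    apply h2
    rw [← classInner_comp_equiv (inertiaAut T hT α hN hα).toEquiv]
    refine Eq.trans ?_ h0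
    rw [show (fun t => η ((inertiaAut T hT α hN hα).toEquiv t)) = η from funext hinv]
    rfl
  exact (congrFun (clifford_correspondence hθ T hT hNT (IsIrrCharacter.comp_mulEquiv h1 α) hη h3 ho).1
    x).symm

end Cfsg.Lib.IsaacsStep
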