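import Cfsg.Agent.Chars.IsaacsStep.Reduce

/-!
# The correspondence
-/

set_option autoImplicit false
set_option linter.unusedSectionVars false

namespace Cfsg.Lib.IsaacsStep

open Cfsg Cfsg.Lib.Chars
open scoped Pointwise

universe u v

variable {G : Type u} [Group G] [Fintype G] {S : Type v} [Group S] [Fintype S]

namespace Frame

variable (F : Frame G S) [Fintype F.L] (H : Subgroup G) [Fintype H] (hH : H = F.L ⊔ F.C)

include hH in
theorem mem_H {x : G} (hx : x ∈ H) : ∃ l ∈ F.L, ∃ c ∈ F.C, l * c = x := by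
  subst hH
  have h : x ∈ (F.L : Set G) * (F.C : Set G) := by
    rw [← Subgroup.normal_mul F.L F.C]; exact hx
  obtain ⟨l, hl, c, hc, h⟩ := h
  exact ⟨l, hl, c, hc, h⟩

include hH in
theorem L_le_H : F.L ≤ H := hH ▸ le_sup_left

include hH in
theorem C_le_H : F.C ≤ H := hH ▸ le_sup_right

include hH in
/-- Two constituents of the restriction of an irreducible character of `H` are `C`-conjugate. -/
theorem exists_conj_H {ψ : H → ℂ} (hψ : IsIrrCharacter H ψ) {θ θ' : F.L → ℂ}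
    (hθ : IsIrrCharacter F.L θ) (hθ' : IsIrrCharacter F.L θ')
    (h1 : classInner (fun l : F.L => ψ ⟨l, F.L_le_H H hH l.2⟩) θ ≠ 0)
    (h2 : classInner (fun l : F.L => ψ ⟨l, F.L_le_H H hH l.2⟩) θ' ≠ 0) :
    ∃ c ∈ F.C, θ' = conjN F.L c θ := by
  haveI : Fintype (F.L.subgroupOf H) := Fintype.ofFinite _
  let e := Subgroup.subgroupOfEquivOfLe (F.L_le_H H hH)
  have hd : ∀ f : F.L → ℂ, classInner (fun x : F.L.subgroupOf H => ψ x) (fun x => f (e x)) =
      classInner (fun l : F.L => ψ ⟨l, F.L_le_H H hH l.2⟩) f := fun f =>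
    classInner_comp_equiv e.toEquiv (fun l : F.L => ψ ⟨l, F.L_le_H H hH l.2⟩) f
  obtain ⟨h, hh⟩ := exists_conjN_of_constituents (F.L.subgroupOf H) hψ
    (IsIrrCharacter.comp_mulEquiv hθ e) (IsIrrCharacter.comp_mulEquiv hθ' e)
    (fun h0 => h1 ((hd θ).symm.trans h0)) (fun h0 => h2 ((hd θ').symm.trans h0))
  have h3 : θ' = conjN F.L (h : G) θ := funext fun l => by
    have := congrFun hh (e.symm l)
    rw [MulEquiv.apply_symm_apply] at this
    exact this
  obtain ⟨l, hl, c, hc, hlc⟩ := F.mem_H H hH h.2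
  refine ⟨c, hc, ?_⟩
  rw [h3, ← hlc, conjN_mul,
    conjN_of_mem (isClassFunction_isChar (isCharacter_of_irr hθ)) ⟨l, hl⟩]

include hH in
theorem constituent_sInv {ψ : H → ℂ} (hψ : IsIrrCharacter H ψ) (hinv : F.Inv H ψ) {θ : F.L → ℂ}
    (hθ : IsIrrCharacter F.L θ)
    (h1 : classInner (fun l : F.L => ψ ⟨l, F.L_le_H H hH l.2⟩) θ ≠ 0) (s : S) : F.sL s θ = θ := by
  let e : F.L ≃* F.L := F.restrAct F.L F.actL s
  have h2 : classInner (fun l : F.L => ψ ⟨l, F.L_le_H H hH l.2⟩) (F.sL s θ) ≠ 0 := by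
    intro h0
    apply h1
    rw [← classInner_comp_equiv e.toEquiv]
    refine Eq.trans ?_ h0
    congr 1
    funext l
    exact hinv s _ _ rfl
  obtain ⟨c, hc, hce⟩ := F.exists_conj_H H hH hψ hθ (IsIrrCharacter.comp_mulEquiv hθ e) h1 h2
  change F.sL s θ = _ at hce
  have hn : ∀ n : ℕ, F.sL (s ^ n) θ = conjN F.L (c ^ n) θ := by
    intro n
    induction n with
    | zero => rw [pow_zero, pow_zero, sL_one, conjN_one]
    | succ n ih =>
      rw [pow_succ, ← sL_sL, ih, sL_conjN, hce, ← conjN_mul, map_pow, F.actC _ c hc, ← pow_succ']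
  have h3 := hn (Fintype.card S)
  rw [pow_card_eq_one, sL_one] at h3
  rw [hce]
  exact mem_inertia.mp (F.pow_mem_cancel (T := inertia F.L θ) (mem_inertia.mpr h3.symm))

section Inertia

variable (θ : F.L → ℂ) (hθ : IsIrrCharacter F.L θ) (hS : ∀ s, F.sL s θ = θ)

include hS in
theorem inertia_act (s : S) {x : G} (hx : x ∈ inertia F.L θ) : F.act s x ∈ inertia F.L θ := by
  rw [mem_inertia] at hx ⊢
  have h := congrArg (F.sL s⁻¹) hx
  rwa [sL_conjN, inv_inv, hS] at h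

include hθ hS in
theorem inertia_split {g : G} (hg : g ∈ inertia F.L θ) :
    ∃ k ∈ F.K, ∃ c ∈ F.C, k ∈ inertia F.L θ ∧ c ∈ inertia F.L θ ∧ k * c = g := by
  obtain ⟨k, hk, c, hc, rfl⟩ := F.exists_KC g
  have hkI : k ∈ inertia F.L θ := F.coset_inertia hθ hS hk fun s => by
    have h := Subgroup.mul_mem _ (F.inertia_act θ hS s hg) (Subgroup.inv_mem _ hg)
    rw [map_mul, F.actC s c hc] at h
    simpa [mul_assoc] using h
  exact ⟨k, hk, c, hc, hkI, ((inertia F.L θ).mul_mem_cancel_left hkI).mp hg, rfl⟩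

/-- The action on the inertia group. -/
noncomputable def actI : S →* MulAut (inertia F.L θ) where
  toFun := F.restrAct (inertia F.L θ) (fun s _ hx => F.inertia_act θ hS s hx)
  map_one' := MulEquiv.ext fun x => Subtype.ext (show F.act 1 x = x by rw [map_one]; rfl)
  map_mul' s t := MulEquiv.ext fun x => Subtype.ext
    (show F.act (s * t) x = F.act s (F.act t x) by rw [map_mul]; rfl)

/-- The frame of the inertia group. -/
noncomputable def inertiaFrame : Frame (inertia F.L θ) S where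
  K := F.K.subgroupOf (inertia F.L θ)
  L := F.L.subgroupOf (inertia F.L θ)
  C := F.C.subgroupOf (inertia F.L θ)
  normalK := inferInstance
  normalL := inferInstance
  le := fun _ hx => F.le hx
  abelian := fun x hx y hy => F.abelian _ hx _ hy
  sup := by
    rw [eq_top_iff]
    rintro ⟨g, hg⟩ -
    obtain ⟨k, hk, c, hc, hkI, hcI, rfl⟩ := F.inertia_split θ hθ hS hg
    exact Subgroup.mul_mem_sup (S := F.K.subgroupOf (inertia F.L θ))
      (show (⟨k, hkI⟩ : inertia F.L θ) ∈ F.K.subgroupOf (inertia F.L θ) from hk)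
      (show (⟨c, hcI⟩ : inertia F.L θ) ∈ F.C.subgroupOf (inertia F.L θ) from hc)
  inter := fun _ hx => F.inter hx
  odd := F.odd.of_dvd_nat (Subgroup.card_subgroup_dvd_card _)
  cop := F.cop.coprime_dvd_right (Subgroup.card_subgroup_dvd_card _)
  act := F.actI θ hS
  actK := fun s x hx => F.actK s _ hx
  actL := fun s x hx => F.actL s _ hx
  actC := fun s x hx => Subtype.ext (F.actC s _ hx)
  coset := fun x hx h => F.coset _ hx fun s => h s

end Inertia

include hH in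
/-- The step for one invariant constituent. -/
theorem step {θ : F.L → ℂ} (hθ : IsIrrCharacter F.L θ) (hS : ∀ s, F.sL s θ = θ) :
    (∀ χ : IrrCharacter G, (∀ s g, χ.1 (F.act s g) = χ.1 g) →
      classInner (fun l : F.L => χ.1 l) θ ≠ 0 → ∃ ψ : IrrCharacter H, F.Inv H ψ.1 ∧
        OddMult H χ.1 ψ.1 ∧ ∀ ψ' : IrrCharacter H, F.Inv H ψ'.1 →
          classInner (fun l : F.L => ψ'.1 ⟨l, F.L_le_H H hH l.2⟩) θ ≠ 0 →
          OddMult H χ.1 ψ'.1 → ψ' = ψ) ∧
    (∀ χ χ' : IrrCharacter G, (∀ s g, χ.1 (F.act s g) = χ.1 g) →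
      (∀ s g, χ'.1 (F.act s g) = χ'.1 g) → classInner (fun l : F.L => χ.1 l) θ ≠ 0 →
      classInner (fun l : F.L => χ'.1 l) θ ≠ 0 → ∀ ψ : IrrCharacter H, F.Inv H ψ.1 →
      classInner (fun l : F.L => ψ.1 ⟨l, F.L_le_H H hH l.2⟩) θ ≠ 0 →
      OddMult H χ.1 ψ.1 → OddMult H χ'.1 ψ.1 → χ = χ') ∧
    (∀ ψ : IrrCharacter H, F.Inv H ψ.1 →
      classInner (fun l : F.L => ψ.1 ⟨l, F.L_le_H H hH l.2⟩) θ ≠ 0 →
      ∃ χ : IrrCharacter G, (∀ s g, χ.1 (F.act s g) = χ.1 g) ∧ OddMult H χ.1 ψ.1) := by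
  classical
  have hLH := F.L_le_H H hH
  set T := inertia F.L θ with hT
  have hLT : F.L ≤ T := le_inertia (isClassFunction_isChar (isCharacter_of_irr hθ))
  haveI : Fintype T := Fintype.ofFinite _
  have hθS : ∀ (s : S) (n n' : F.L), (n' : G) = F.act s n → θ n' = θ n :=
    (F.inv_L_iff θ).mpr hS
  -- the frame on the inertia group
  let F' := F.inertiaFrame θ hθ hS
  let eT := Subgroup.subgroupOfEquivOfLe hLT
  let θT : F'.L → ℂ := fun x => θ (eT x)
  have hθT : IsIrrCharacter F'.L θT := IsIrrCharacter.comp_mulEquiv hθ eT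
  let HT : Subgroup T := F'.L ⊔ F'.C
  haveI : Fintype HT := Fintype.ofFinite _
  have hmemHT : ∀ x : T, x ∈ HT ↔ (x : G) ∈ H := by
    intro x
    constructor
    · intro hx
      exact (sup_le (a := F'.L) (b := F'.C) (c := H.subgroupOf T) (fun y hy => hLH hy)
        (fun y hy => F.C_le_H H hH hy)) hx
    · intro hx
      obtain ⟨l, hl, c, hc, hlc⟩ := F.mem_H H hH hx
      have hcT : c ∈ T := (T.mul_mem_cancel_left (hLT hl)).mp (hlc ▸ x.2)
      rw [show x = (⟨l, hLT hl⟩ : T) * ⟨c, hcT⟩ from Subtype.ext hlc.symm]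
      exact Subgroup.mul_mem_sup (S := F'.L)
        (show (⟨l, hLT hl⟩ : T) ∈ F'.L from hl) (show (⟨c, hcT⟩ : T) ∈ F'.C from hc)
  have hLHT : F'.L ≤ HT := le_sup_left
  obtain ⟨hA, hB, hC⟩ := F'.correspondence_of_invariant HT rfl hLHT hθT
    (fun g => funext fun x => congrFun (mem_inertia.mp g.2) (eT x))
    (fun s => funext fun x => congrFun (hS s) (eT x))
  -- the Clifford data in `H`
  haveI : Fintype (F.L.subgroupOf H) := Fintype.ofFinite _
  let eH := Subgroup.subgroupOfEquivOfLe hLH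
  let θH : F.L.subgroupOf H → ℂ := fun x => θ (eH x)
  have hθH : IsIrrCharacter (F.L.subgroupOf H) θH := IsIrrCharacter.comp_mulEquiv hθ eH
  set T' := inertia (F.L.subgroupOf H) θH with hT'
  haveI : Fintype T' := Fintype.ofFinite _
  have hLT' : F.L.subgroupOf H ≤ T' := le_inertia (isClassFunction_isChar (isCharacter_of_irr hθH))
  have hmemT' : ∀ x : H, x ∈ T' ↔ (x : G) ∈ T := by
    intro x
    rw [hT', mem_inertia, hT, mem_inertia]
    refine ⟨fun h => funext fun l => ?_, fun h => funext fun y => congrFun h (eH y)⟩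
    have := congrFun h (eH.symm l)
    simp only [θH, MulEquiv.apply_symm_apply] at this
    exact this
  let e : T' ≃* HT :=
    { toFun := fun x => ⟨⟨((x : H) : G), (hmemT' x).mp x.2⟩, (hmemHT _).mpr (x : H).2⟩
      invFun := fun y => ⟨⟨((y : T) : G), (hmemHT _).mp y.2⟩, (hmemT' _).mpr (y : T).2⟩
      left_inv := fun x => rfl
      right_inv := fun y => rfl
      map_mul' := fun a b => rfl }
  have hoverT : ∀ ψ0 : HT → ℂ, classInner (fun l : F'.L => ψ0 ⟨l, hLHT l.2⟩) θT ≠ 0 ↔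
      LiesOver T' hLT' (fun t => ψ0 (e t)) θH := by
    intro ψ0
    unfold LiesOver
    refine Iff.of_eq (congrArg (· ≠ 0) ?_)
    refine (classInner_comp_equiv (eH.trans eT.symm).toEquiv (fun l : F'.L => ψ0 ⟨l, hLHT l.2⟩)
      θT).symm.trans ?_
    congr 1
  have hres : ∀ f : F.L → ℂ, classInner (fun x : F.L.subgroupOf H => f (eH x)) θH = classInner f θ :=
    fun f => classInner_comp_equiv eH.toEquiv f θ
  have hresT : ∀ f : F.L → ℂ, classInner (fun x : F'.L => f (eT x)) θT = classInner f θ :=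
    fun f => classInner_comp_equiv eT.toEquiv f θ
  let aH : S → MulAut H := F.restrAct H (fun s _ hx => F.stable_H H hH s hx)
  have haN : ∀ s, ∀ x ∈ F.L.subgroupOf H, aH s x ∈ F.L.subgroupOf H := fun s x hx => F.actL s _ hx
  have haθ : ∀ (s : S) (n n' : F.L.subgroupOf H), (n' : H) = aH s n → θH n' = θH n :=
    fun s n n' h => hθS s _ _ (congrArg Subtype.val h)
  -- the key multiplicity identity
  have key : ∀ (χ : IrrCharacter G) (η : T → ℂ), IsIrrCharacter T η →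
      LiesOver T hLT η θ → classInner (fun t : T => χ.1 t) η = 1 →
      (∀ η' : T → ℂ, IsIrrCharacter T η' → classInner (fun t : T => χ.1 t) η' ≠ 0 →
        LiesOver T hLT η' θ → η' = η) →
      ∀ ψ0 : IrrCharacter HT, classInner (fun l : F'.L => ψ0.1 ⟨l, hLHT l.2⟩) θT ≠ 0 →
      classInner (fun h : H => χ.1 h) (indFun T' (fun t => ψ0.1 (e t))) =
        classInner (fun x : HT => η x) ψ0.1 := by
    intro χ η hη ho h1 hu ψ0 hψ0
    rw [frobenius_reciprocity' T' _ (isClassFunction_isChar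
      (IsCharacter.restrict (isCharacter_of_irr χ.2) H))]
    rw [show classInner (fun t : T' => χ.1 ((t : H) : G)) (fun t => ψ0.1 (e t)) =
      classInner (fun x : HT => χ.1 ((x : T) : G)) ψ0.1 from
      classInner_comp_equiv e.toEquiv (fun x : HT => χ.1 ((x : T) : G)) ψ0.1]
    obtain ⟨m, hm⟩ := IsCharacter.exists_decomp (IsCharacter.restrict (isCharacter_of_irr χ.2) T)
    have h2 : (fun x : HT => χ.1 ((x : T) : G)) =
        ∑ φ : IrrCharacter T, m φ • (fun x : HT => φ.1 (x : T)) := by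
      funext x
      rw [show χ.1 ((x : T) : G) = (fun t : T => χ.1 t) (x : T) from rfl, hm]
      simp [Finset.sum_apply]
    have hmi : ∀ φ : IrrCharacter T, classInner (fun t : T => χ.1 t) φ.1 = (m φ : ℂ) := by
      intro φ
      rw [hm]
      simp only [← Nat.cast_smul_eq_nsmul ℂ]
      rw [classInner_irrSum (fun ψ => (m ψ : ℂ)) φ]
    rw [h2, classInner_sum_left, Finset.sum_eq_single (⟨η, hη⟩ : IrrCharacter T)]
    · have : m ⟨η, hη⟩ = 1 := Nat.cast_injective (R := ℂ) (by rw [← hmi, h1, Nat.cast_one])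
      rw [this, one_smul]
    · intro φ _ hne
      rw [classInner_nsmul_left]
      by_contra h0
      obtain ⟨h0m, h0i⟩ := mul_ne_zero_iff.mp h0
      refine hne (Subtype.ext (hu φ.1 φ.2 (by rw [hmi]; exact h0m) ?_))
      show classInner (fun l : F.L => φ.1 ⟨l, hLT l.2⟩) θ ≠ 0
      have h3 := classInner_pullback_ne_zero (Subgroup.inclusion hLHT)
        (IsCharacter.restrict (isCharacter_of_irr φ.2) HT) ψ0.2 h0i hθT hψ0
      rw [← hresT]
      exact h3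
    · simp
  have up : ∀ ψ0 : IrrCharacter HT, classInner (fun l : F'.L => ψ0.1 ⟨l, hLHT l.2⟩) θT ≠ 0 →
      F'.Inv HT ψ0.1 → IsIrrCharacter H (indFun T' (fun t => ψ0.1 (e t))) ∧
        F.Inv H (indFun T' (fun t => ψ0.1 (e t))) := by
    intro ψ0 ho hi
    have hη : IsIrrCharacter T' (fun t => ψ0.1 (e t)) := IsIrrCharacter.comp_mulEquiv ψ0.2 e
    refine ⟨(clifford_up hθH T' hT' hLT' hη ((hoverT _).mp ho)).1, fun s x x' hx => ?_⟩
    rw [show x' = aH s x from Subtype.ext hx]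
    exact up_invariant hθH T' hT' hLT' (aH s) (haN s) (haθ s) hη ((hoverT _).mp ho)
      (fun t => hi s (e t) _ rfl) x
  have down : ∀ ψ : IrrCharacter H, F.Inv H ψ.1 →
      classInner (fun l : F.L => ψ.1 ⟨l, hLH l.2⟩) θ ≠ 0 →
      ∃ ψ0 : IrrCharacter HT, F'.Inv HT ψ0.1 ∧
        classInner (fun l : F'.L => ψ0.1 ⟨l, hLHT l.2⟩) θT ≠ 0 ∧
        indFun T' (fun t => ψ0.1 (e t)) = ψ.1 := by
    intro ψ hi hc
    obtain ⟨η, hη, ho, hind, h1, -⟩ := clifford_down hθH T' hT' hLT' ψ.2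
      (fun h0 => hc ((hres _).symm.trans h0))
    have hne : classInner (fun t : T' => ψ.1 t) η ≠ 0 := by rw [h1]; exact one_ne_zero
    have he : (fun t => η (e.symm (e t))) = η := funext fun t => by rw [MulEquiv.symm_apply_apply]
    refine ⟨⟨fun x => η (e.symm x), IsIrrCharacter.comp_mulEquiv hη e.symm⟩, fun s x x' hx => ?_,
      (hoverT _).mpr (by rw [he]; exact ho), by rw [he]; exact hind⟩
    have h2 := down_invariant hθH T' hT' hLT' (aH s) (haN s) (haθ s) ψ.2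
      (fun y => hi s y _ rfl) hη hne ho (e.symm x)
    refine Eq.trans ?_ h2
    show η (e.symm x') = _
    congr 1
    exact Subtype.ext (Subtype.ext (congrArg (fun z : T => (z : G)) hx :))
  have downG : ∀ χ : IrrCharacter G, (∀ s g, χ.1 (F.act s g) = χ.1 g) →
      classInner (fun l : F.L => χ.1 l) θ ≠ 0 →
      ∃ η : IrrCharacter T, (∀ s g, η.1 (F'.act s g) = η.1 g) ∧
        classInner (fun x : F'.L => η.1 x) θT ≠ 0 ∧ indFun T η.1 = χ.1 ∧
        ∀ ψ0 : IrrCharacter HT, classInner (fun l : F'.L => ψ0.1 ⟨l, hLHT l.2⟩) θT ≠ 0 →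
          classInner (fun h : H => χ.1 h) (indFun T' (fun t => ψ0.1 (e t))) =
            classInner (fun x : HT => η.1 x) ψ0.1 := by
    intro χ hi hc
    obtain ⟨η, hη, ho, hind, h1, hu⟩ := clifford_down hθ T hT hLT χ.2 hc
    refine ⟨⟨η, hη⟩, fun s t => ?_, ?_, hind, key χ η hη ho h1 hu⟩
    · have h2 := down_invariant hθ T hT hLT (F.act s) (F.actL s) (hθS s) χ.2 (hi s) hη
        (by rw [h1]; exact one_ne_zero) ho t
      exact h2
    · intro h0
      exact ho ((hresT _).symm.trans h0)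
  refine ⟨fun χ hi hc => ?_, fun χ χ' hi hi' hc hc' ψ hψ hψc ho ho' => ?_, fun ψ hψ hψc => ?_⟩
  · obtain ⟨η, hηi, hηc, -, hkey⟩ := downG χ hi hc
    obtain ⟨ψ0, hψ0i, hψ0c, hψ0⟩ := hA η hηi hηc
    obtain ⟨hirr, hinv⟩ := up ψ0 hψ0c hψ0i
    refine ⟨⟨_, hirr⟩, hinv, ?_, fun ψ' hψ'i hψ'c hodd => ?_⟩
    · obtain ⟨m, hm, hm'⟩ := (hψ0 ψ0).mpr rfl
      exact ⟨m, (hkey ψ0 hψ0c).trans hm, hm'⟩
    · obtain ⟨ψ1, hψ1i, hψ1c, hψ1⟩ := down ψ' hψ'i hψ'c
      obtain ⟨m, hm, hm'⟩ := hodd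
      rw [← hψ1] at hm
      have h := (hψ0 ψ1).mp ⟨m, (hkey ψ1 hψ1c).symm.trans hm, hm'⟩
      apply Subtype.ext
      rw [← hψ1, h]
  · obtain ⟨η, hηi, hηc, hind, hkey⟩ := downG χ hi hc
    obtain ⟨η', hηi', hηc', hind', hkey'⟩ := downG χ' hi' hc'
    obtain ⟨ψ0, hψ0i, hψ0c, hψ0⟩ := down ψ hψ hψc
    obtain ⟨m, hm, hm'⟩ := ho
    obtain ⟨n, hn, hn'⟩ := ho'
    rw [← hψ0] at hm hn
    have h := hB η η' hηi hηi' hηc hηc' ψ0 ⟨m, (hkey ψ0 hψ0c).symm.trans hm, hm'⟩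
      ⟨n, (hkey' ψ0 hψ0c).symm.trans hn, hn'⟩
    apply Subtype.ext
    rw [← hind, ← hind', h]
  · obtain ⟨ψ0, hψ0i, hψ0c, hψ0⟩ := down ψ hψ hψc
    obtain ⟨η, hηi, hηc, hηo⟩ := hC ψ0 hψ0i hψ0c
    have ho : LiesOver T hLT η.1 θ := by
      intro h0
      exact hηc ((hresT (fun l : F.L => η.1 ⟨l, hLT l.2⟩)).trans h0)
    obtain ⟨hirr, h2, h3⟩ := clifford_up hθ T hT hLT η.2 ho
    let χ : IrrCharacter G := ⟨_, hirr⟩
    have hi : ∀ s g, χ.1 (F.act s g) = χ.1 g := fun s =>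
      up_invariant hθ T hT hLT (F.act s) (F.actL s) (hθS s) η.2 ho (fun t => hηi s t)
    obtain ⟨η', hη', ho', -, h1', hu⟩ := clifford_down hθ T hT hLT hirr h3
    obtain rfl : η.1 = η' := hu η.1 η.2 h2 ho
    refine ⟨χ, hi, ?_⟩
    obtain ⟨m, hm, hm'⟩ := hηo
    refine ⟨m, ?_, hm'⟩
    rw [← hψ0]
    exact (key χ η.1 η.2 ho h1' hu ψ0 hψ0c).trans hm

include hH in
/-- The main theorem. -/
theorem main :
    (∀ χ : IrrCharacter G, (∀ s g, χ.1 (F.act s g) = χ.1 g) →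
      ∃! ψ : IrrCharacter H, F.Inv H ψ.1 ∧ OddMult H χ.1 ψ.1) ∧
    (∀ χ χ' : IrrCharacter G, (∀ s g, χ.1 (F.act s g) = χ.1 g) →
      (∀ s g, χ'.1 (F.act s g) = χ'.1 g) → ∀ ψ : IrrCharacter H, F.Inv H ψ.1 →
      OddMult H χ.1 ψ.1 → OddMult H χ'.1 ψ.1 → χ = χ') ∧
    (∀ ψ : IrrCharacter H, F.Inv H ψ.1 →
      ∃ χ : IrrCharacter G, (∀ s g, χ.1 (F.act s g) = χ.1 g) ∧ OddMult H χ.1 ψ.1) := by
  have hLH := F.L_le_H H hH
  have hcons : ∀ ψ : IrrCharacter H, F.Inv H ψ.1 → ∃ θ : F.L → ℂ, IsIrrCharacter F.L θ ∧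
      (∀ s, F.sL s θ = θ) ∧ classInner (fun l : F.L => ψ.1 ⟨l, hLH l.2⟩) θ ≠ 0 := by
    intro ψ hψ
    haveI : Fintype (F.L.subgroupOf H) := Fintype.ofFinite _
    let eH := Subgroup.subgroupOfEquivOfLe hLH
    obtain ⟨θ1, hθ1, hc1⟩ := exists_constituent (N := F.L.subgroupOf H) (isCharacter_of_irr ψ.2)
      (IsIrrCharacter.apply_one_ne_zero ψ.2)
    have hc : classInner (fun l : F.L => ψ.1 ⟨l, hLH l.2⟩) (fun l => θ1 (eH.symm l)) ≠ 0 := by
      intro h0
      apply hc1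
      rw [← classInner_comp_equiv eH.symm.toEquiv]
      exact h0
    exact ⟨_, IsIrrCharacter.comp_mulEquiv hθ1 eH.symm,
      F.constituent_sInv H hH ψ.2 hψ (IsIrrCharacter.comp_mulEquiv hθ1 eH.symm) hc, hc⟩
  have hpull : ∀ (χ : IrrCharacter G) (ψ : IrrCharacter H), OddMult H χ.1 ψ.1 →
      ∀ θ : F.L → ℂ, IsIrrCharacter F.L θ →
      classInner (fun l : F.L => ψ.1 ⟨l, hLH l.2⟩) θ ≠ 0 →
      classInner (fun l : F.L => χ.1 l) θ ≠ 0 := by
    intro χ ψ ho θ hθ hc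
    obtain ⟨m, hm, hm'⟩ := ho
    exact classInner_pullback_ne_zero (Subgroup.inclusion hLH)
      (IsCharacter.restrict (isCharacter_of_irr χ.2) H) ψ.2
      (by rw [hm]; exact Nat.cast_ne_zero.mpr hm'.pos.ne') hθ hc
  refine ⟨fun χ hi => ?_, fun χ χ' hi hi' ψ hψ ho ho' => ?_, fun ψ hψ => ?_⟩
  · obtain ⟨θ, hθ, hc, hS⟩ := F.exists_invariant χ.2 hi
    obtain ⟨ψ, hψ, hodd, hu⟩ := (F.step H hH hθ hS).1 χ hi hc
    refine ⟨ψ, ⟨hψ, hodd⟩, ?_⟩
    rintro ψ' ⟨hψ', hodd'⟩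
    refine hu ψ' hψ' ?_ hodd'
    obtain ⟨θ', hθ', hS', hc'⟩ := hcons ψ' hψ'
    obtain ⟨g, hg⟩ := exists_conjN_of_constituents F.L χ.2 hθ hθ' hc (hpull χ ψ' hodd' θ' hθ' hc')
    obtain ⟨c, hcC, hce⟩ := F.conj_in_C hθ hS hS' hg
    haveI : Fintype (F.L.subgroupOf H) := Fintype.ofFinite _
    let eH := Subgroup.subgroupOfEquivOfLe hLH
    rw [hce] at hc'
    intro h0
    apply hc'
    have h1 := classInner_restrict_conjN (F.L.subgroupOf H)
      (isClassFunction_irr ψ') (fun x => θ (eH x)) (⟨c, F.C_le_H H hH hcC⟩ : H)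
    have h2 : ∀ f : F.L → ℂ, classInner (fun x : F.L.subgroupOf H => ψ'.1 x) (fun x => f (eH x)) =
        classInner (fun l : F.L => ψ'.1 ⟨l, hLH l.2⟩) f := fun f =>
      classInner_comp_equiv eH.toEquiv (fun l : F.L => ψ'.1 ⟨l, hLH l.2⟩) f
    rw [← h2, ← h0, ← h2 θ, ← h1]
    rfl
  · obtain ⟨θ, hθ, hS, hc⟩ := hcons ψ hψ
    exact (F.step H hH hθ hS).2.1 χ χ' hi hi' (hpull χ ψ ho θ hθ hc) (hpull χ' ψ ho' θ hθ hc)
      ψ hψ hc ho ho'
  · obtain ⟨θ, hθ, hS, hc⟩ := hcons ψ hψ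
    exact (F.step H hH hθ hS).2.2 ψ hψ hc

end Frame

end Cfsg.Lib.IsaacsStep
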