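import Cfsg.Agent.Chars.IsaacsStep.Average
import Cfsg.Agent.Chars.IsaacsStep.Block

/-!
# Frames, levels and sections
-/

set_option autoImplicit false
set_option linter.unusedSectionVars false

namespace Cfsg.Lib.IsaacsStep

open Cfsg.Lib.Chars MonoidAlgebra

universe u v

/-- A group of odd order `G = K C` with an abelian section `K ⧸ L` and a coprime group of
automorphisms centralizing `C` and fixing only the trivial element of `K ⧸ L`. -/
structure Frame (G : Type u) [Group G] (S : Type v) [Group S] [Fintype S] where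
  K : Subgroup G
  L : Subgroup G
  C : Subgroup G
  normalK : K.Normal
  normalL : L.Normal
  le : L ≤ K
  abelian : ∀ x ∈ K, ∀ y ∈ K, x * y * x⁻¹ * y⁻¹ ∈ L
  sup : K ⊔ C = ⊤
  inter : K ⊓ C ≤ L
  odd : Odd (Nat.card G)
  cop : (Fintype.card S).Coprime (Nat.card G)
  act : S →* MulAut G
  actK : ∀ s, ∀ x ∈ K, act s x ∈ K
  actL : ∀ s, ∀ x ∈ L, act s x ∈ L
  actC : ∀ s, ∀ c ∈ C, act s c = c
  coset : ∀ x ∈ K, (∀ s, act s x * x⁻¹ ∈ L) → x ∈ L

attribute [instance] Frame.normalK Frame.normalL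

variable {G : Type u} [Group G] [Fintype G] {S : Type v} [Group S] [Fintype S]

namespace Frame

variable (F : Frame G S)

theorem quot_comm {R M : Subgroup G} [(R.subgroupOf M).Normal] (hLR : F.L ≤ R) (hMK : M ≤ F.K)
    (p q : M ⧸ R.subgroupOf M) : p * q = q * p := by
  induction p using QuotientGroup.induction_on with
  | H x =>
    induction q using QuotientGroup.induction_on with
    | H y =>
      rw [← QuotientGroup.mk_mul, ← QuotientGroup.mk_mul, QuotientGroup.eq, Subgroup.mem_subgroupOf]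
      refine hLR ?_
      simpa [mul_assoc] using F.abelian (y : G)⁻¹ (F.K.inv_mem (hMK y.2)) (x : G)⁻¹
        (F.K.inv_mem (hMK x.2))

/-- Fixed points on intermediate sections are trivial. -/
theorem coset_of {R : Subgroup G} [(R.subgroupOf F.K).Normal] (hLR : F.L ≤ R) (hRK : R ≤ F.K)
    (hR : ∀ s, ∀ x ∈ R, F.act s x ∈ R) {x : G} (hx : x ∈ F.K)
    (hfix : ∀ s, F.act s x * x⁻¹ ∈ R) : x ∈ R := by
  classical
  letI : CommGroup (F.K ⧸ F.L.subgroupOf F.K) :=
    { (inferInstance : Group (F.K ⧸ F.L.subgroupOf F.K)) with mul_comm := F.quot_comm le_rfl le_rfl }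
  letI : CommGroup (F.K ⧸ R.subgroupOf F.K) :=
    { (inferInstance : Group (F.K ⧸ R.subgroupOf F.K)) with mul_comm := F.quot_comm hLR le_rfl }
  let aK : S → F.K →* F.K := fun s =>
    { toFun := fun y => ⟨F.act s y, F.actK s y y.2⟩
      map_one' := Subtype.ext (map_one _)
      map_mul' := fun y z => Subtype.ext (map_mul _ _ _) }
  let aE : S → (F.K ⧸ F.L.subgroupOf F.K) →* (F.K ⧸ F.L.subgroupOf F.K) := fun s =>
    QuotientGroup.map _ _ (aK s) fun y hy => F.actL s y hy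
  let act : S →* MulAut (F.K ⧸ F.L.subgroupOf F.K) :=
    { toFun := fun s =>
        { toFun := aE s
          invFun := aE s⁻¹
          left_inv := fun q => by
            induction q using QuotientGroup.induction_on with
            | H y =>
              show QuotientGroup.mk (⟨F.act s⁻¹ (F.act s y), _⟩ : F.K) = _
              congr 1
              exact Subtype.ext (show F.act s⁻¹ (F.act s y) = y by
                rw [← MulAut.mul_apply, ← map_mul, inv_mul_cancel, map_one]; rfl)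
          right_inv := fun q => by
            induction q using QuotientGroup.induction_on with
            | H y =>
              show QuotientGroup.mk (⟨F.act s (F.act s⁻¹ y), _⟩ : F.K) = _
              congr 1
              exact Subtype.ext (show F.act s (F.act s⁻¹ y) = y by
                rw [← MulAut.mul_apply, ← map_mul, mul_inv_cancel, map_one]; rfl)
          map_mul' := map_mul _ }
      map_one' := by
        ext q
        induction q using QuotientGroup.induction_on with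
        | H y =>
          show QuotientGroup.mk (⟨F.act 1 y, _⟩ : F.K) = _
          congr 1
          exact Subtype.ext (show F.act 1 y = y by rw [map_one]; rfl)
      map_mul' := fun s t => by
        ext q
        induction q using QuotientGroup.induction_on with
        | H y =>
          show QuotientGroup.mk (⟨F.act (s * t) y, _⟩ : F.K) = QuotientGroup.mk (⟨F.act s (F.act t y), _⟩ : F.K)
          congr 1
          exact Subtype.ext (show F.act (s * t) y = F.act s (F.act t y) by rw [map_mul]; rfl) }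
  have hfp : ∀ q, (∀ s, act s q = q) → q = 1 := by
    intro q hq
    induction q using QuotientGroup.induction_on with
    | H y =>
      refine (QuotientGroup.eq_one_iff y).mpr (F.coset y y.2 fun s => ?_)
      have h := (QuotientGroup.eq.mp (hq s).symm)
      have h2 : (y : G)⁻¹ * F.act s y ∈ F.L := h
      simpa [mul_assoc] using F.normalL.conj_mem _ h2 (y : G)
  let π : (F.K ⧸ F.L.subgroupOf F.K) →* (F.K ⧸ R.subgroupOf F.K) :=
    QuotientGroup.map _ _ (MonoidHom.id F.K) fun y hy => hLR hy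
  have h1 := congrArg π (prod_orbit_eq_one act hfp ((⟨x, hx⟩ : F.K) : F.K ⧸ F.L.subgroupOf F.K))
  rw [map_one, map_prod, Finset.prod_congr rfl
    (g := fun _ => ((⟨x, hx⟩ : F.K) : F.K ⧸ R.subgroupOf F.K)) (fun s _ => by
      show ((⟨F.act s x, _⟩ : F.K) : F.K ⧸ R.subgroupOf F.K) = _
      rw [QuotientGroup.eq, Subgroup.mem_subgroupOf]
      show (F.act s x)⁻¹ * x ∈ R
      have hm : (F.act s x * x⁻¹)⁻¹ ∈ R := R.inv_mem (hfix s)
      have h2 : x⁻¹ * (F.act s x * x⁻¹)⁻¹ * x⁻¹⁻¹ ∈ R :=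
        (‹(R.subgroupOf F.K).Normal›).conj_mem ⟨_, hRK hm⟩ hm ⟨x⁻¹, F.K.inv_mem hx⟩
      simpa [mul_assoc] using h2),
    Finset.prod_const, Finset.card_univ] at h1
  have h2 := eq_one_of_pow (S := S) (F.cop.coprime_dvd_right
    ((Subgroup.card_quotient_dvd_card _).trans (Subgroup.card_subgroup_dvd_card F.K))) h1
  exact (QuotientGroup.eq_one_iff (⟨x, hx⟩ : F.K)).mp h2

end Frame

/-- A level: an invariant irreducible representation of a normal subgroup between `L` and `K`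
which stays irreducible on `L`. -/
structure Lev (F : Frame G S) where
  B : Block G
  le : F.L ≤ B.R
  ge : B.R ≤ F.K
  sR : ∀ s, ∀ r ∈ B.R, F.act s r ∈ B.R
  sInv : ∀ (s : S) (r r' : B.R), (r' : G) = F.act s r → B.ρ.character r' = B.ρ.character r
  irrL : Representation.IsIrreducible
    (B.ρ.comp (Subgroup.inclusion le) : Representation ℂ F.L (Fin B.n → ℂ))

namespace Lev

variable {F : Frame G S} (Λ : Lev F)

/-- The restriction of an automorphism stabilising `R`. -/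
noncomputable def restr (α : MulAut G) (hα : ∀ r ∈ Λ.B.R, α r ∈ Λ.B.R) : Λ.B.R ≃* Λ.B.R :=
  MulEquiv.ofBijective
    ({ toFun := fun r => ⟨α r, hα r r.2⟩
       map_one' := Subtype.ext (map_one α)
       map_mul' := fun r s => Subtype.ext (map_mul α _ _) } : Λ.B.R →* Λ.B.R)
    (Finite.injective_iff_bijective.mp fun r s h =>
      Subtype.ext (α.injective (congrArg Subtype.val h)))

theorem restr_apply (α : MulAut G) (hα : ∀ r ∈ Λ.B.R, α r ∈ Λ.B.R) (r : Λ.B.R) :
    (Λ.restr α hα r : G) = α r := rfl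

/-- An automorphism compatible with the level. -/
structure Good (α : MulAut G) : Prop where
  memR : ∀ r ∈ Λ.B.R, α r ∈ Λ.B.R
  memK : ∀ x ∈ F.K, α x ∈ F.K
  char : ∀ r, Λ.B.ρ.character (Λ.restr α memR r) = Λ.B.ρ.character r

theorem good_conj (g : G) : Λ.Good (MulAut.conj g) where
  memR r hr := Λ.B.normal.conj_mem r hr g
  memK x hx := F.normalK.conj_mem x hx g
  char r := Λ.B.inv g r _ rfl

theorem good_act (s : S) : Λ.Good (F.act s) where
  memR := Λ.sR s
  memK := F.actK s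
  char r := Λ.sInv s r _ rfl

theorem map_f {α : MulAut G} (h : Λ.Good α) (g : G) :
    ∃ c : ℂ, c ≠ 0 ∧ domCongr ℂ ℂ α (Λ.B.f g) = c • Λ.B.f (α g) :=
  Λ.B.map_f (α := α) (e := Λ.restr α h.memR) (fun r => rfl) h.char g

theorem t_eq_sum_L [Fintype F.L] (M : Λ.B.E0) : ∃ b : F.L → ℂ,
    Λ.B.t M = (∑ l : F.L, b l • single (l : G) 1) * Λ.B.t 1 := by
  haveI := Λ.irrL
  let φ : Representation ℂ F.L (Fin Λ.B.n → ℂ) := Λ.B.ρ.comp (Subgroup.inclusion Λ.le)
  haveI : φ.IsIrreducible := Λ.irrL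
  refine ⟨fun l => ((Module.finrank ℂ (Fin Λ.B.n → ℂ) : ℂ) / Nat.card F.L) *
    LinearMap.trace ℂ _ (M * φ l⁻¹), ?_⟩
  conv_lhs => rw [← schur_formula φ M]
  simp only [map_smul, map_sum, Finset.sum_mul, Finset.smul_sum, smul_smul, smul_mul_assoc]
  refine Finset.sum_congr rfl fun l _ => ?_
  congr 1
  show Λ.B.t (Λ.B.ρ (Subgroup.inclusion Λ.le l)) =
    single ((Subgroup.inclusion Λ.le l : Λ.B.R) : G) 1 * Λ.B.t 1
  rw [Λ.B.single_mul_t, mul_one]

variable {M : Subgroup G}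

/-- The section basis of `M ⧸ R`. -/
noncomputable def fhat (M : Subgroup G) (q : M ⧸ Λ.B.R.subgroupOf M) : MonoidAlgebra ℂ G :=
  open scoped Classical in if q = 1 then Λ.B.t 1 else Λ.B.f ((q.out : M) : G)

theorem fhat_one : Λ.fhat M 1 = Λ.B.t 1 := by simp [fhat]

theorem f_eq_fhat (x : M) :
    ∃ c : ℂ, c ≠ 0 ∧ Λ.B.f (x : G) = c • Λ.fhat M (x : M ⧸ Λ.B.R.subgroupOf M) := by
  classical
  by_cases hx : ((x : M ⧸ Λ.B.R.subgroupOf M)) = 1
  · have hxR : (x : G) ∈ Λ.B.R := (QuotientGroup.eq_one_iff x).mp hx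
    rw [hx, Λ.fhat_one]
    exact Λ.B.f_of_mem ⟨x, hxR⟩
  · rw [fhat, if_neg hx]
    set o := ((x : M ⧸ Λ.B.R.subgroupOf M)).out with ho
    have hmem : (o : G)⁻¹ * x ∈ Λ.B.R := by
      have h : ((o : M) : M ⧸ Λ.B.R.subgroupOf M) = (x : M ⧸ Λ.B.R.subgroupOf M) :=
        QuotientGroup.out_eq' _
      have h' := QuotientGroup.eq.mp h
      exact h'
    obtain ⟨c, hc, hm⟩ := Λ.B.f_mul (o : G) ((o : G)⁻¹ * x)
    obtain ⟨d, hd, hr⟩ := Λ.B.f_of_mem ⟨_, hmem⟩
    rw [mul_inv_cancel_left, hr, mul_smul_comm, Λ.B.f_mul_one] at hm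
    refine ⟨c⁻¹ * d, mul_ne_zero (inv_ne_zero hc) hd, ?_⟩
    rw [mul_smul, hm, smul_smul, inv_mul_cancel₀ hc, one_smul]

theorem fhat_mul (p q : M ⧸ Λ.B.R.subgroupOf M) :
    ∃ c : ℂ, c ≠ 0 ∧ Λ.fhat M p * Λ.fhat M q = c • Λ.fhat M (p * q) := by
  obtain ⟨x, rfl⟩ := QuotientGroup.mk_surjective p
  obtain ⟨y, rfl⟩ := QuotientGroup.mk_surjective q
  obtain ⟨a, ha, hx⟩ := Λ.f_eq_fhat x
  obtain ⟨b, hb, hy⟩ := Λ.f_eq_fhat y
  obtain ⟨d, hd, hxy⟩ := Λ.f_eq_fhat (x * y)
  obtain ⟨c, hc, hm⟩ := Λ.B.f_mul (x : G) (y : G)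
  rw [hx, hy, smul_mul_smul_comm, show (x : G) * y = ((x * y : M) : G) from rfl, hxy, smul_smul] at hm
  refine ⟨(a * b)⁻¹ * (c * d), mul_ne_zero (inv_ne_zero (mul_ne_zero ha hb)) (mul_ne_zero hc hd), ?_⟩
  rw [mul_smul, ← QuotientGroup.mk_mul, ← hm, smul_smul, inv_mul_cancel₀ (mul_ne_zero ha hb),
    one_smul]

theorem fhat_one_mul (q : M ⧸ Λ.B.R.subgroupOf M) : Λ.fhat M 1 * Λ.fhat M q = Λ.fhat M q := by
  classical
  rw [fhat_one, fhat]
  split_ifs with h
  · rw [Λ.B.t_one_mul_t]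
  · rw [Λ.B.f_one_mul]

theorem fhat_mul_one (q : M ⧸ Λ.B.R.subgroupOf M) : Λ.fhat M q * Λ.fhat M 1 = Λ.fhat M q := by
  classical
  rw [fhat_one, fhat]
  split_ifs with h
  · rw [Λ.B.t_one_mul_t]
  · rw [Λ.B.f_mul_one]

theorem fhat_ne_zero (q : M ⧸ Λ.B.R.subgroupOf M) : Λ.fhat M q ≠ 0 := by
  classical
  rw [fhat]
  split_ifs with h
  · intro h0
    have h1 := Λ.B.t_inj h0
    haveI : Nontrivial (Fin Λ.B.n → ℂ) := nontrivial_of_irreducible Λ.B.ρ
    exact one_ne_zero h1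
  · exact Λ.B.f_ne_zero _

theorem fhat_comm_t (q : M ⧸ Λ.B.R.subgroupOf M) (N : Λ.B.E0) :
    Λ.fhat M q * Λ.B.t N = Λ.B.t N * Λ.fhat M q := by
  classical
  rw [fhat]
  split_ifs with h
  · rw [Λ.B.t_one_mul_t, Λ.B.t_mul_t_one]
  · exact Λ.B.f_comm _ _

theorem t_fhat_eq_zero {N : Λ.B.E0} {q : M ⧸ Λ.B.R.subgroupOf M}
    (h : Λ.B.t N * Λ.fhat M q = 0) : N = 0 := by
  obtain ⟨c, hc, hm⟩ := Λ.fhat_mul q q⁻¹
  have h2 := congrArg (· * Λ.fhat M q⁻¹) h
  simp only [zero_mul] at h2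
  rw [mul_assoc, hm, mul_inv_cancel, Λ.fhat_one, mul_smul_comm, Λ.B.t_mul_t_one, smul_eq_zero] at h2
  exact Λ.B.t_inj (h2.resolve_left hc)

theorem fhat_indep (hM : Λ.B.R ≤ M) : LinearIndependent ℂ (Λ.fhat M) := by
  classical
  haveI := Fintype.ofFinite (M ⧸ Λ.B.R.subgroupOf M)
  rw [Fintype.linearIndependent_iff]
  intro c hc q
  by_contra hq
  apply Λ.fhat_ne_zero q
  have key : ∀ (p : M ⧸ Λ.B.R.subgroupOf M) (x : G), (Λ.fhat M p).coeff x ≠ 0 →
      ∃ hx : x ∈ M, ((⟨x, hx⟩ : M) : M ⧸ Λ.B.R.subgroupOf M) = p := by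
    intro p x hx
    obtain ⟨d, hd, hf⟩ := Λ.f_eq_fhat p.out
    have hpo : ((p.out : M) : M ⧸ Λ.B.R.subgroupOf M) = p := Quotient.out_eq _
    rw [hpo] at hf
    have hr : x * ((p.out : M) : G)⁻¹ ∈ Λ.B.R := by
      by_contra hn
      have h0 := Λ.B.coeff_f_eq_zero hn
      rw [hf, coeff_smul_apply, smul_eq_mul] at h0
      exact hx ((mul_eq_zero.mp h0).resolve_left hd)
    have hxM : x ∈ M := by
      have := M.mul_mem (hM hr) p.out.2
      rwa [inv_mul_cancel_right] at this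
    refine ⟨hxM, ?_⟩
    conv_rhs => rw [← hpo]
    rw [QuotientGroup.eq]
    show x⁻¹ * ((p.out : M) : G) ∈ Λ.B.R
    have := Λ.B.normal.conj_mem _ (Λ.B.R.inv_mem hr) x⁻¹
    simpa [mul_assoc] using this
  refine MonoidAlgebra.ext (Finsupp.ext fun x => ?_)
  by_contra hx
  have h := congrArg (fun z => z.coeff x) hc
  simp only [coeff_sum, Finsupp.finset_sum_apply, coeff_smul_apply, smul_eq_mul] at h
  rw [Finset.sum_eq_single q] at h
  · exact hx (by simpa using (mul_eq_zero.mp (by simpa using h)).resolve_left hq)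
  · intro p _ hp
    by_contra hne
    obtain ⟨hx1, h1⟩ := key p x (right_ne_zero_of_mul hne)
    obtain ⟨hx2, h2⟩ := key q x (by simpa using hx)
    exact hp (h1.symm.trans h2)
  · simp

theorem fhat_map {α : MulAut G} (h : Λ.Good α) (x y : M) (hxy : α (x : G) = y) :
    ∃ c : ℂ, c ≠ 0 ∧ domCongr ℂ ℂ α (Λ.fhat M (x : M ⧸ Λ.B.R.subgroupOf M)) =
      c • Λ.fhat M (y : M ⧸ Λ.B.R.subgroupOf M) := by
  obtain ⟨a, ha, hx⟩ := Λ.f_eq_fhat x
  obtain ⟨b, hb, hy⟩ := Λ.f_eq_fhat y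
  obtain ⟨c, hc, hm⟩ := Λ.map_f h (x : G)
  rw [hx, hxy, hy, map_smul, smul_smul] at hm
  refine ⟨a⁻¹ * (c * b), mul_ne_zero (inv_ne_zero ha) (mul_ne_zero hc hb), ?_⟩
  rw [mul_smul, ← hm, smul_smul, inv_mul_cancel₀ ha, one_smul]

end Lev

end Cfsg.Lib.IsaacsStep
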