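import Cfsg.Agent.Chars.IsaacsStep.Average
import Cfsg.Agent.Chars.IsaacsStep.Coboundary

/-!
# Parity elements of twisted group algebras of odd abelian groups

For a non-degenerate twisted basis `f` indexed by an abelian group `E` of odd order there are
exactly `|E|` normalised elements inducing inversion on `E`; an automorphism group acting
coprimely and without fixed points on `E` fixes exactly one of them.
-/

set_option autoImplicit false

namespace Cfsg.Lib.IsaacsStep

universe u v w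

/-- A non-degenerate twisted basis indexed by an abelian group. -/
structure Twisted (E : Type u) [CommGroup E] (A : Type v) [Ring A] [Algebra ℂ A] where
  f : E → A
  β : E → E → ℂ
  β_ne : ∀ p q, β p q ≠ 0
  mul : ∀ p q, f p * f q = β p q • f (p * q)
  one_mul : ∀ q, f 1 * f q = f q
  mul_one : ∀ q, f q * f 1 = f q
  indep : LinearIndependent ℂ f
  nondeg : ∀ q, (∀ p, f p * f q = f q * f p) → q = 1

namespace Twisted

variable {E : Type u} [CommGroup E] {A : Type v} [Ring A] [Algebra ℂ A] (T : Twisted E A)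

theorem f_ne (q : E) : T.f q ≠ 0 := T.indep.ne_zero q

theorem smul_f_inj {a b : ℂ} {q : E} (h : a • T.f q = b • T.f q) : a = b :=
  smul_left_injective ℂ (T.f_ne q) h

theorem β_one_left (q : E) : T.β 1 q = 1 :=
  T.smul_f_inj (q := q) (by rw [one_smul]; simpa using ((T.mul 1 q).symm.trans (T.one_mul q)))

theorem β_one_right (q : E) : T.β q 1 = 1 :=
  T.smul_f_inj (q := q) (by rw [one_smul]; simpa using ((T.mul q 1).symm.trans (T.mul_one q)))

theorem β_assoc (p q r : E) : T.β p q * T.β (p * q) r = T.β q r * T.β p (q * r) := by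
  apply T.smul_f_inj (q := p * q * r)
  have h1 : T.f p * T.f q * T.f r = (T.β p q * T.β (p * q) r) • T.f (p * q * r) := by
    rw [T.mul, smul_mul_assoc, T.mul, smul_smul]
  have h2 : T.f p * (T.f q * T.f r) = (T.β q r * T.β p (q * r)) • T.f (p * q * r) := by
    rw [T.mul q r, mul_smul_comm, T.mul, smul_smul, mul_assoc p q r]
  rw [← h1, ← h2, mul_assoc]

theorem β_inv_comm (q : E) : T.β q⁻¹ q = T.β q q⁻¹ := by
  have h := T.β_assoc q q⁻¹ q
  rw [mul_inv_cancel, inv_mul_cancel, T.β_one_left, T.β_one_right, _root_.mul_one,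
    _root_.mul_one] at h
  exact h.symm

/-- The commutator scalar. -/
noncomputable def γ (p q : E) : ℂ := T.β p q / T.β q p

theorem γ_ne (p q : E) : T.γ p q ≠ 0 := div_ne_zero (T.β_ne _ _) (T.β_ne _ _)

theorem swap (p q : E) : T.f p * T.f q = T.γ p q • (T.f q * T.f p) := by
  rw [T.mul, T.mul, smul_smul, γ, div_mul_cancel₀ _ (T.β_ne q p), mul_comm q p]

theorem γ_symm (p q : E) : T.γ p q * T.γ q p = 1 := by
  rw [γ, γ]; field_simp [T.β_ne]

theorem γ_mul (p q r : E) : T.γ p (q * r) = T.γ p q * T.γ p r := by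
  have h1 : T.f p * (T.f q * T.f r) = (T.γ p q * T.γ p r) • (T.f q * T.f r * T.f p) := by
    rw [← mul_assoc, T.swap p q, smul_mul_assoc, mul_assoc, T.swap p r, mul_smul_comm, smul_smul,
      mul_assoc]
  have h2 : T.f p * (T.f q * T.f r) = T.γ p (q * r) • (T.f q * T.f r * T.f p) := by
    rw [T.mul q r, mul_smul_comm, T.swap, smul_mul_assoc, smul_comm]
  rw [h2, T.mul q r, smul_mul_assoc, T.mul] at h1
  simp only [smul_smul] at h1
  have h3 := T.smul_f_inj h1
  exact mul_right_cancel₀ (T.β_ne q r) (mul_right_cancel₀ (T.β_ne (q * r) p)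
    (by linear_combination h3))

/-- The inverse of `f q`. -/
noncomputable def finv (q : E) : A := (T.β q q⁻¹)⁻¹ • T.f q⁻¹

theorem mul_finv (q : E) : T.f q * T.finv q = T.f 1 := by
  rw [finv, mul_smul_comm, T.mul, smul_smul, mul_inv_cancel, inv_mul_cancel₀ (T.β_ne _ _),
    one_smul]

theorem finv_mul (q : E) : T.finv q * T.f q = T.f 1 := by
  rw [finv, smul_mul_assoc, T.mul, smul_smul, inv_mul_cancel, T.β_inv_comm,
    inv_mul_cancel₀ (T.β_ne _ _), one_smul]

theorem finv_mul_one (q : E) : T.finv q * T.f 1 = T.finv q := by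
  rw [finv, smul_mul_assoc, T.mul_one]

theorem one_mul_finv (q : E) : T.f 1 * T.finv q = T.finv q := by
  rw [finv, mul_smul_comm, T.one_mul]

theorem conj_f (p q : E) : T.f p * T.f q * T.finv p = T.γ p q • T.f q := by
  rw [T.swap, smul_mul_assoc, mul_assoc, T.mul_finv, T.mul_one]

theorem γ_one (p : E) : T.γ p 1 = 1 := by
  rw [γ, T.β_one_left, T.β_one_right, div_one]

theorem γ_mul_left (p q r : E) : T.γ (p * q) r = T.γ p r * T.γ q r := by
  have h := T.γ_symm (p * q) r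
  have h1 := T.γ_symm p r
  have h2 := T.γ_symm q r
  rw [T.γ_mul r p q] at h
  apply mul_right_cancel₀ (mul_ne_zero (T.γ_ne r p) (T.γ_ne r q))
  linear_combination h - h1 - T.γ p r * T.γ r p * h2

theorem γ_inv (p q : E) : T.γ p⁻¹ q⁻¹ = T.γ p q := by
  have h1 : T.γ p⁻¹ q⁻¹ * T.γ p q⁻¹ = 1 := by
    rw [← T.γ_mul_left, inv_mul_cancel]
    exact mul_right_cancel₀ (T.γ_ne 1 q⁻¹) (by rw [← T.γ_mul_left, _root_.mul_one, _root_.one_mul])
  have h2 : T.γ p q * T.γ p q⁻¹ = 1 := by rw [← T.γ_mul, mul_inv_cancel, T.γ_one]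
  exact mul_right_cancel₀ (T.γ_ne p q⁻¹) (h1.trans h2.symm)

theorem eq_one_of_γ (q : E) (h : ∀ p, T.γ p q = 1) : q = 1 :=
  T.nondeg q fun p => by rw [T.swap, h, one_smul]

variable [Fintype E]

theorem sum_γ (q : E) (hq : q ≠ 1) : ∑ y, T.γ y q = 0 := by
  obtain ⟨y0, hy0⟩ : ∃ y, T.γ y q ≠ 1 := by
    by_contra h
    push Not at h
    exact hq (T.eq_one_of_γ q h)
  have h : ∑ y, T.γ y q = T.γ y0 q * ∑ y, T.γ y q := by
    rw [Finset.mul_sum]
    exact (Fintype.sum_equiv (Equiv.mulLeft y0) _ _ fun y => by simp [T.γ_mul_left]).symm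
  by_contra h0
  exact hy0 (mul_right_cancel₀ h0 (by rw [_root_.one_mul]; exact h.symm))

/-- A combination of the basis. -/
noncomputable def comb (c : E → ℂ) : A := ∑ q, c q • T.f q

theorem comb_inj {c d : E → ℂ} (h : T.comb c = T.comb d) : c = d := by
  funext q
  have h0 : ∑ q, (c q - d q) • T.f q = 0 := by
    simp only [sub_smul, Finset.sum_sub_distrib]
    exact sub_eq_zero.mpr h
  exact sub_eq_zero.mp (Fintype.linearIndependent_iff.mp T.indep _ h0 q)

open scoped Classical in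
theorem comb_single (p : E) (a : ℂ) : T.comb (Pi.single p a) = a • T.f p := by
  rw [comb, Finset.sum_eq_single p]
  · rw [Pi.single_eq_same]
  · intro q _ hq
    rw [Pi.single_eq_of_ne hq, zero_smul]
  · simp

theorem smul_comb (a : ℂ) (c : E → ℂ) : a • T.comb c = T.comb (fun q => a * c q) := by
  simp [comb, Finset.smul_sum, smul_smul]

theorem comb_mul_exists (c d : E → ℂ) : ∃ g, T.comb c * T.comb d = T.comb g := by
  have h : T.comb c * T.comb d ∈ Submodule.span ℂ (Set.range T.f) := by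
    rw [comb, comb, Finset.sum_mul_sum]
    refine sum_mem fun p _ => sum_mem fun q _ => ?_
    rw [smul_mul_smul_comm, T.mul, smul_smul]
    exact Submodule.smul_mem _ _ (Submodule.subset_span ⟨_, rfl⟩)
  obtain ⟨g, hg⟩ := Submodule.mem_span_range_iff_exists_fun ℂ |>.mp h
  exact ⟨g, hg.symm⟩

theorem one_mul_comb (c : E → ℂ) : T.f 1 * T.comb c = T.comb c := by
  simp [comb, Finset.mul_sum, mul_smul_comm, T.one_mul]

theorem comb_mul_one (c : E → ℂ) : T.comb c * T.f 1 = T.comb c := by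
  simp [comb, Finset.sum_mul, smul_mul_assoc, T.mul_one]

theorem single_of_commute_up (c : E → ℂ)
    (h : ∀ q, ∃ μ : ℂ, T.comb c * T.f q = μ • (T.f q * T.comb c)) :
    ∃ (p : E) (a : ℂ), T.comb c = a • T.f p := by
  classical
  by_cases h0 : ∀ p, c p = 0
  · exact ⟨1, 0, by simp [comb, h0]⟩
  push Not at h0
  obtain ⟨p, hp⟩ := h0
  refine ⟨p, c p, ?_⟩
  rw [← T.comb_single]
  congr 1
  funext p'
  by_cases hpp : p' = p
  · rw [hpp, Pi.single_eq_same]
  rw [Pi.single_eq_of_ne hpp]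
  by_contra hp'
  apply hpp
  refine mul_inv_eq_one.mp (T.eq_one_of_γ _ fun q => ?_)
  obtain ⟨μ, hμ⟩ := h q
  have he : T.comb (fun r => c r * T.γ r q) = T.comb (fun r => μ * c r) := by
    rw [← T.smul_comb]
    calc T.comb (fun r => c r * T.γ r q)
        = T.finv q * (T.comb c * T.f q) := by
          simp only [comb, Finset.sum_mul, Finset.mul_sum, smul_mul_assoc, mul_smul_comm]
          refine Finset.sum_congr rfl fun r _ => ?_
          rw [T.swap r q, mul_smul_comm, ← mul_assoc, T.finv_mul, T.one_mul, smul_smul]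
      _ = μ • T.comb c := by
          rw [hμ, mul_smul_comm, ← mul_assoc, T.finv_mul, T.one_mul_comb]
  have e1 := congrFun (T.comb_inj he) p
  have e2 := congrFun (T.comb_inj he) p'
  have g1 : T.γ p q = μ := mul_left_cancel₀ hp (e1.trans (mul_comm _ _))
  have g2 : T.γ p' q = μ := mul_left_cancel₀ hp' (e2.trans (mul_comm _ _))
  have hz : T.γ (p' * p⁻¹) q = 1 := by
    have := T.γ_mul_left (p' * p⁻¹) p q
    rw [inv_mul_cancel_right, g1, g2] at this
    exact mul_right_cancel₀ (g1 ▸ T.γ_ne p q) (by rw [_root_.one_mul]; exact this.symm)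
  have hs := T.γ_symm (p' * p⁻¹) q
  rwa [hz, _root_.one_mul] at hs

/-- Inducing inversion. -/
def IsNeg (J : A) : Prop := ∀ q, ∃ μ : ℂ, J * T.f q = μ • (T.f q⁻¹ * J)

/-- A parity element. -/
def IsPar (J : A) : Prop := (∃ c : E → ℂ, c 1 = 1 ∧ J = T.comb c) ∧ T.IsNeg J

variable {T} in
theorem IsPar.ne_zero {J : A} (hJ : T.IsPar J) : J ≠ 0 := by
  classical
  obtain ⟨⟨c, hc, rfl⟩, -⟩ := hJ
  intro h
  have h' : T.comb c = T.comb 0 := by simpa [comb] using h
  have := congrFun (T.comb_inj h') 1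
  simp [hc] at this

theorem sq_bijective (hodd : Odd (Nat.card E)) : Function.Bijective (fun y : E => y * y) := by
  have h : (Nat.card E).Coprime 2 := Nat.coprime_two_right.mpr hodd
  convert (powCoprime (G := E) h).bijective using 1
  funext y
  simp [powCoprime, sq]

theorem exists_par (hodd : Odd (Nat.card E)) : ∃ J, T.IsPar J := by
  classical
  let r : SymCocycle E :=
    { r := fun x y => Units.mk0 (T.β x y / T.β x⁻¹ y⁻¹) (div_ne_zero (T.β_ne _ _) (T.β_ne _ _))
      symm := fun x y => Units.ext (by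
        show T.β x y / T.β x⁻¹ y⁻¹ = T.β y x / T.β y⁻¹ x⁻¹
        have h := T.γ_inv x y
        simp only [γ] at h
        field_simp [T.β_ne] at h ⊢
        linear_combination -h)
      one_left := fun x => Units.ext (by simp [T.β_one_left])
      assoc := fun x y z => Units.ext (by
        simp only [Units.val_mul, Units.val_mk0]
        rw [mul_inv, mul_inv, div_mul_div_comm, div_mul_div_comm, T.β_assoc x y z,
          T.β_assoc x⁻¹ y⁻¹ z⁻¹]) }
  obtain ⟨l, hl⟩ := exists_coboundary r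
  let Φ : E → A := fun q => (l q : ℂ) • T.f q⁻¹
  have hl1 : l 1 = 1 := by
    have h := hl 1 1
    rw [r.one_left, _root_.one_mul, _root_.mul_one] at h
    exact mul_right_cancel (h.trans (_root_.one_mul _).symm)
  have hΦ : ∀ p q, Φ p * Φ q = T.β p q • Φ (p * q) := fun p q => by
    have h : (l p : ℂ) * l q = T.β p q / T.β p⁻¹ q⁻¹ * l (p * q) := by
      rw [← Units.val_mul, hl]; rfl
    simp only [Φ]
    rw [smul_mul_smul_comm, T.mul, smul_smul, smul_smul, h, mul_inv]
    congr 1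
    field_simp [T.β_ne]
  let J := ∑ y, Φ y * T.finv y
  refine ⟨J, ?_, fun x => ⟨l x, ?_⟩⟩
  · let σ : E ≃ E := (Equiv.ofBijective _ (sq_bijective hodd)).symm.trans (Equiv.inv E)
    let k : E → ℂ := fun y => l y * (T.β y y⁻¹)⁻¹ * T.β y⁻¹ y⁻¹
    refine ⟨fun q => k (σ q), ?_, ?_⟩
    · have h1 : σ 1 = 1 := by
        show ((Equiv.ofBijective _ (sq_bijective hodd)).symm 1)⁻¹ = 1
        rw [inv_eq_one, Equiv.symm_apply_eq]
        simp
      simp [h1, k, hl1, T.β_one_left]
    · rw [comb]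
      refine (Fintype.sum_equiv σ.symm _ _ fun y => ?_)
      rw [Equiv.apply_symm_apply]
      simp only [Φ, finv, k, smul_mul_smul_comm, T.mul, smul_smul]
      congr 2
  · show J * T.f x = (l x : ℂ) • (T.f x⁻¹ * J)
    have hterm : ∀ z, Φ (x * z) * T.finv (x * z) * T.f x = Φ x * (Φ z * T.finv z) := fun z => by
      have h1 : T.finv (x * z) * T.f x = (T.β x z) • T.finv z := by
        have h2 : T.finv (x * z) * T.f x * T.f z = T.β x z • T.f 1 := by
          rw [mul_assoc, T.mul x z, mul_smul_comm, T.finv_mul]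
        calc T.finv (x * z) * T.f x = T.finv (x * z) * T.f x * (T.f z * T.finv z) := by
              rw [T.mul_finv, mul_assoc, T.mul_one]
          _ = T.finv (x * z) * T.f x * T.f z * T.finv z := by rw [mul_assoc _ (T.f z)]
          _ = T.β x z • T.finv z := by rw [h2, smul_mul_assoc, T.one_mul_finv]
      rw [mul_assoc, h1, mul_smul_comm, ← smul_mul_assoc, ← hΦ, mul_assoc]
    calc J * T.f x = ∑ y, Φ y * T.finv y * T.f x := Finset.sum_mul _ _ _
      _ = ∑ z, Φ x * (Φ z * T.finv z) :=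
          (Fintype.sum_equiv (Equiv.mulLeft x) _ _ fun z => (hterm z).symm).symm
      _ = Φ x * J := (Finset.mul_sum _ _ _).symm
      _ = (l x : ℂ) • (T.f x⁻¹ * J) := smul_mul_assoc _ _ _

variable {T} in
theorem IsPar.mul_self (hodd : Odd (Nat.card E)) {J : A} (hJ : T.IsPar J) :
    J * J = (Nat.card E : ℂ) • T.f 1 := by
  classical
  obtain ⟨⟨c, hc1, hJc⟩, hneg⟩ := id hJ
  choose μ hμ using hneg
  obtain ⟨g, hg⟩ := T.comb_mul_exists c c
  have hcomm : ∀ q, T.comb g * T.f q = (μ q * μ q⁻¹) • (T.f q * T.comb g) := fun q => by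
    rw [← hg, ← hJc, mul_assoc, hμ q, mul_smul_comm, ← mul_assoc, hμ q⁻¹, inv_inv, smul_mul_assoc,
      smul_smul, mul_assoc]
  obtain ⟨p, a, hpa⟩ := T.single_of_commute_up g fun q => ⟨_, hcomm q⟩
  have hsq : J * J = a • T.f 1 := by
    rw [hJc, hg, hpa]
    by_cases ha : a = 0
    · simp [ha]
    have hp : ∀ q, T.γ p q = μ q * μ q⁻¹ := fun q => by
      have h := hcomm q
      rw [hpa, smul_mul_assoc, mul_smul_comm, T.swap p q, smul_smul, smul_smul, T.mul, smul_smul,
        smul_smul] at h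
      have h' := mul_right_cancel₀ (T.β_ne q p) (T.smul_f_inj h)
      exact mul_left_cancel₀ ha (by linear_combination h')
    have : p = 1 := T.eq_one_of_γ p fun q => by
      obtain ⟨r, rfl⟩ := (sq_bijective hodd).surjective q
      have h1 : T.γ p r = T.γ p r⁻¹ := by rw [hp, hp, inv_inv, mul_comm]
      have h2 : T.γ p r * T.γ p r⁻¹ = 1 := by rw [← T.γ_mul, mul_inv_cancel, T.γ_one]
      have h3 := T.γ_symm p (r * r)
      rw [T.γ_mul] at h3
      rw [← h1] at h2
      rwa [h2, _root_.one_mul] at h3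
    rw [this]
  rw [hsq]
  congr 1
  have hsum : ∑ y, T.f y * J * T.finv y = (Nat.card E : ℂ) • T.f 1 := by
    rw [hJc]
    simp only [comb, Finset.mul_sum, Finset.sum_mul, mul_smul_comm, smul_mul_assoc, T.conj_f,
      smul_smul]
    rw [Finset.sum_comm, Finset.sum_eq_single 1]
    · rw [← Finset.sum_smul]
      simp [T.γ_one, hc1, Nat.card_eq_fintype_card]
    · intro q _ hq
      rw [← Finset.sum_smul, ← Finset.mul_sum, T.sum_γ q hq, mul_zero, zero_smul]
    · simp
  have h := congrArg (J * ·) hsum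
  simp only [Finset.mul_sum, mul_smul_comm] at h
  rw [Finset.sum_congr rfl (g := fun y => (μ y * a * (T.β y y⁻¹)⁻¹ * T.β y⁻¹ y⁻¹) •
    T.f (y⁻¹ * y⁻¹)) (fun y _ => by
      rw [← mul_assoc, ← mul_assoc, hμ y, smul_mul_assoc, mul_assoc (T.f y⁻¹), hsq, mul_smul_comm,
        T.mul_one, smul_smul, finv, smul_mul_smul_comm, T.mul, smul_smul]),
    hJc, T.comb_mul_one, T.smul_comb] at h
  let σ : E ≃ E := (Equiv.ofBijective _ (sq_bijective hodd)).symm.trans (Equiv.inv E)
  let k : E → ℂ := fun y => μ y * a * (T.β y y⁻¹)⁻¹ * T.β y⁻¹ y⁻¹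
  have h' : T.comb (fun q => k (σ q)) = T.comb (fun q => (Nat.card E : ℂ) * c q) := by
    rw [← h, comb]
    refine (Fintype.sum_equiv σ.symm _ _ fun y => ?_).symm
    rw [Equiv.apply_symm_apply]
    congr 2
  have h1 := congrFun (T.comb_inj h') 1
  have hσ : σ 1 = 1 := by
    show ((Equiv.ofBijective _ (sq_bijective hodd)).symm 1)⁻¹ = 1
    rw [inv_eq_one, Equiv.symm_apply_eq]
    simp
  have hμ1 : μ 1 = 1 := by
    have h := hμ 1
    rw [inv_one, hJc, T.comb_mul_one, T.one_mul_comb, T.smul_comb] at h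
    have := congrFun (T.comb_inj h) 1
    rw [hc1, _root_.mul_one] at this
    exact this.symm
  simpa [hσ, k, hμ1, hc1, T.β_one_left] using h1

/-- Conjugation by `f v`. -/
noncomputable def shift (v : E) (J : A) : A := T.f v * J * T.finv v

variable {T} in
theorem IsPar.shift {J : A} (hJ : T.IsPar J) (v : E) : T.IsPar (T.shift v J) := by
  obtain ⟨⟨c, hc, rfl⟩, hneg⟩ := hJ
  refine ⟨⟨fun q => c q * T.γ v q, by simp [hc, T.γ_one], ?_⟩, fun q => ?_⟩
  · simp only [Twisted.shift, comb, Finset.mul_sum, Finset.sum_mul, mul_smul_comm, smul_mul_assoc,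
      T.conj_f, smul_smul]
  · obtain ⟨μ, hμ⟩ := hneg q
    refine ⟨μ * T.γ v q⁻¹ / T.γ v q, ?_⟩
    set J := T.comb c
    have hq : T.finv v * T.f q = (T.γ v q)⁻¹ • (T.f q * T.finv v) := by
      calc T.finv v * T.f q = T.finv v * (T.f q * (T.f v * T.finv v)) := by rw [T.mul_finv, T.mul_one]
        _ = T.finv v * ((T.γ q v) • (T.f v * T.f q)) * T.finv v := by
            rw [← mul_assoc (T.f q), T.swap q v]; simp only [mul_assoc]
        _ = T.γ q v • (T.f q * T.finv v) := by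
            rw [mul_smul_comm, smul_mul_assoc, ← mul_assoc (T.finv v), T.finv_mul, T.one_mul]
        _ = _ := by rw [eq_inv_of_mul_eq_one_left (T.γ_symm q v)]
    show T.f v * J * T.finv v * T.f q = _ • (T.f q⁻¹ * (T.f v * J * T.finv v))
    calc T.f v * J * T.finv v * T.f q = T.f v * J * ((T.γ v q)⁻¹ • (T.f q * T.finv v)) := by
          rw [mul_assoc, hq]
      _ = (T.γ v q)⁻¹ • (T.f v * (J * T.f q) * T.finv v) := by
          rw [mul_smul_comm]; simp only [mul_assoc]
      _ = ((T.γ v q)⁻¹ * μ) • (T.f v * T.f q⁻¹ * J * T.finv v) := by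
          rw [hμ, mul_smul_comm, smul_mul_assoc, smul_smul]; simp only [mul_assoc]
      _ = _ := by
          rw [T.swap v q⁻¹, smul_mul_assoc, smul_mul_assoc, smul_smul]
          simp only [mul_assoc]
          congr 1
          ring

theorem shift_eq {J : A} (hJ : T.IsPar J) (v : E) :
    ∃ t : ℂ, t ≠ 0 ∧ T.shift v J = t • (J * T.f (v⁻¹ * v⁻¹)) := by
  obtain ⟨⟨c, hc, rfl⟩, hneg⟩ := id hJ
  obtain ⟨μ, hμ⟩ := hneg v⁻¹
  rw [inv_inv] at hμ
  set J := T.comb c
  have hμ0 : μ ≠ 0 := by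
    intro h
    rw [h, zero_smul] at hμ
    apply hJ.ne_zero
    calc J = J * T.f v⁻¹ * T.finv v⁻¹ := by rw [mul_assoc, T.mul_finv, T.comb_mul_one]
      _ = 0 := by rw [hμ, zero_mul]
  refine ⟨μ⁻¹ * ((T.β v v⁻¹)⁻¹ * T.β v⁻¹ v⁻¹),
    mul_ne_zero (inv_ne_zero hμ0) (mul_ne_zero (inv_ne_zero (T.β_ne _ _)) (T.β_ne _ _)), ?_⟩
  have h1 : T.f v * J = μ⁻¹ • (J * T.f v⁻¹) := by rw [hμ, smul_smul, inv_mul_cancel₀ hμ0, one_smul]
  rw [Twisted.shift, h1, finv, smul_mul_smul_comm, mul_assoc, T.mul, mul_smul_comm, smul_smul]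
  congr 1
  ring

theorem existsUnique_shift (hodd : Odd (Nat.card E)) {J J' : A} (hJ : T.IsPar J)
    (hJ' : T.IsPar J') : ∃! v, J' = T.shift v J := by
  obtain ⟨⟨c, hc, hJc⟩, hneg⟩ := id hJ
  obtain ⟨⟨d, hd, hJd⟩, hneg'⟩ := id hJ'
  obtain ⟨g, hg⟩ := T.comb_mul_exists c d
  have hup : ∀ q, ∃ μ : ℂ, T.comb g * T.f q = μ • (T.f q * T.comb g) := fun q => by
    obtain ⟨μ', hμ'⟩ := hneg' q
    obtain ⟨μ, hμ⟩ := hneg q⁻¹
    refine ⟨μ' * μ, ?_⟩
    rw [← hg, ← hJc, ← hJd, mul_assoc, hμ', mul_smul_comm, ← mul_assoc, hμ, inv_inv,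
      smul_mul_assoc, smul_smul, mul_assoc]
  obtain ⟨p, a, hpa⟩ := T.single_of_commute_up g hup
  have hn : (Nat.card E : ℂ) ≠ 0 := Nat.cast_ne_zero.mpr Nat.card_pos.ne'
  have hJ'eq : J' = (a / (Nat.card E : ℂ)) • (J * T.f p) := by
    have h1 : J * J * J' = J * (a • T.f p) := by rw [mul_assoc, ← hpa, ← hg, hJc, hJd]
    rw [hJ.mul_self hodd, smul_mul_assoc, hJd, T.one_mul_comb, mul_smul_comm, ← hJd] at h1
    rw [div_eq_inv_mul, mul_smul, ← h1, smul_smul, inv_mul_cancel₀ hn, one_smul]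
  obtain ⟨v, hv⟩ := (sq_bijective hodd).surjective p⁻¹
  have hp : p = v⁻¹ * v⁻¹ := by
    simp only at hv
    rw [← mul_inv, hv, inv_inv]
  refine ⟨v, ?_, fun w hw => ?_⟩
  · obtain ⟨t, ht, hts⟩ := T.shift_eq hJ v
    have hsh : T.IsPar (T.shift v J) := hJ.shift v
    have e : J' = (a / (Nat.card E : ℂ) / t) • T.shift v J := by
      rw [hts, ← hp, smul_smul, div_mul_cancel₀ _ ht, hJ'eq]
    obtain ⟨⟨c', hc', hs'⟩, -⟩ := hsh
    have e2 := e
    rw [hJd, hs', T.smul_comb] at e2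
    have e3 := congrFun (T.comb_inj e2) 1
    rw [hd, hc', _root_.mul_one] at e3
    rwa [← e3, one_smul] at e
  · obtain ⟨t, ht, hts⟩ := T.shift_eq hJ w
    have hne : J * T.f p ≠ 0 := fun h => hJ'.ne_zero (by rw [hJ'eq, h, smul_zero])
    have h2 : J * J * T.f p = (t / (a / (Nat.card E : ℂ))) • (J * J * T.f (w⁻¹ * w⁻¹)) := by
      have ha : a / (Nat.card E : ℂ) ≠ 0 := fun h => hJ'.ne_zero (by rw [hJ'eq, h, zero_smul])
      rw [mul_assoc, mul_assoc, ← mul_smul_comm, div_eq_inv_mul t, mul_smul, ← hts, ← hw, hJ'eq,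
        smul_smul, inv_mul_cancel₀ ha, one_smul]
    simp only [hJ.mul_self hodd, smul_mul_assoc, T.one_mul, smul_smul] at h2
    have hpw : p = w⁻¹ * w⁻¹ := by
      by_contra hne'
      classical
      rw [← T.comb_single, ← T.comb_single] at h2
      have := congrFun (T.comb_inj h2) p
      rw [Pi.single_eq_same, Pi.single_eq_of_ne hne'] at this
      exact hn this
    have := (sq_bijective hodd).injective (a₁ := w⁻¹) (a₂ := v⁻¹) (hpw.symm.trans hp)
    exact inv_injective this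

/-- A semilinear automorphism of the twisted basis. -/
def Preserves (ψ : A ≃ₐ[ℂ] A) (θ : E ≃* E) : Prop := ∀ q, ∃ k : ℂ, ψ (T.f q) = k • T.f (θ q)

variable {T} in
theorem Preserves.f_one {ψ : A ≃ₐ[ℂ] A} {θ : E ≃* E} (h : T.Preserves ψ θ) :
    ψ (T.f 1) = T.f 1 := by
  obtain ⟨k, hk⟩ := h 1
  rw [map_one] at hk
  have h2 : ψ (T.f 1 * T.f 1) = ψ (T.f 1) * ψ (T.f 1) := map_mul _ _ _
  rw [T.one_mul, hk, smul_mul_smul_comm, T.one_mul] at h2
  have hk0 : k ≠ 0 := fun h0 => T.f_ne 1 (ψ.injective (by rw [hk, h0, zero_smul, map_zero]))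
  have h3 : k = k * k := T.smul_f_inj h2
  rw [hk, show k = 1 from mul_left_cancel₀ hk0 (h3.symm.trans (_root_.mul_one k).symm), one_smul]

variable {T} in
theorem Preserves.map_finv {ψ : A ≃ₐ[ℂ] A} {θ : E ≃* E} (h : T.Preserves ψ θ) (q : E) :
    ∃ k : ℂ, ψ (T.finv q) = k • T.finv (θ q) := by
  obtain ⟨k, hk⟩ := h q⁻¹
  refine ⟨(T.β q q⁻¹)⁻¹ * k * T.β (θ q) (θ q)⁻¹, ?_⟩
  rw [finv, finv, map_smul, hk, map_inv, smul_smul, smul_smul, mul_assoc _ (T.β _ _),
    mul_inv_cancel₀ (T.β_ne _ _), _root_.mul_one]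

variable {T} in
theorem IsPar.map {ψ : A ≃ₐ[ℂ] A} {θ : E ≃* E} (h : T.Preserves ψ θ) {J : A}
    (hJ : T.IsPar J) : T.IsPar (ψ J) := by
  obtain ⟨⟨c, hc, rfl⟩, hneg⟩ := hJ
  choose k hk using id h
  have hk1 : k 1 = 1 := by
    have := hk 1
    rw [h.f_one, map_one] at this
    exact (T.smul_f_inj (by rwa [one_smul])).symm
  refine ⟨⟨fun q => c (θ.symm q) * k (θ.symm q), by simp [hc, hk1], ?_⟩, fun q => ?_⟩
  · simp only [comb, map_sum, map_smul, hk, smul_smul]
    exact Fintype.sum_equiv θ.toEquiv _ _ fun q => by simp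
  · obtain ⟨μ, hμ⟩ := hneg (θ.symm q)
    have e := congrArg ψ hμ
    rw [map_mul, hk, MulEquiv.apply_symm_apply, map_smul, map_mul, hk, map_inv,
      MulEquiv.apply_symm_apply, mul_smul_comm, smul_mul_assoc, smul_smul] at e
    have hk0 : k (θ.symm q) ≠ 0 := fun h0 => T.f_ne (θ.symm q)
      (ψ.injective (by rw [hk, h0, zero_smul, map_zero]))
    refine ⟨(k (θ.symm q))⁻¹ * (μ * k (θ.symm q)⁻¹), ?_⟩
    rw [mul_smul, ← e, smul_smul, inv_mul_cancel₀ hk0, one_smul]

variable {T} in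
theorem Preserves.map_shift {ψ : A ≃ₐ[ℂ] A} {θ : E ≃* E} (h : T.Preserves ψ θ) (v : E) (J : A) :
    ψ (T.shift v J) = T.shift (θ v) (ψ J) := by
  obtain ⟨k, hk⟩ := h v
  obtain ⟨k', hk'⟩ := h.map_finv v
  have h1 : (k * k') • T.f 1 = (1 : ℂ) • T.f 1 := by
    rw [one_smul]
    have e : ψ (T.f v * T.finv v) = ψ (T.f 1) := by rw [T.mul_finv]
    rwa [map_mul, hk, hk', smul_mul_smul_comm, T.mul_finv, h.f_one] at e
  rw [Twisted.shift, Twisted.shift, map_mul, map_mul, hk, hk', smul_mul_assoc, smul_mul_smul_comm,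
    T.smul_f_inj h1, one_smul]

theorem shift_shift {J : A} (hJ : T.IsPar J) (v w : E) :
    T.shift v (T.shift w J) = T.shift (v * w) J := by
  have h1 : T.f v * T.f w = T.β v w • T.f (v * w) := T.mul v w
  have h2 : T.finv w * T.finv v = (T.β v w)⁻¹ • T.finv (v * w) := by
    have e : T.f v * T.f w * (T.finv w * T.finv v) = T.f 1 := by
      rw [← mul_assoc, mul_assoc (T.f v), T.mul_finv, T.mul_one, T.mul_finv]
    have e2 : T.finv (v * w) * (T.f v * T.f w) * (T.finv w * T.finv v) = T.finv (v * w) := by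
      rw [mul_assoc, e, T.finv_mul_one]
    rw [h1, mul_smul_comm, T.finv_mul, smul_mul_assoc, ← mul_assoc, T.one_mul_finv] at e2
    rw [← e2, smul_smul, inv_mul_cancel₀ (T.β_ne _ _), one_smul]
  simp only [Twisted.shift]
  calc T.f v * (T.f w * J * T.finv w) * T.finv v = T.f v * T.f w * J * (T.finv w * T.finv v) := by
        simp only [mul_assoc]
    _ = _ := by
      rw [h1, h2, smul_mul_assoc, smul_mul_smul_comm, mul_inv_cancel₀ (T.β_ne _ _), one_smul]

/-- The main statement: exactly one parity element is fixed. -/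
theorem existsUnique_fixed {S : Type w} [Group S] [Fintype S] (act : S →* MulAut E)
    (ψ : S →* (A ≃ₐ[ℂ] A)) (hψ : ∀ s, T.Preserves (ψ s) (act s))
    (hodd : Odd (Nat.card E)) (hcop : (Fintype.card S).Coprime (Nat.card E))
    (hfix : ∀ x : E, (∀ s, act s x = x) → x = 1) :
    ∃! J, T.IsPar J ∧ ∀ s, ψ s J = J := by
  obtain ⟨J0, hJ0⟩ := T.exists_par hodd
  choose a ha hau using fun s => T.existsUnique_shift hodd hJ0 (hJ0.map (hψ s))
  have hact : ∀ s v, ψ s (T.shift v J0) = T.shift (act s v * a s) J0 := fun s v => by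
    rw [(hψ s).map_shift, ha s, T.shift_shift hJ0]
  have hcoc : ∀ s t, a (s * t) = a s * act s (a t) := fun s t => by
    refine (hau (s * t) _ ?_).symm
    show ψ (s * t) J0 = _
    rw [map_mul]
    show ψ s (ψ t J0) = _
    rw [ha t, hact, mul_comm]
  obtain ⟨v, hv, hvu⟩ := existsUnique_coboundary act hcop hfix a hcoc
  refine ⟨T.shift v J0, ⟨hJ0.shift v, fun s => by rw [hact, mul_comm, hv s]⟩, ?_⟩
  rintro J ⟨hJ, hJfix⟩
  obtain ⟨w, rfl, -⟩ := T.existsUnique_shift hodd hJ0 hJ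
  congr 1
  refine hvu w fun s => ?_
  exact ((T.existsUnique_shift hodd hJ0 hJ).unique
    ((hJfix s).symm.trans (by rw [hact, mul_comm])) rfl)

omit [Fintype E] in
theorem trace_f {V : Type w} [AddCommGroup V] [Module ℂ V] (π : A →ₐ[ℂ] Module.End ℂ V)
    (hπ : π (T.f 1) = 1) {q : E} (hq : q ≠ 1) : LinearMap.trace ℂ V (π (T.f q)) = 0 := by
  obtain ⟨p, hp⟩ : ∃ p, T.γ p q ≠ 1 := by
    by_contra h
    push Not at h
    exact hq (T.eq_one_of_γ q h)
  have h1 : LinearMap.trace ℂ V (π (T.f p * T.f q * T.finv p)) =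
      LinearMap.trace ℂ V (π (T.f q)) := by
    rw [map_mul π, map_mul π, LinearMap.trace_mul_comm, ← mul_assoc, ← map_mul π, T.finv_mul, hπ,
      _root_.one_mul]
  rw [T.conj_f, map_smul, map_smul, smul_eq_mul] at h1
  by_contra h0
  exact hp (mul_right_cancel₀ h0 (by rw [_root_.one_mul]; exact h1))

theorem trace_par {V : Type w} [AddCommGroup V] [Module ℂ V] [FiniteDimensional ℂ V]
    (π : A →ₐ[ℂ] Module.End ℂ V) (hπ : π (T.f 1) = 1) {J : A} (hJ : T.IsPar J) :
    LinearMap.trace ℂ V (π J) = (Module.finrank ℂ V : ℂ) := by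
  obtain ⟨⟨c, hc, rfl⟩, -⟩ := hJ
  rw [comb, map_sum, map_sum, Finset.sum_eq_single 1]
  · rw [map_smul, map_smul, hπ, LinearMap.trace_one, hc, one_smul]
  · intro q _ hq
    rw [map_smul, map_smul, T.trace_f π hπ hq, smul_zero]
  · simp

end Twisted

end Cfsg.Lib.IsaacsStep
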