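import Cfsg.Agent.Chars.IsaacsStep.Model
import Cfsg.Agent.Chars.IsaacsStep.Parity

/-!
# The radical of a level and its invariant idempotent

The central part of the twisted section algebra carries exactly one multiplicative section fixed by
the operator group.  Its average is a central idempotent, acting as one on every invariant
irreducible representation over the level, and cuts out a non-degenerate twisted algebra.
-/

set_option autoImplicit false
set_option linter.unusedSectionVars false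

namespace Cfsg.Lib.IsaacsStep

open Cfsg.Lib.Chars MonoidAlgebra
open scoped Pointwise

universe u v w

variable {G : Type u} [Group G]

/-- The algebra automorphism of an automorphism of the group. -/
noncomputable def autA : MulAut G →* (MonoidAlgebra ℂ G ≃ₐ[ℂ] MonoidAlgebra ℂ G) where
  toFun α := domCongr ℂ ℂ α
  map_one' := by
    refine AlgEquiv.ext fun x => ?_
    induction x using MonoidAlgebra.induction_linear with
    | zero => simp
    | add x y hx hy => rw [map_add, hx, hy]; rfl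
    | single m a => rw [domCongr_single]; rfl
  map_mul' α β := by
    refine AlgEquiv.ext fun x => ?_
    induction x using MonoidAlgebra.induction_linear with
    | zero => simp
    | add x y hx hy => rw [map_add, hx, hy, map_add]
    | single m a => rw [AlgEquiv.mul_apply, domCongr_single, domCongr_single, domCongr_single]; rfl

/-- Precomposition on linear characters. -/
def dual {E : Type u} [CommGroup E] : MulAut E →* MulAut (E →* ℂˣ) where
  toFun θ :=
    { toFun := fun μ => μ.comp (θ⁻¹ : MulAut E).toMonoidHom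
      invFun := fun μ => μ.comp (θ : MulAut E).toMonoidHom
      left_inv := fun μ => MonoidHom.ext fun x => congrArg μ (θ.symm_apply_apply x)
      right_inv := fun μ => MonoidHom.ext fun x => congrArg μ (θ.apply_symm_apply x)
      map_mul' := fun μ ν => rfl }
  map_one' := rfl
  map_mul' θ η := by
    ext μ x
    rfl

theorem dual_apply {E : Type u} [CommGroup E] (θ : MulAut E) (μ : E →* ℂˣ) (x : E) :
    dual θ μ x = μ (θ.symm x) := rfl

theorem sum_dual {E : Type u} [CommGroup E] [Finite E] [Fintype (E →* ℂˣ)] {x : E} (hx : x ≠ 1) :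
    ∑ μ : E →* ℂˣ, (μ x : ℂ) = 0 := by
  haveI : NeZero (Monoid.exponent E : ℂ) := ⟨Nat.cast_ne_zero.mpr Monoid.exponent_ne_zero_of_finite⟩
  haveI : HasEnoughRootsOfUnity ℂ (Monoid.exponent E) := inferInstance
  obtain ⟨ν, hν⟩ := CommGroup.exists_apply_ne_one_of_hasEnoughRootsOfUnity E ℂ hx
  have h : ∑ μ : E →* ℂˣ, (μ x : ℂ) = (ν x : ℂ) * ∑ μ : E →* ℂˣ, (μ x : ℂ) := by
    rw [Finset.mul_sum]
    exact (Fintype.sum_equiv (Equiv.mulLeft ν) _ _ fun μ => by simp).symm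
  by_contra h0
  exact hν (Units.ext (mul_right_cancel₀ h0 (by rw [Units.val_one, one_mul]; exact h.symm)))

variable [Fintype G] {S : Type v} [Group S] [Fintype S] {F : Frame G S}

namespace Lev

variable (Λ : Lev F)

/-- The section `K ⧸ R`. -/
abbrev E : Type u := F.K ⧸ Λ.B.R.subgroupOf F.K

noncomputable instance : CommGroup Λ.E :=
  { (inferInstance : Group (F.K ⧸ Λ.B.R.subgroupOf F.K)) with
    mul_comm := F.quot_comm Λ.le le_rfl }

noncomputable instance : Fintype Λ.E := Fintype.ofFinite _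

/-- The basis of the section algebra. -/
noncomputable abbrev e (q : Λ.E) : MonoidAlgebra ℂ G := Λ.fhat F.K q

theorem smul_e_inj {a b : ℂ} {q : Λ.E} (h : a • Λ.e q = b • Λ.e q) : a = b :=
  smul_left_injective ℂ (Λ.fhat_ne_zero q) h

/-- Its structure constants. -/
noncomputable def b (p q : Λ.E) : ℂ := (Λ.fhat_mul p q).choose

theorem b_ne (p q : Λ.E) : Λ.b p q ≠ 0 := (Λ.fhat_mul p q).choose_spec.1

theorem e_mul (p q : Λ.E) : Λ.e p * Λ.e q = Λ.b p q • Λ.e (p * q) :=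
  (Λ.fhat_mul p q).choose_spec.2

theorem b_one_left (q : Λ.E) : Λ.b 1 q = 1 :=
  Λ.smul_e_inj (q := q) (by rw [one_smul]; simpa using ((Λ.e_mul 1 q).symm.trans (Λ.fhat_one_mul q)))

theorem b_assoc (p q r : Λ.E) : Λ.b p q * Λ.b (p * q) r = Λ.b q r * Λ.b p (q * r) := by
  apply Λ.smul_e_inj (q := p * q * r)
  have h1 : Λ.e p * Λ.e q * Λ.e r = (Λ.b p q * Λ.b (p * q) r) • Λ.e (p * q * r) := by
    rw [Λ.e_mul, smul_mul_assoc, Λ.e_mul, smul_smul]
  have h2 : Λ.e p * (Λ.e q * Λ.e r) = (Λ.b q r * Λ.b p (q * r)) • Λ.e (p * q * r) := by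
    rw [Λ.e_mul q r, mul_smul_comm, Λ.e_mul, smul_smul, mul_assoc p q r]
  rw [← h1, ← h2, mul_assoc]

/-- An automorphism restricted to `K`. -/
noncomputable def mapK {α : MulAut G} (h : Λ.Good α) : F.K →* F.K where
  toFun x := ⟨α x, h.memK x x.2⟩
  map_one' := Subtype.ext (map_one α)
  map_mul' x y := Subtype.ext (map_mul α _ _)

theorem mapK_surjective {α : MulAut G} (h : Λ.Good α) : Function.Surjective (Λ.mapK h) :=
  Finite.injective_iff_surjective.mp fun _ _ hxy =>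
    Subtype.ext (α.injective (congrArg Subtype.val hxy))

/-- The action on the section. -/
noncomputable def mapE {α : MulAut G} (h : Λ.Good α) : Λ.E ≃* Λ.E :=
  MulEquiv.ofBijective
    (QuotientGroup.map (Λ.B.R.subgroupOf F.K) (Λ.B.R.subgroupOf F.K) (Λ.mapK h)
      fun x hx => h.memR x hx : Λ.E →* Λ.E)
    (by
      have hs : Function.Surjective (QuotientGroup.map (Λ.B.R.subgroupOf F.K)
          (Λ.B.R.subgroupOf F.K) (Λ.mapK h) fun x hx => h.memR x hx) := fun q => by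
        induction q using QuotientGroup.induction_on with
        | H y =>
          obtain ⟨x, rfl⟩ := Λ.mapK_surjective h y
          exact ⟨x, rfl⟩
      exact ⟨Finite.injective_iff_surjective.mpr hs, hs⟩)

theorem mapE_mk {α : MulAut G} (h : Λ.Good α) (x : F.K) :
    Λ.mapE h (x : Λ.E) = ((Λ.mapK h x : F.K) : Λ.E) := rfl

theorem e_map {α : MulAut G} (h : Λ.Good α) (q : Λ.E) :
    ∃ k : ℂ, k ≠ 0 ∧ autA α (Λ.e q) = k • Λ.e (Λ.mapE h q) := by
  obtain ⟨x, rfl⟩ := QuotientGroup.mk_surjective q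
  exact Λ.fhat_map h x (Λ.mapK h x) rfl

/-- The action of `S` on the section. -/
noncomputable def actE : S →* MulAut Λ.E where
  toFun s := Λ.mapE (Λ.good_act s)
  map_one' := MulEquiv.ext fun q => by
    obtain ⟨x, rfl⟩ := QuotientGroup.mk_surjective q
    rw [mapE_mk]
    congr 1
    exact Subtype.ext (show F.act 1 x = x by rw [map_one]; rfl)
  map_mul' s t := MulEquiv.ext fun q => by
    obtain ⟨x, rfl⟩ := QuotientGroup.mk_surjective q
    rw [mapE_mk, MulAut.mul_apply, mapE_mk, mapE_mk]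
    congr 1
    exact Subtype.ext (show F.act (s * t) x = F.act s (F.act t x) by rw [map_mul]; rfl)

/-- The action of `C` on the section. -/
noncomputable def cE : F.C →* MulAut Λ.E where
  toFun c := Λ.mapE (Λ.good_conj c)
  map_one' := MulEquiv.ext fun q => by
    obtain ⟨x, rfl⟩ := QuotientGroup.mk_surjective q
    rw [mapE_mk]
    congr 1
    exact Subtype.ext (show MulAut.conj ((1 : F.C) : G) (x : G) = x by simp)
  map_mul' c d := MulEquiv.ext fun q => by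
    obtain ⟨x, rfl⟩ := QuotientGroup.mk_surjective q
    rw [mapE_mk, MulAut.mul_apply, mapE_mk, mapE_mk]
    congr 1
    exact Subtype.ext (show MulAut.conj ((c * d : F.C) : G) (x : G) =
      MulAut.conj (c : G) (MulAut.conj (d : G) x) by simp [mul_assoc])

theorem act_conj_comm (s : S) (c : F.C) :
    F.act s * MulAut.conj (c : G) = MulAut.conj (c : G) * F.act s := by
  ext x
  simp [F.actC s c c.2]

theorem actE_cE (s : S) (c : F.C) (q : Λ.E) : Λ.actE s (Λ.cE c q) = Λ.cE c (Λ.actE s q) := by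
  obtain ⟨x, rfl⟩ := QuotientGroup.mk_surjective q
  show Λ.mapE _ (Λ.mapE _ _) = Λ.mapE _ (Λ.mapE _ _)
  rw [mapE_mk, mapE_mk, mapE_mk, mapE_mk]
  congr 1
  exact Subtype.ext (congrArg (fun α : MulAut G => α x) (act_conj_comm s c))

theorem actE_fixed (q : Λ.E) (h : ∀ s, Λ.actE s q = q) : q = 1 := by
  obtain ⟨x, rfl⟩ := QuotientGroup.mk_surjective q
  refine (QuotientGroup.eq_one_iff x).mpr
    (F.coset_of Λ.le Λ.ge Λ.sR x.2 fun s => ?_)
  have h1 : ((Λ.mapK (Λ.good_act s) x * x⁻¹ : F.K) : Λ.E) = 1 := by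
    rw [QuotientGroup.mk_mul, QuotientGroup.mk_inv, ← mapE_mk]
    exact mul_inv_eq_one.mpr (h s)
  exact (QuotientGroup.eq_one_iff (Λ.mapK (Λ.good_act s) x * x⁻¹)).mp h1

theorem card_E_dvd : Nat.card Λ.E ∣ Nat.card G :=
  (Subgroup.card_quotient_dvd_card _).trans (Subgroup.card_subgroup_dvd_card F.K)

theorem cop_of_dvd {n : ℕ} (h : n ∣ Nat.card Λ.E) : (Fintype.card S).Coprime n :=
  F.cop.coprime_dvd_right (h.trans Λ.card_E_dvd)

/-- The radical. -/
noncomputable def Rad : Subgroup Λ.E :=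
  let M : Submonoid Λ.E :=
    { carrier := {q | ∀ p, Λ.e p * Λ.e q = Λ.e q * Λ.e p}
      one_mem' := fun p => by rw [Λ.fhat_mul_one, Λ.fhat_one_mul]
      mul_mem' := fun {q r} hq hr p => by
        have h : Λ.e (q * r) = (Λ.b q r)⁻¹ • (Λ.e q * Λ.e r) := by
          rw [Λ.e_mul, smul_smul, inv_mul_cancel₀ (Λ.b_ne q r), one_smul]
        rw [h, mul_smul_comm, smul_mul_assoc, ← mul_assoc, hq p, mul_assoc, hr p, mul_assoc] }
  { M with
    inv_mem' := fun {q} hq => by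
      have h : q⁻¹ = q ^ (Nat.card Λ.E - 1) := inv_eq_of_mul_eq_one_right (by
        rw [← pow_succ', Nat.sub_add_cancel Nat.card_pos, pow_card_eq_one'])
      show q⁻¹ ∈ M
      rw [h]
      exact pow_mem hq _ }

theorem mem_Rad {q : Λ.E} : q ∈ Λ.Rad ↔ ∀ p, Λ.e p * Λ.e q = Λ.e q * Λ.e p := Iff.rfl

noncomputable instance : Fintype Λ.Rad := Fintype.ofFinite _

noncomputable instance : Fintype (Λ.Rad →* ℂˣ) :=
  haveI : NeZero (Monoid.exponent Λ.Rad : ℂ) :=
    ⟨Nat.cast_ne_zero.mpr Monoid.exponent_ne_zero_of_finite⟩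
  haveI : Finite (Λ.Rad →* ℂˣ) :=
    Finite.of_equiv _ (CommGroup.monoidHom_mulEquiv_of_hasEnoughRootsOfUnity Λ.Rad ℂ).some.toEquiv.symm
  Fintype.ofFinite _

theorem card_dual : Nat.card (Λ.Rad →* ℂˣ) = Nat.card Λ.Rad :=
  haveI : NeZero (Monoid.exponent Λ.Rad : ℂ) :=
    ⟨Nat.cast_ne_zero.mpr Monoid.exponent_ne_zero_of_finite⟩
  CommGroup.card_monoidHom_of_hasEnoughRootsOfUnity Λ.Rad ℂ

theorem rad_map {α : MulAut G} (h : Λ.Good α) {q : Λ.E} (hq : q ∈ Λ.Rad) :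
    Λ.mapE h q ∈ Λ.Rad := by
  rw [mem_Rad] at hq ⊢
  intro p
  obtain ⟨p, rfl⟩ := (Λ.mapE h).surjective p
  obtain ⟨k, hk, e1⟩ := Λ.e_map h p
  obtain ⟨l, hl, e2⟩ := Λ.e_map h q
  have h3 := congrArg (autA α) (hq p)
  rw [map_mul, map_mul, e1, e2, smul_mul_smul_comm, smul_mul_smul_comm, mul_comm l k] at h3
  exact smul_right_injective _ (mul_ne_zero hk hl) h3

/-- The action on the radical. -/
noncomputable def mapR {α : MulAut G} (h : Λ.Good α) : Λ.Rad ≃* Λ.Rad :=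
  MulEquiv.ofBijective
    ({ toFun := fun q => ⟨Λ.mapE h q, Λ.rad_map h q.2⟩
       map_one' := Subtype.ext (map_one _)
       map_mul' := fun p q => Subtype.ext (map_mul _ _ _) } : Λ.Rad →* Λ.Rad)
    (Finite.injective_iff_bijective.mp fun _ _ hpq =>
      Subtype.ext ((Λ.mapE h).injective (congrArg Subtype.val hpq)))

theorem mapR_coe {α : MulAut G} (h : Λ.Good α) (q : Λ.Rad) : (Λ.mapR h q : Λ.E) = Λ.mapE h q := rfl

/-- The action of `S` on the radical. -/
noncomputable def actR : S →* MulAut Λ.Rad where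
  toFun s := Λ.mapR (Λ.good_act s)
  map_one' := MulEquiv.ext fun q => Subtype.ext (DFunLike.congr_fun Λ.actE.map_one (q : Λ.E))
  map_mul' s t := MulEquiv.ext fun q => Subtype.ext (DFunLike.congr_fun (Λ.actE.map_mul s t) (q : Λ.E))

/-- The action of `C` on the radical. -/
noncomputable def cR : F.C →* MulAut Λ.Rad where
  toFun c := Λ.mapR (Λ.good_conj c)
  map_one' := MulEquiv.ext fun q => Subtype.ext (DFunLike.congr_fun Λ.cE.map_one (q : Λ.E))
  map_mul' s t := MulEquiv.ext fun q => Subtype.ext (DFunLike.congr_fun (Λ.cE.map_mul s t) (q : Λ.E))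

theorem actR_cR (s : S) (c : F.C) : Λ.actR s * Λ.cR c = Λ.cR c * Λ.actR s :=
  MulEquiv.ext fun q => Subtype.ext (Λ.actE_cE s c q)

theorem actR_fixed (q : Λ.Rad) (h : ∀ s, Λ.actR s q = q) : q = 1 :=
  Subtype.ext (Λ.actE_fixed q fun s => congrArg Subtype.val (h s))

theorem dual_fixed (μ : Λ.Rad →* ℂˣ) (h : ∀ s, dual (Λ.actR s) μ = μ) : μ = 1 :=
  MonoidHom.ext fun x => hom_eq_one Λ.actR
    (Λ.cop_of_dvd (Subgroup.card_subgroup_dvd_card _)) Λ.actR_fixed μ (fun s y => by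
      have h2 := DFunLike.congr_fun (h s) (Λ.actR s y)
      rw [dual_apply, MulEquiv.symm_apply_apply] at h2
      exact h2.symm) x

/-- A multiplicative section. -/
def IsSec (w : Λ.Rad → MonoidAlgebra ℂ G) : Prop :=
  (∀ p q, w (p * q) = w p * w q) ∧ ∀ p : Λ.Rad, ∃ k : ℂ, k ≠ 0 ∧ w p = k • Λ.e p

variable {Λ} in
theorem IsSec.apply_one {w : Λ.Rad → MonoidAlgebra ℂ G} (hw : Λ.IsSec w) : w 1 = Λ.B.t 1 := by
  obtain ⟨k, hk, he⟩ := hw.2 1
  rw [OneMemClass.coe_one] at he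
  have h := hw.1 1 1
  rw [mul_one, he, smul_mul_smul_comm, Λ.fhat_one_mul] at h
  rw [he, show k = 1 from mul_left_cancel₀ hk ((Λ.smul_e_inj h).symm.trans (mul_one k).symm),
    one_smul]
  exact Λ.fhat_one

variable {Λ} in
theorem IsSec.ne_zero {w : Λ.Rad → MonoidAlgebra ℂ G} (hw : Λ.IsSec w) (p : Λ.Rad) : w p ≠ 0 := by
  obtain ⟨k, hk, he⟩ := hw.2 p
  rw [he]
  exact smul_ne_zero hk (Λ.fhat_ne_zero _)

theorem exists_sec : ∃ w, Λ.IsSec w := by
  let r : SymCocycle Λ.Rad :=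
    { r := fun p q => Units.mk0 (Λ.b p q) (Λ.b_ne _ _)
      symm := fun p q => Units.ext (Λ.smul_e_inj (q := (p : Λ.E) * q) (by
        rw [Units.val_mk0, Units.val_mk0, ← Λ.e_mul, mul_comm (p : Λ.E) q, ← Λ.e_mul]
        exact q.2 p))
      one_left := fun p => Units.ext (Λ.b_one_left p)
      assoc := fun p q r => Units.ext (Λ.b_assoc p q r) }
  obtain ⟨l, hl⟩ := exists_coboundary r
  refine ⟨fun p => (l p : ℂ)⁻¹ • Λ.e p, fun p q => ?_,
    fun p => ⟨_, inv_ne_zero (l p).ne_zero, rfl⟩⟩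
  show _ • Λ.e ((p * q : Λ.Rad) : Λ.E) = _ * _
  rw [smul_mul_smul_comm, Λ.e_mul, smul_smul, Subgroup.coe_mul]
  congr 1
  have h : (l p : ℂ) * l q = Λ.b p q * l (p * q) := by rw [← Units.val_mul, hl]; rfl
  rw [← mul_inv, h]
  field_simp [Λ.b_ne, (l (p * q)).ne_zero]

theorem existsUnique_ratio {w w' : Λ.Rad → MonoidAlgebra ℂ G} (hw : Λ.IsSec w) (hw' : Λ.IsSec w') :
    ∃! μ : Λ.Rad →* ℂˣ, ∀ p, w' p = (μ p : ℂ) • w p := by
  have h1 : ∀ p, ∃ a : ℂˣ, w' p = (a : ℂ) • w p := fun p => by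
    obtain ⟨k, hk, he⟩ := hw.2 p
    obtain ⟨k', hk', he'⟩ := hw'.2 p
    exact ⟨Units.mk0 (k' / k) (div_ne_zero hk' hk),
      by rw [Units.val_mk0, he, he', smul_smul, div_mul_cancel₀ _ hk]⟩
  choose a ha using h1
  have inj : ∀ p (c d : ℂˣ), (c : ℂ) • w p = (d : ℂ) • w p → c = d := fun p c d h =>
    Units.ext (smul_left_injective ℂ (hw.ne_zero p) h)
  refine ⟨MonoidHom.mk' a fun p q => inj (p * q) _ _ ?_, ha, fun μ hμ => MonoidHom.ext fun p =>
    inj p _ _ ((hμ p).symm.trans (ha p))⟩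
  rw [← ha, hw'.1, ha, ha, smul_mul_smul_comm, ← hw.1, Units.val_mul]

/-- Transport of a section. -/
noncomputable def transport {α : MulAut G} (h : Λ.Good α) (w : Λ.Rad → MonoidAlgebra ℂ G) :
    Λ.Rad → MonoidAlgebra ℂ G := fun p => autA α (w ((Λ.mapR h).symm p))

theorem isSec_transport {α : MulAut G} (h : Λ.Good α) {w : Λ.Rad → MonoidAlgebra ℂ G}
    (hw : Λ.IsSec w) : Λ.IsSec (Λ.transport h w) := by
  refine ⟨fun p q => by rw [transport, map_mul, hw.1, map_mul]; rfl, fun p => ?_⟩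
  obtain ⟨k, hk, he⟩ := hw.2 ((Λ.mapR h).symm p)
  obtain ⟨l, hl, he'⟩ := Λ.e_map h ((Λ.mapR h).symm p : Λ.Rad)
  refine ⟨k * l, mul_ne_zero hk hl, ?_⟩
  rw [transport, he, map_smul, he', smul_smul, ← mapR_coe, MulEquiv.apply_symm_apply]

theorem isSec_smul {w : Λ.Rad → MonoidAlgebra ℂ G} (hw : Λ.IsSec w) (μ : Λ.Rad →* ℂˣ) :
    Λ.IsSec fun p => (μ p : ℂ) • w p := by
  refine ⟨fun p q => by rw [smul_mul_smul_comm, ← hw.1, ← Units.val_mul, ← map_mul], fun p => ?_⟩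
  obtain ⟨k, hk, he⟩ := hw.2 p
  exact ⟨μ p * k, mul_ne_zero (μ p).ne_zero hk, by
    show (μ p : ℂ) • w p = _
    rw [he, smul_smul]⟩

theorem transport_act (s t : S) (w : Λ.Rad → MonoidAlgebra ℂ G) :
    Λ.transport (Λ.good_act (s * t)) w =
      Λ.transport (Λ.good_act s) (Λ.transport (Λ.good_act t) w) := by
  funext p
  show autA (F.act (s * t)) (w ((Λ.actR (s * t)).symm p)) =
    autA (F.act s) (autA (F.act t) (w ((Λ.actR t).symm ((Λ.actR s).symm p))))
  rw [map_mul Λ.actR, map_mul F.act, map_mul autA, AlgEquiv.mul_apply]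
  rfl

theorem existsUnique_sec : ∃! w, Λ.IsSec w ∧ ∀ s, Λ.transport (Λ.good_act s) w = w := by
  obtain ⟨w0, hw0⟩ := Λ.exists_sec
  choose a ha hau using fun s => Λ.existsUnique_ratio hw0 (Λ.isSec_transport (Λ.good_act s) hw0)
  have htr : ∀ s (μ : Λ.Rad →* ℂˣ) p,
      Λ.transport (Λ.good_act s) (fun q => (μ q : ℂ) • w0 q) p =
        ((dual (Λ.actR s) μ * a s) p : ℂ) • w0 p := fun s μ p => by
    have h1 := ha s p
    rw [transport] at h1 ⊢
    rw [map_smul, h1, smul_smul]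
    rfl
  have hcoc : ∀ s t, a (s * t) = a s * dual (Λ.actR s) (a t) := fun s t => by
    refine (hau (s * t) _ fun p => ?_).symm
    rw [MonoidHom.mul_apply, mul_comm, ← MonoidHom.mul_apply, ← htr]
    have h2 : ∀ q, Λ.transport (Λ.good_act t) w0 q = (a t q : ℂ) • w0 q := ha t
    rw [Λ.transport_act]
    exact congrFun (congrArg (Λ.transport (Λ.good_act s)) (funext h2)) p
  obtain ⟨v, hv, hvu⟩ := existsUnique_coboundary (dual.comp Λ.actR)
    (by rw [Λ.card_dual]; exact Λ.cop_of_dvd (Subgroup.card_subgroup_dvd_card _))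
    Λ.dual_fixed a hcoc
  refine ⟨fun p => (v p : ℂ) • w0 p, ⟨Λ.isSec_smul hw0 v, fun s => funext fun p => ?_⟩, ?_⟩
  · rw [htr, MonoidHom.mul_apply, mul_comm, ← MonoidHom.mul_apply]
    exact congrArg (fun μ : Λ.Rad →* ℂˣ => (μ p : ℂ) • w0 p) (hv s)
  · rintro w ⟨hw, hfix⟩
    obtain ⟨μ, hμ, -⟩ := Λ.existsUnique_ratio hw0 hw
    obtain rfl : w = fun p => (μ p : ℂ) • w0 p := funext hμ
    have : μ = v := hvu μ fun s => MonoidHom.ext fun p => Units.ext <|
      smul_left_injective ℂ (hw0.ne_zero p) (by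
        show ((a s * dual (Λ.actR s) μ) p : ℂ) • w0 p = (μ p : ℂ) • w0 p
        rw [MonoidHom.mul_apply, mul_comm, ← MonoidHom.mul_apply, ← htr]
        exact congrFun (hfix s) p)
    rw [this]

/-- The invariant section. -/
noncomputable def sec : Λ.Rad → MonoidAlgebra ℂ G := Λ.existsUnique_sec.choose

theorem isSec_sec : Λ.IsSec Λ.sec := Λ.existsUnique_sec.choose_spec.1.1

theorem sec_act (s : S) : Λ.transport (Λ.good_act s) Λ.sec = Λ.sec :=
  Λ.existsUnique_sec.choose_spec.1.2 s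

theorem sec_conj (c : F.C) : Λ.transport (Λ.good_conj c) Λ.sec = Λ.sec := by
  refine Λ.existsUnique_sec.choose_spec.2 _ ⟨Λ.isSec_transport _ Λ.isSec_sec, fun s => ?_⟩
  funext p
  have h1 := congrFun (Λ.sec_act s) ((Λ.mapR (Λ.good_conj (c : G))).symm p)
  rw [transport] at h1 ⊢
  rw [transport, transport, ← h1, ← AlgEquiv.mul_apply, ← AlgEquiv.mul_apply, ← map_mul, ← map_mul,
    act_conj_comm]
  congr 2
  show (Λ.cR c).symm ((Λ.actR s).symm p) = (Λ.actR s).symm ((Λ.cR c).symm p)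
  exact (congrArg (fun θ : MulAut Λ.Rad => θ.symm p) (Λ.actR_cR s c) :)

/-- The idempotent of a linear character of the radical. -/
noncomputable def eps (μ : Λ.Rad →* ℂˣ) : MonoidAlgebra ℂ G :=
  (Nat.card Λ.Rad : ℂ)⁻¹ • ∑ p : Λ.Rad, (μ p : ℂ) • Λ.sec p

theorem card_Rad_ne : (Nat.card Λ.Rad : ℂ) ≠ 0 := Nat.cast_ne_zero.mpr Nat.card_pos.ne'

theorem sec_mul_eps (μ : Λ.Rad →* ℂˣ) (q : Λ.Rad) :
    Λ.sec q * Λ.eps μ = (μ q : ℂ)⁻¹ • Λ.eps μ := by
  rw [eps, mul_smul_comm, smul_smul ((μ q : ℂ)⁻¹), mul_comm ((μ q : ℂ)⁻¹), mul_smul]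
  congr 1
  rw [Finset.mul_sum, Finset.smul_sum]
  refine Fintype.sum_equiv (Equiv.mulLeft q) _ _ fun p => ?_
  rw [Equiv.coe_mulLeft, mul_smul_comm, ← Λ.isSec_sec.1, smul_smul, map_mul, Units.val_mul,
    inv_mul_cancel_left₀ (μ q).ne_zero]

theorem t_one_mul_eps (μ : Λ.Rad →* ℂˣ) : Λ.B.t 1 * Λ.eps μ = Λ.eps μ := by
  rw [← Λ.isSec_sec.apply_one, sec_mul_eps, map_one, Units.val_one, inv_one, one_smul]

theorem e_rad_mul_eps (μ : Λ.Rad →* ℂˣ) (q : Λ.Rad) :
    ∃ k : ℂ, k ≠ 0 ∧ Λ.e q * Λ.eps μ = k • Λ.eps μ := by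
  obtain ⟨k, hk, he⟩ := Λ.isSec_sec.2 q
  refine ⟨k⁻¹ * (μ q : ℂ)⁻¹, mul_ne_zero (inv_ne_zero hk) (inv_ne_zero (μ q).ne_zero), ?_⟩
  rw [mul_smul, ← sec_mul_eps, he, smul_mul_assoc, smul_smul, inv_mul_cancel₀ hk, one_smul]

theorem eps_comm_e (μ : Λ.Rad →* ℂˣ) (q : Λ.E) : Λ.e q * Λ.eps μ = Λ.eps μ * Λ.e q := by
  simp only [eps, mul_smul_comm, smul_mul_assoc, Finset.mul_sum, Finset.sum_mul]
  congr 1
  refine Finset.sum_congr rfl fun p _ => ?_
  obtain ⟨k, -, he⟩ := Λ.isSec_sec.2 p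
  rw [he, mul_smul_comm, smul_mul_assoc, p.2 q]

theorem eps_comm_t (μ : Λ.Rad →* ℂˣ) (N : Λ.B.E0) : Λ.B.t N * Λ.eps μ = Λ.eps μ * Λ.B.t N := by
  simp only [eps, mul_smul_comm, smul_mul_assoc, Finset.mul_sum, Finset.sum_mul]
  congr 1
  refine Finset.sum_congr rfl fun p _ => ?_
  obtain ⟨k, -, he⟩ := Λ.isSec_sec.2 p
  rw [he, mul_smul_comm, smul_mul_assoc, Λ.fhat_comm_t]

theorem eps_mul_t_one (μ : Λ.Rad →* ℂˣ) : Λ.eps μ * Λ.B.t 1 = Λ.eps μ := by
  rw [← eps_comm_t, t_one_mul_eps]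

theorem eps_mul_eps (μ : Λ.Rad →* ℂˣ) : Λ.eps μ * Λ.eps μ = Λ.eps μ := by
  conv_lhs => arg 1; rw [eps]
  rw [smul_mul_assoc, Finset.sum_mul, Finset.sum_congr rfl (g := fun _ => Λ.eps μ) (fun p _ => by
      rw [smul_mul_assoc, sec_mul_eps, smul_smul, mul_inv_cancel₀ (μ p).ne_zero, one_smul]),
    Finset.sum_const, Finset.card_univ, ← Nat.cast_smul_eq_nsmul ℂ, smul_smul,
    ← Nat.card_eq_fintype_card, inv_mul_cancel₀ Λ.card_Rad_ne, one_smul]

theorem eps_mul_eps_ne {μ ν : Λ.Rad →* ℂˣ} (h : μ ≠ ν) : Λ.eps μ * Λ.eps ν = 0 := by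
  obtain ⟨q, hq⟩ : ∃ q, μ q ≠ ν q := by
    by_contra hn
    push Not at hn
    exact h (MonoidHom.ext hn)
  have h1 : (μ q : ℂ)⁻¹ • (Λ.eps μ * Λ.eps ν) = (ν q : ℂ)⁻¹ • (Λ.eps μ * Λ.eps ν) := by
    have hc : Λ.sec q * Λ.eps μ = Λ.eps μ * Λ.sec q := by
      obtain ⟨k, -, he⟩ := Λ.isSec_sec.2 q
      rw [he, smul_mul_assoc, eps_comm_e, mul_smul_comm]
    rw [← mul_smul_comm ((ν q : ℂ)⁻¹), ← sec_mul_eps, ← mul_assoc, ← hc, sec_mul_eps,
      smul_mul_assoc]
  by_contra h0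
  exact hq (Units.ext (inv_injective (smul_left_injective ℂ h0 h1)))

theorem sum_eps : ∑ μ, Λ.eps μ = Λ.B.t 1 := by
  simp only [eps, ← Finset.smul_sum]
  rw [Finset.sum_comm, Finset.sum_eq_single 1]
  · simp only [map_one, Units.val_one, one_smul]
    rw [Finset.sum_const, Finset.card_univ, ← Nat.cast_smul_eq_nsmul ℂ, smul_smul,
      ← Nat.card_eq_fintype_card, Λ.card_dual, inv_mul_cancel₀ Λ.card_Rad_ne, one_smul]
    exact Λ.isSec_sec.apply_one
  · intro p _ hp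
    rw [← Finset.sum_smul, sum_dual hp, zero_smul]
  · simp

theorem eps_map {α : MulAut G} (h : Λ.Good α) (hsec : Λ.transport h Λ.sec = Λ.sec)
    (μ : Λ.Rad →* ℂˣ) : autA α (Λ.eps μ) = Λ.eps (dual (Λ.mapR h) μ) := by
  simp only [eps, map_smul, map_sum]
  congr 1
  refine Fintype.sum_equiv (Λ.mapR h).toEquiv _ _ fun p => ?_
  rw [dual_apply, MulEquiv.toEquiv_eq_coe, EquivLike.coe_coe, MulEquiv.symm_apply_apply]
  congr 1
  have := congrFun hsec (Λ.mapR h p)
  rw [transport, MulEquiv.symm_apply_apply] at this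
  exact this

theorem single_comm_eps_of_mem {x : G} (hx : x ∈ F.K) (μ : Λ.Rad →* ℂˣ) :
    single x 1 * Λ.eps μ = Λ.eps μ * single x 1 := by
  obtain ⟨c, -, hf⟩ := Λ.f_eq_fhat (M := F.K) ⟨x, hx⟩
  have hf' : Λ.B.f x = c • Λ.e ((⟨x, hx⟩ : F.K) : Λ.E) := hf
  calc single x 1 * Λ.eps μ = Λ.B.t 1 * single x 1 * Λ.eps μ := by
        rw [← Λ.B.t_one_central, mul_assoc, t_one_mul_eps]
    _ = Λ.eps μ * (Λ.B.t 1 * single x 1) := by
        rw [Λ.B.single_eq, hf', mul_assoc, smul_mul_assoc, eps_comm_e, ← mul_smul_comm, ← mul_assoc,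
          eps_comm_t, mul_assoc]
    _ = Λ.eps μ * single x 1 := by rw [← mul_assoc, eps_mul_t_one]

theorem single_mul_eps (c : F.C) (μ : Λ.Rad →* ℂˣ) :
    single (c : G) 1 * Λ.eps μ = Λ.eps (dual (Λ.cR c) μ) * single (c : G) 1 := by
  rw [← show autA (MulAut.conj (c : G)) (Λ.eps μ) = Λ.eps (dual (Λ.cR c) μ) from
    Λ.eps_map (Λ.good_conj (c : G)) (Λ.sec_conj c) μ]
  show _ = domCongr ℂ ℂ (MulAut.conj (c : G)) (Λ.eps μ) * single (c : G) 1
  rw [← single_mul_domCongr, mul_assoc, single_mul_single, inv_mul_cancel, one_mul, ← one_def, mul_one]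

theorem central_of {z : MonoidAlgebra ℂ G} (hK : ∀ x ∈ F.K, single x 1 * z = z * single x 1)
    (hC : ∀ c ∈ F.C, single c 1 * z = z * single c 1) (g : G) :
    single g 1 * z = z * single g 1 := by
  have hg : g ∈ (F.K : Set G) * (F.C : Set G) := by
    rw [← Subgroup.normal_mul F.K F.C, F.sup]
    trivial
  obtain ⟨k, hk, c, hc, rfl⟩ := hg
  have e : single (k * c) (1 : ℂ) = single k 1 * single c 1 := by rw [single_mul_single, one_mul]
  rw [e, mul_assoc, hC c hc, ← mul_assoc, hK k hk, mul_assoc]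

theorem eps_one_central (g : G) : single g 1 * Λ.eps 1 = Λ.eps 1 * single g 1 :=
  central_of (F := F) (fun x hx => Λ.single_comm_eps_of_mem hx 1)
    (fun c hc => by
      have h := Λ.single_mul_eps ⟨c, hc⟩ 1
      rwa [map_one] at h) g

theorem eps_one_act (s : S) : autA (F.act s) (Λ.eps 1) = Λ.eps 1 := by
  rw [Λ.eps_map (Λ.good_act s) (Λ.sec_act s), map_one]

section Rep

variable {V : Type w} [AddCommGroup V] [Module ℂ V] [FiniteDimensional ℂ V]
  (σ : Representation ℂ G V) [σ.IsIrreducible]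

theorem scalar_of_central {z : MonoidAlgebra ℂ G} (hz : ∀ g, single g 1 * z = z * single g 1) :
    ∃ a : ℂ, σ.asAlgebraHom z = a • (1 : Module.End ℂ V) := by
  obtain ⟨a, ha⟩ := schur_scalar σ (σ.asAlgebraHom z) fun g v => by
    have h := congrArg σ.asAlgebraHom (hz g)
    rw [map_mul, map_mul, Representation.asAlgebraHom_single_one] at h
    exact (LinearMap.congr_fun h v).symm
  exact ⟨a, ha⟩

theorem trace_autA {α : MulAut G} (hα : ∀ g, σ.character (α g) = σ.character g)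
    (z : MonoidAlgebra ℂ G) :
    LinearMap.trace ℂ V (σ.asAlgebraHom (autA α z)) = LinearMap.trace ℂ V (σ.asAlgebraHom z) := by
  show LinearMap.trace ℂ V (σ.asAlgebraHom (domCongr ℂ ℂ α z)) = _
  induction z using MonoidAlgebra.induction_linear with
  | zero => simp
  | add x y hx hy => simp only [map_add, hx, hy]
  | single m a =>
    rw [domCongr_single, Representation.asAlgebraHom_single, Representation.asAlgebraHom_single,
      map_smul, map_smul]
    exact congrArg (a • ·) (hα m)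

theorem eps_one_acts (ht : σ.asAlgebraHom (Λ.B.t 1) = 1)
    (hinv : ∀ s g, σ.character (F.act s g) = σ.character g) :
    σ.asAlgebraHom (Λ.eps 1) = 1 := by
  classical
  haveI : Nontrivial V := nontrivial_of_irreducible σ
  set π := σ.asAlgebraHom
  let d : (Λ.Rad →* ℂˣ) → ℂ := fun μ => LinearMap.trace ℂ V (π (Λ.eps μ))
  have hdC : ∀ (c : F.C) μ, d (dual (Λ.cR c) μ) = d μ := fun c μ => by
    show LinearMap.trace ℂ V (π (Λ.eps (dual (Λ.cR c) μ))) = _
    rw [show Λ.eps (dual (Λ.cR c) μ) = autA (MulAut.conj (c : G)) (Λ.eps μ) from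
      (Λ.eps_map (Λ.good_conj (c : G)) (Λ.sec_conj c) μ).symm]
    exact trace_autA σ (fun g => by
      simpa using classFunction_conj' (isClassFunction_character σ) g (c : G)⁻¹) _
  have hdS : ∀ (s : S) μ, d (dual (Λ.actR s) μ) = d μ := fun s μ => by
    show LinearMap.trace ℂ V (π (Λ.eps (dual (Λ.actR s) μ))) = _
    rw [show Λ.eps (dual (Λ.actR s) μ) = autA (F.act s) (Λ.eps μ) from
      (Λ.eps_map (Λ.good_act s) (Λ.sec_act s) μ).symm]
    exact trace_autA σ (hinv s) _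
  obtain ⟨μ, hμ⟩ : ∃ μ, d μ ≠ 0 := by
    by_contra hn
    push Not at hn
    have h : ∑ μ, d μ = (Module.finrank ℂ V : ℂ) := by
      show ∑ μ, LinearMap.trace ℂ V (π (Λ.eps μ)) = _
      rw [← map_sum, ← map_sum, sum_eps, ht, LinearMap.trace_one]
    rw [Finset.sum_eq_zero fun μ _ => hn μ] at h
    exact (Nat.cast_ne_zero.mpr (Module.finrank_pos (R := ℂ) (M := V)).ne') h.symm
  haveI : Fintype F.C := Fintype.ofFinite _
  set z := ∑ c : F.C, Λ.eps (dual (Λ.cR c) μ) with hz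
  obtain ⟨a, ha⟩ := scalar_of_central σ (z := z) (central_of (F := F)
    (fun x hx => by
      rw [hz, Finset.mul_sum, Finset.sum_mul]
      exact Finset.sum_congr rfl fun c _ => Λ.single_comm_eps_of_mem hx _)
    (fun d' hd => by
      rw [hz, Finset.mul_sum, Finset.sum_mul]
      refine Fintype.sum_equiv (Equiv.mulLeft (⟨d', hd⟩ : F.C)) _ _ fun c => ?_
      rw [Equiv.coe_mulLeft, Λ.single_mul_eps ⟨d', hd⟩, map_mul, map_mul]
      rfl))
  have ha0 : a ≠ 0 := by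
    intro h0
    have h := congrArg (LinearMap.trace ℂ V) ha
    rw [h0, zero_smul, map_zero, hz, map_sum, map_sum,
      Finset.sum_congr rfl (g := fun _ => d μ) (fun c _ => hdC c μ), Finset.sum_const,
      Finset.card_univ, nsmul_eq_mul] at h
    exact hμ ((mul_eq_zero.mp h).resolve_left (Nat.cast_ne_zero.mpr Fintype.card_ne_zero))
  have horb : ∀ ν, π (Λ.eps ν) ≠ 0 → ∃ c : F.C, dual (Λ.cR c) μ = ν := by
    intro ν hν
    by_contra hn
    push Not at hn
    apply hν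
    have h : π (Λ.eps ν * z) = 0 := by
      rw [hz, Finset.mul_sum, Finset.sum_eq_zero fun c _ => Λ.eps_mul_eps_ne (hn c).symm, map_zero]
    rw [map_mul, ha, mul_smul_comm, mul_one] at h
    exact (smul_eq_zero.mp h).resolve_left ha0
  have hfix : ∀ s, dual (Λ.actR s) μ = μ := by
    intro s
    have hν : π (Λ.eps (dual (Λ.actR s) μ)) ≠ 0 := fun h0 => hμ (by
      rw [← hdS s μ]
      show LinearMap.trace ℂ V _ = 0
      rw [h0, map_zero])
    obtain ⟨c, hc⟩ := horb _ hν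
    set A := (dual (Λ.actR s) : MulAut (Λ.Rad →* ℂˣ))
    set B := (dual (Λ.cR c) : MulAut (Λ.Rad →* ℂˣ))
    have hAB : Commute A B := by
      show _ * _ = _ * _
      rw [← map_mul, ← map_mul, Λ.actR_cR]
    have hn : ∀ n : ℕ, (A ^ n) μ = (B ^ n) μ := by
      intro n
      induction n with
      | zero => rfl
      | succ n ih =>
        rw [pow_succ, MulAut.mul_apply, ← hc, ← MulAut.mul_apply, (hAB.pow_left n).eq,
          MulAut.mul_apply, ih, ← MulAut.mul_apply, ← pow_succ']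
    have h1 : (B ^ Fintype.card S) μ = μ := by
      rw [← hn]
      show ((dual.comp Λ.actR) s ^ Fintype.card S) μ = μ
      rw [← map_pow, pow_card_eq_one, map_one]
      rfl
    obtain ⟨m, hm⟩ := exists_pow_eq_self_of_coprime (x := c) (n := Fintype.card S)
      (F.cop.coprime_dvd_right ((orderOf_dvd_natCard c).trans (Subgroup.card_subgroup_dvd_card F.C)))
    have h2 : ∀ k : ℕ, ((B ^ Fintype.card S) ^ k) μ = μ := by
      intro k
      induction k with
      | zero => rfl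
      | succ k ih => rw [pow_succ, MulAut.mul_apply, h1, ih]
    show A μ = μ
    have h3 : ((dual (Λ.cR ((c ^ Fintype.card S) ^ m))) : MulAut (Λ.Rad →* ℂˣ)) μ = μ := by
      rw [map_pow, map_pow, map_pow, map_pow]
      exact h2 m
    rw [hm] at h3
    exact hc.symm.trans h3
  rw [Λ.dual_fixed μ hfix] at hμ
  obtain ⟨b, hb⟩ := scalar_of_central σ Λ.eps_one_central
  have hb0 : b ≠ 0 := fun h0 => hμ (by
    show LinearMap.trace ℂ V (π (Λ.eps 1)) = 0
    rw [hb, h0, zero_smul, map_zero])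
  have h := congrArg π (Λ.eps_mul_eps 1)
  rw [map_mul, hb, smul_mul_smul_comm, one_mul] at h
  rw [hb, mul_left_cancel₀ hb0 ((smul_left_injective ℂ one_ne_zero h).trans (mul_one b).symm),
    one_smul]

end Rep

/-- The non-degenerate section. -/
abbrev E' : Type u := Λ.E ⧸ Λ.Rad

noncomputable instance : Fintype Λ.E' := Fintype.ofFinite _

/-- The basis of the non-degenerate section algebra. -/
noncomputable def e' (q : Λ.E') : MonoidAlgebra ℂ G :=
  open scoped Classical in if q = 1 then Λ.eps 1 else Λ.e q.out * Λ.eps 1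

theorem e'_one : Λ.e' 1 = Λ.eps 1 := by simp [e']

theorem e_mul_eps (q : Λ.E) : ∃ c : ℂ, c ≠ 0 ∧ Λ.e q * Λ.eps 1 = c • Λ.e' (q : Λ.E') := by
  classical
  by_cases hq : (q : Λ.E') = 1
  · obtain ⟨k, hk, he⟩ := Λ.e_rad_mul_eps 1 ⟨q, (QuotientGroup.eq_one_iff q).mp hq⟩
    exact ⟨k, hk, by rw [hq, e'_one]; exact he⟩
  · rw [e', if_neg hq]
    set o := (q : Λ.E').out
    have ho : o⁻¹ * q ∈ Λ.Rad := QuotientGroup.eq.mp (Quotient.out_eq _)
    obtain ⟨k, hk, he⟩ := Λ.e_rad_mul_eps 1 ⟨_, ho⟩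
    refine ⟨(Λ.b o (o⁻¹ * q))⁻¹ * k, mul_ne_zero (inv_ne_zero (Λ.b_ne _ _)) hk, ?_⟩
    rw [mul_smul, ← mul_smul_comm k, ← he, ← mul_assoc, Λ.e_mul, mul_inv_cancel_left,
      smul_mul_assoc, smul_smul, inv_mul_cancel₀ (Λ.b_ne _ _), one_smul]

theorem e'_mul_exists (p q : Λ.E') :
    ∃ c : ℂ, c ≠ 0 ∧ Λ.e' p * Λ.e' q = c • Λ.e' (p * q) := by
  obtain ⟨p, rfl⟩ := QuotientGroup.mk_surjective p
  obtain ⟨q, rfl⟩ := QuotientGroup.mk_surjective q
  obtain ⟨a, ha, hp⟩ := Λ.e_mul_eps p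
  obtain ⟨b, hb, hq⟩ := Λ.e_mul_eps q
  obtain ⟨c, hc, hpq⟩ := Λ.e_mul_eps (p * q)
  refine ⟨(a * b)⁻¹ * (Λ.b p q * c),
    mul_ne_zero (inv_ne_zero (mul_ne_zero ha hb)) (mul_ne_zero (Λ.b_ne _ _) hc), ?_⟩
  have h : Λ.e p * Λ.eps 1 * (Λ.e q * Λ.eps 1) = Λ.b p q • (Λ.e (p * q) * Λ.eps 1) := by
    rw [mul_assoc, ← mul_assoc (Λ.eps 1), ← eps_comm_e, mul_assoc (Λ.e q), eps_mul_eps, ← mul_assoc,
      e_mul, smul_mul_assoc]
  rw [hp, hq, hpq, smul_mul_smul_comm, smul_smul, QuotientGroup.mk_mul] at h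
  rw [mul_smul, ← h, smul_smul, inv_mul_cancel₀ (mul_ne_zero ha hb), one_smul]

theorem e'_eq (q : Λ.E') : ∃ d : ℂ, d ≠ 0 ∧ Λ.e' q = d • (Λ.e q.out * Λ.eps 1) := by
  obtain ⟨c, hc, he⟩ := Λ.e_mul_eps q.out
  refine ⟨c⁻¹, inv_ne_zero hc, ?_⟩
  rw [he, smul_smul, inv_mul_cancel₀ hc, one_smul, show ((q.out : Λ.E) : Λ.E') = q from
    Quotient.out_eq _]

theorem e'_indep : LinearIndependent ℂ Λ.e' := by
  rw [Fintype.linearIndependent_iff]
  intro g hg q
  choose d hd he using Λ.e'_eq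
  choose k hk hs using Λ.isSec_sec.2
  let φ : Λ.E' × Λ.Rad → Λ.E := fun x => x.1.out * x.2
  have hφ : Function.Injective φ := by
    rintro ⟨a, p⟩ ⟨b, r⟩ h
    have h1 := congrArg (fun x : Λ.E => (x : Λ.E')) h
    simp only [φ, QuotientGroup.mk_mul, (QuotientGroup.eq_one_iff _).mpr p.2,
      (QuotientGroup.eq_one_iff _).mpr r.2, mul_one, QuotientGroup.out_eq'] at h1
    have h2 : a = b := h1
    subst h2
    exact Prod.ext rfl (Subtype.ext (mul_left_cancel h))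
  have hind := (Λ.fhat_indep (M := F.K) Λ.ge).comp φ hφ
  rw [Fintype.linearIndependent_iff] at hind
  have h := hind (fun x => g x.1 * (d x.1 * (Nat.card Λ.Rad : ℂ)⁻¹ * k x.2 * Λ.b x.1.out x.2)) (by
    rw [← hg, Fintype.sum_prod_type]
    refine Finset.sum_congr rfl fun a _ => ?_
    rw [he a, eps, smul_smul, mul_smul_comm, Finset.mul_sum, smul_smul, Finset.smul_sum]
    refine Finset.sum_congr rfl fun p _ => ?_
    rw [MonoidHom.one_apply, Units.val_one, one_smul, hs p, mul_smul_comm, Λ.e_mul, smul_smul,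
      smul_smul]
    congr 1
    ring) (q, 1)
  simpa [hd q, hk 1, Λ.b_ne, Λ.card_Rad_ne] using h

/-- The non-degenerate twisted basis. -/
noncomputable def T : Twisted Λ.E' (MonoidAlgebra ℂ G) where
  f := Λ.e'
  β p q := (Λ.e'_mul_exists p q).choose
  β_ne p q := (Λ.e'_mul_exists p q).choose_spec.1
  mul p q := (Λ.e'_mul_exists p q).choose_spec.2
  one_mul q := by
    obtain ⟨d, -, he⟩ := Λ.e'_eq q
    rw [e'_one, he, mul_smul_comm, ← mul_assoc, ← eps_comm_e, mul_assoc, eps_mul_eps]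
  mul_one q := by
    obtain ⟨d, -, he⟩ := Λ.e'_eq q
    rw [e'_one, he, smul_mul_assoc, mul_assoc, eps_mul_eps]
  indep := Λ.e'_indep
  nondeg := fun q hq => by
    obtain ⟨a, rfl⟩ := QuotientGroup.mk_surjective q
    refine (QuotientGroup.eq_one_iff a).mpr (Λ.mem_Rad.mpr fun p => ?_)
    obtain ⟨c, hc, hp⟩ := Λ.e_mul_eps p
    obtain ⟨c', hc', ha⟩ := Λ.e_mul_eps a
    obtain ⟨k, hk, hpa⟩ := Λ.e_mul_eps (p * a)
    have h1 : ∀ x y : Λ.E,
        Λ.e x * Λ.eps 1 * (Λ.e y * Λ.eps 1) = Λ.b x y • (Λ.e (x * y) * Λ.eps 1) := fun x y => by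
      rw [mul_assoc, ← mul_assoc (Λ.eps 1), ← eps_comm_e, mul_assoc (Λ.e y), eps_mul_eps,
        ← mul_assoc, e_mul, smul_mul_assoc]
    have h2 := h1 p a
    have h3 := h1 a p
    rw [hp, ha, smul_mul_smul_comm] at h2 h3
    rw [← hq (p : Λ.E'), mul_comm c' c, h2, mul_comm a p] at h3
    rw [hpa, smul_smul, smul_smul] at h3
    have h4 := mul_right_cancel₀ hk (smul_left_injective ℂ (Λ.e'_indep.ne_zero _) h3)
    rw [Λ.e_mul, Λ.e_mul, h4, mul_comm a p]

/-- The action on the non-degenerate section. -/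
noncomputable def mapE'Hom {α : MulAut G} (h : Λ.Good α) : Λ.E' →* Λ.E' :=
  QuotientGroup.lift Λ.Rad ((QuotientGroup.mk' Λ.Rad).comp (Λ.mapE h).toMonoidHom) fun x hx => by
    show (QuotientGroup.mk' Λ.Rad) (Λ.mapE h x) = 1
    exact (QuotientGroup.eq_one_iff _).mpr (Λ.rad_map h hx)

theorem mapE'Hom_surjective {α : MulAut G} (h : Λ.Good α) :
    Function.Surjective (Λ.mapE'Hom h) := fun q => by
  obtain ⟨y, rfl⟩ := QuotientGroup.mk_surjective q
  obtain ⟨x, rfl⟩ := (Λ.mapE h).surjective y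
  exact ⟨x, rfl⟩

/-- The action on the non-degenerate section, as an automorphism. -/
noncomputable def mapE' {α : MulAut G} (h : Λ.Good α) : Λ.E' ≃* Λ.E' :=
  MulEquiv.ofBijective (Λ.mapE'Hom h)
    ⟨Finite.injective_iff_surjective.mpr (Λ.mapE'Hom_surjective h), Λ.mapE'Hom_surjective h⟩

theorem preserves {α : MulAut G} (h : Λ.Good α) (hα : autA α (Λ.eps 1) = Λ.eps 1) :
    Λ.T.Preserves (autA α) (Λ.mapE' h) := by
  intro q
  obtain ⟨a, rfl⟩ := QuotientGroup.mk_surjective q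
  obtain ⟨c, hc, ha⟩ := Λ.e_mul_eps a
  obtain ⟨k, -, hk⟩ := Λ.e_map h a
  obtain ⟨d, -, hd⟩ := Λ.e_mul_eps (Λ.mapE h a)
  refine ⟨c⁻¹ * (k * d), ?_⟩
  show autA α (Λ.e' a) = _ • Λ.e' ((Λ.mapE h a : Λ.E) : Λ.E')
  rw [mul_smul, mul_smul, ← hd, ← smul_mul_assoc, ← hk, ← hα, ← map_mul, ha, map_smul,
    smul_smul, inv_mul_cancel₀ hc, one_smul]

theorem card_E'_dvd : Nat.card Λ.E' ∣ Nat.card G :=
  (Subgroup.card_quotient_dvd_card _).trans Λ.card_E_dvd

theorem odd_E' : Odd (Nat.card Λ.E') := F.odd.of_dvd_nat Λ.card_E'_dvd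

/-- The action of `S` on the non-degenerate section. -/
noncomputable def actE' : S →* MulAut Λ.E' where
  toFun s := Λ.mapE' (Λ.good_act s)
  map_one' := MulEquiv.ext fun q => by
    obtain ⟨a, rfl⟩ := QuotientGroup.mk_surjective q
    show ((Λ.actE 1 a : Λ.E) : Λ.E') = _
    rw [map_one]
    rfl
  map_mul' s t := MulEquiv.ext fun q => by
    obtain ⟨a, rfl⟩ := QuotientGroup.mk_surjective q
    show ((Λ.actE (s * t) a : Λ.E) : Λ.E') = ((Λ.actE s (Λ.actE t a) : Λ.E) : Λ.E')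
    rw [map_mul]
    rfl

theorem actE'_fixed (q : Λ.E') (h : ∀ s, Λ.actE' s q = q) : q = 1 := by
  obtain ⟨a, rfl⟩ := QuotientGroup.mk_surjective q
  have h1 := congrArg (fun x : Λ.E => (x : Λ.E')) (prod_orbit_eq_one Λ.actE Λ.actE_fixed a)
  have h2 : ((∏ s, Λ.actE s a : Λ.E) : Λ.E') = ∏ s, ((Λ.actE s a : Λ.E) : Λ.E') :=
    map_prod (QuotientGroup.mk' Λ.Rad) _ _
  have h3 : ∀ s, ((Λ.actE s a : Λ.E) : Λ.E') = (a : Λ.E') := h
  rw [h2, Finset.prod_congr rfl (g := fun _ => (a : Λ.E')) (fun s _ => h3 s),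
    Finset.prod_const, Finset.card_univ] at h1
  exact eq_one_of_pow (S := S) (Λ.cop_of_dvd (Subgroup.card_quotient_dvd_card _)) h1

theorem existsUnique_J :
    ∃! J, Λ.T.IsPar J ∧ ∀ s, autA (F.act s) J = J :=
  Λ.T.existsUnique_fixed Λ.actE' (autA.comp F.act)
    (fun s => Λ.preserves (Λ.good_act s) (Λ.eps_one_act s)) Λ.odd_E'
    (F.cop.coprime_dvd_right Λ.card_E'_dvd) Λ.actE'_fixed

/-- The parity element of a level. -/
noncomputable def J : MonoidAlgebra ℂ G := Λ.existsUnique_J.choose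

theorem isPar_J : Λ.T.IsPar Λ.J := Λ.existsUnique_J.choose_spec.1.1

theorem J_conj (c : F.C) : autA (MulAut.conj (c : G)) Λ.J = Λ.J := by
  have hc : autA (MulAut.conj (c : G)) (Λ.eps 1) = Λ.eps 1 := by
    rw [Λ.eps_map (Λ.good_conj (c : G)) (Λ.sec_conj c), map_one]
  refine Λ.existsUnique_J.choose_spec.2 _
    ⟨Λ.isPar_J.map (Λ.preserves (Λ.good_conj (c : G)) hc), fun s => ?_⟩
  rw [← AlgEquiv.mul_apply, ← map_mul, act_conj_comm, map_mul, AlgEquiv.mul_apply]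
  exact congrArg _ (Λ.existsUnique_J.choose_spec.1.2 s)

end Lev

end Cfsg.Lib.IsaacsStep
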