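import Cfsg.Agent.Chars.IsaacsStep.Core
import Cfsg.Agent.Chars.IsaacsStep.Inertial

/-!
# Reduction to an invariant character
-/

set_option autoImplicit false
set_option linter.unusedSectionVars false

namespace Cfsg.Lib.IsaacsStep

open Cfsg Cfsg.Lib.Chars MonoidAlgebra
open scoped Pointwise

universe u v

theorem ext_domCongr {G : Type u} [Group G] [Fintype G] (χ : G → ℂ) (α : MulAut G)
    (z : MonoidAlgebra ℂ G) :
    ext χ (domCongr ℂ ℂ α z) = ext (fun g => χ (α g)) z := by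
  classical
  induction z using MonoidAlgebra.induction_linear with
  | zero => simp [ext]
  | add x y hx hy =>
    simp only [map_add]
    simp only [ext, coeff_add, Finsupp.add_apply, add_mul, Finset.sum_add_distrib] at hx hy ⊢
    rw [hx, hy]
  | single m a =>
    rw [domCongr_single]
    simp [ext, Finsupp.single_apply]

variable {G : Type u} [Group G] [Fintype G] {S : Type v} [Group S] [Fintype S]

namespace Frame

variable (F : Frame G S)

/-- The restricted action. -/
noncomputable def restrAct (X : Subgroup G) (hX : ∀ s, ∀ x ∈ X, F.act s x ∈ X) (s : S) : MulAut X :=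
  MulEquiv.ofBijective
    ({ toFun := fun x => ⟨F.act s x, hX s x x.2⟩
       map_one' := Subtype.ext (map_one _)
       map_mul' := fun a b => Subtype.ext (map_mul _ _ _) } : X →* X)
    (Finite.injective_iff_bijective.mp fun _ _ h =>
      Subtype.ext ((F.act s).injective (congrArg Subtype.val h)))

/-- Invariance of a function on a subgroup. -/
def Inv (X : Subgroup G) (f : X → ℂ) : Prop :=
  ∀ (s : S) (x x' : X), (x' : G) = F.act s x → f x' = f x

theorem act_act_inv (s : S) (x : G) : F.act s (F.act s⁻¹ x) = x := by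
  rw [← MulAut.mul_apply, ← map_mul, mul_inv_cancel, map_one]
  rfl

include F in
theorem pow_mem_cancel {c : G} {T : Subgroup G} (h : c ^ Fintype.card S ∈ T) : c ∈ T := by
  obtain ⟨m, hm⟩ := exists_pow_eq_self_of_coprime (x := c) (n := Fintype.card S)
    (F.cop.coprime_dvd_right (orderOf_dvd_natCard c))
  rw [← hm]
  exact pow_mem h m

/-- The action on functions on `L`. -/
def sL (s : S) (θ : F.L → ℂ) : F.L → ℂ := fun l => θ ⟨F.act s l, F.actL s l l.2⟩

theorem sL_sL (s t : S) (θ : F.L → ℂ) : F.sL s (F.sL t θ) = F.sL (t * s) θ := by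
  funext l
  exact congrArg θ (Subtype.ext (show F.act t (F.act s l) = F.act (t * s) l by
    rw [map_mul]; rfl))

theorem sL_one (θ : F.L → ℂ) : F.sL 1 θ = θ := by
  funext l
  exact congrArg θ (Subtype.ext (show F.act 1 l = l by rw [map_one]; rfl))

theorem sL_inv_sL (s : S) (θ : F.L → ℂ) : F.sL s⁻¹ (F.sL s θ) = θ := by
  rw [sL_sL, mul_inv_cancel, sL_one]

theorem sL_conjN (s : S) (g : G) (θ : F.L → ℂ) :
    F.sL s (conjN F.L g θ) = conjN F.L (F.act s⁻¹ g) (F.sL s θ) := by
  funext l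
  refine congrArg θ (Subtype.ext ?_)
  show g * F.act s l * g⁻¹ = F.act s (F.act s⁻¹ g * (l : G) * (F.act s⁻¹ g)⁻¹)
  rw [map_mul, map_mul, map_inv (F.act s), F.act_act_inv]

theorem inv_L_iff (θ : F.L → ℂ) : F.Inv F.L θ ↔ ∀ s, F.sL s θ = θ := by
  refine ⟨fun h s => funext fun l => h s l _ rfl, fun h s x x' hx => ?_⟩
  conv_rhs => rw [← h s]
  exact congrArg θ (Subtype.ext hx)

theorem conjN_congr {θ : F.L → ℂ} {x y : G} (h : x * y⁻¹ ∈ inertia F.L θ) :
    conjN F.L x θ = conjN F.L y θ := by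
  have h1 : conjN F.L (x * y⁻¹) θ = θ := mem_inertia.mp h
  conv_rhs => rw [← h1, ← conjN_mul, inv_mul_cancel_right]

theorem mem_inertia_of {θ : F.L → ℂ} {x y : G} (h : conjN F.L x θ = conjN F.L y θ) :
    x * y⁻¹ ∈ inertia F.L θ := by
  rw [mem_inertia, conjN_mul, h, ← conjN_mul, mul_inv_cancel, conjN_one]

theorem exists_KC (g : G) : ∃ k ∈ F.K, ∃ c ∈ F.C, k * c = g := by
  have hg : g ∈ (F.K : Set G) * (F.C : Set G) := by
    rw [← Subgroup.normal_mul F.K F.C, F.sup]
    trivial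
  obtain ⟨k, hk, c, hc, h⟩ := hg
  exact ⟨k, hk, c, hc, h⟩

theorem normal_subgroupOf (R : Subgroup G) (hR : F.L ≤ R) : (R.subgroupOf F.K).Normal where
  conj_mem n hn g := by
    show (g : G) * n * (g : G)⁻¹ ∈ R
    have h := R.mul_mem (hR (F.abelian g g.2 n n.2)) (show (n : G) ∈ R from hn)
    simpa [mul_assoc] using h

theorem coset_inertia {θ : F.L → ℂ} (hθ : IsIrrCharacter F.L θ) (hS : ∀ s, F.sL s θ = θ)
    {x : G} (hx : x ∈ F.K) (hfix : ∀ s, F.act s x * x⁻¹ ∈ inertia F.L θ) : x ∈ inertia F.L θ := by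
  have hle : F.L ≤ F.K ⊓ inertia F.L θ :=
    le_inf F.le (le_inertia (isClassFunction_isChar (isCharacter_of_irr hθ)))
  haveI := F.normal_subgroupOf _ hle
  refine (F.coset_of (R := F.K ⊓ inertia F.L θ) hle inf_le_left ?_ hx fun s =>
    ⟨F.K.mul_mem (F.actK s x hx) (F.K.inv_mem hx), hfix s⟩).2
  rintro s y ⟨hy1, hy2⟩
  refine ⟨F.actK s y hy1, ?_⟩
  change y ∈ inertia F.L θ at hy2
  show F.act s y ∈ inertia F.L θ
  rw [mem_inertia] at hy2 ⊢
  have h := congrArg (F.sL s⁻¹) hy2
  rwa [sL_conjN, inv_inv, hS] at h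

theorem conj_in_C {θ θ' : F.L → ℂ} (hθ : IsIrrCharacter F.L θ) (hS : ∀ s, F.sL s θ = θ)
    (hS' : ∀ s, F.sL s θ' = θ') {g : G} (hg : θ' = conjN F.L g θ) :
    ∃ c ∈ F.C, θ' = conjN F.L c θ := by
  obtain ⟨k, hk, c, hc, rfl⟩ := F.exists_KC g
  refine ⟨c, hc, ?_⟩
  have h1 : ∀ s, F.sL s (conjN F.L k θ) = conjN F.L k θ := by
    have h2 : conjN F.L k θ = conjN F.L c⁻¹ θ' := by rw [hg, ← conjN_mul, mul_inv_cancel_right]
    intro s
    rw [h2, sL_conjN, hS', map_inv, F.actC s⁻¹ c hc]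
  have h3 : k ∈ inertia F.L θ := by
    refine F.coset_inertia hθ hS hk fun s => F.mem_inertia_of ?_
    have h4 := h1 s⁻¹
    rwa [sL_conjN, inv_inv, hS] at h4
  rw [hg, conjN_mul, mem_inertia.mp h3]

theorem exists_invariant {χ : G → ℂ} (hχ : IsIrrCharacter G χ)
    (hS : ∀ s g, χ (F.act s g) = χ g) [Fintype F.L] :
    ∃ θ : F.L → ℂ, IsIrrCharacter F.L θ ∧ classInner (fun l : F.L => χ l) θ ≠ 0 ∧
      ∀ s, F.sL s θ = θ := by
  classical
  obtain ⟨θ, hθ, hc⟩ := exists_constituent (N := F.L) (isCharacter_of_irr hχ)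
    (IsIrrCharacter.apply_one_ne_zero hχ)
  set I := inertia F.L θ with hI
  have hLI : F.L ≤ I := le_inertia (isClassFunction_isChar (isCharacter_of_irr hθ))
  have hK : ∀ s, ∃ k ∈ F.K, F.sL s θ = conjN F.L k θ := by
    intro s
    let e : F.L ≃* F.L := F.restrAct F.L F.actL s
    have hc' : classInner (fun l : F.L => χ l) (F.sL s θ) ≠ 0 := by
      intro h0
      apply hc
      rw [← classInner_comp_equiv e.toEquiv]
      refine Eq.trans ?_ h0
      congr 1
      funext l
      exact hS s l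
    obtain ⟨g, hg⟩ := exists_conjN_of_constituents F.L hχ hθ
      (IsIrrCharacter.comp_mulEquiv hθ e : IsIrrCharacter F.L (F.sL s θ)) hc hc'
    obtain ⟨k, hk, c, hcC, rfl⟩ := F.exists_KC g
    change F.sL s θ = _ at hg
    have hn : ∀ n : ℕ, ∃ kn ∈ F.K, F.sL (s ^ n) θ = conjN F.L (kn * c ^ n) θ := by
      intro n
      induction n with
      | zero => exact ⟨1, F.K.one_mem, by rw [pow_zero, pow_zero, sL_one, mul_one, conjN_one]⟩
      | succ n ih =>
        obtain ⟨kn, hkn, he⟩ := ih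
        refine ⟨k * (c * F.act s⁻¹ kn * c⁻¹),
          F.K.mul_mem hk (F.normalK.conj_mem _ (F.actK _ _ hkn) c), ?_⟩
        rw [pow_succ, ← sL_sL, he, sL_conjN, hg, ← conjN_mul, map_mul, map_pow, F.actC _ c hcC]
        congr 1
        rw [pow_succ' c n]
        group
    obtain ⟨kn, hkn, he⟩ := hn (Fintype.card S)
    rw [pow_card_eq_one, sL_one] at he
    have hc2 : c ∈ F.K ⊔ I := by
      refine F.pow_mem_cancel ?_
      have h1 : kn * c ^ Fintype.card S ∈ I := mem_inertia.mpr he.symm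
      have h2 := Subgroup.mul_mem (F.K ⊔ I) (Subgroup.mem_sup_left (F.K.inv_mem hkn))
        (Subgroup.mem_sup_right h1)
      rwa [inv_mul_cancel_left] at h2
    have hc3 : c ∈ (I : Set G) * (F.K : Set G) := by
      rw [← Subgroup.mul_normal I F.K, sup_comm]
      exact hc2
    obtain ⟨i, hi, k', hk', rfl⟩ := hc3
    refine ⟨i⁻¹ * k * i * k', F.K.mul_mem (by simpa using F.normalK.conj_mem k hk i⁻¹) hk', ?_⟩
    rw [hg]
    refine F.conjN_congr ?_
    have e : k * (i * k') * (i⁻¹ * k * i * k')⁻¹ = i := by group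
    rw [e]
    exact hi
  choose k hk hke using hK
  haveI := F.normal_subgroupOf I hLI
  letI : CommGroup (F.K ⧸ I.subgroupOf F.K) :=
    { (inferInstance : Group (F.K ⧸ I.subgroupOf F.K)) with mul_comm := F.quot_comm hLI le_rfl }
  have hIs : ∀ s, ∀ x ∈ F.K, x ∈ I → F.act s x ∈ I := by
    intro s x hx hxI
    have h := congrArg (F.sL s⁻¹) (mem_inertia.mp hxI)
    rw [sL_conjN, inv_inv, hke, ← conjN_mul] at h
    have h1 := F.mem_inertia_of h
    have hcomm := hLI (F.abelian _ (hk s⁻¹) _ (F.actK s x hx))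
    have h2 := I.mul_mem (I.inv_mem hcomm) h1
    have e : (k s⁻¹ * F.act s x * (k s⁻¹)⁻¹ * (F.act s x)⁻¹)⁻¹ *
        (k s⁻¹ * F.act s x * (k s⁻¹)⁻¹) = F.act s x := by group
    rwa [e] at h2
  let aq : S → (F.K ⧸ I.subgroupOf F.K) →* (F.K ⧸ I.subgroupOf F.K) := fun s =>
    QuotientGroup.map _ _ (F.restrAct F.K F.actK s).toMonoidHom fun y hy => hIs s y y.2 hy
  have haq : ∀ (s : S) (y : F.K), aq s (y : F.K ⧸ I.subgroupOf F.K) =
      ((F.restrAct F.K F.actK s y : F.K) : F.K ⧸ I.subgroupOf F.K) := fun _ _ => rfl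
  let act : S →* MulAut (F.K ⧸ I.subgroupOf F.K) :=
    { toFun := fun s =>
        { toFun := aq s
          invFun := aq s⁻¹
          left_inv := fun q => by
            induction q using QuotientGroup.induction_on with
            | H y =>
              rw [haq, haq]
              congr 1
              exact Subtype.ext (show F.act s⁻¹ (F.act s y) = y by
                simpa using F.act_act_inv s⁻¹ y)
          right_inv := fun q => by
            induction q using QuotientGroup.induction_on with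
            | H y =>
              rw [haq, haq]
              congr 1
              exact Subtype.ext (F.act_act_inv s y)
          map_mul' := map_mul _ }
      map_one' := by
        ext q
        induction q using QuotientGroup.induction_on with
        | H y =>
          show aq 1 y = _
          rw [haq]
          exact congrArg QuotientGroup.mk (Subtype.ext (show F.act 1 y = y by rw [map_one]; rfl))
      map_mul' := fun s t => by
        ext q
        induction q using QuotientGroup.induction_on with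
        | H y =>
          show aq (s * t) y = aq s (aq t y)
          rw [haq, haq, haq]
          exact congrArg QuotientGroup.mk (Subtype.ext
            (show F.act (s * t) y = F.act s (F.act t y) by rw [map_mul]; rfl)) }
  have hmk : ∀ x y : F.K, (x : G) * (y : G)⁻¹ ∈ I →
      (x : F.K ⧸ I.subgroupOf F.K) = (y : F.K ⧸ I.subgroupOf F.K) := fun x y h =>
    mul_inv_eq_one.mp ((QuotientGroup.eq_one_iff (x * y⁻¹)).mpr h)
  let a : S → F.K ⧸ I.subgroupOf F.K := fun s => ((⟨k s⁻¹, hk s⁻¹⟩ : F.K) : _)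
  have hcoc : ∀ s t, a (s * t) = a s * act s (a t) := by
    intro s t
    refine hmk _ (⟨k s⁻¹, hk s⁻¹⟩ * F.restrAct F.K F.actK s ⟨k t⁻¹, hk t⁻¹⟩) (F.mem_inertia_of ?_)
    show conjN F.L (k (s * t)⁻¹) θ = conjN F.L (k s⁻¹ * F.act s (k t⁻¹)) θ
    rw [← hke, mul_inv_rev, ← sL_sL, hke, sL_conjN, hke, ← conjN_mul, inv_inv]
  have hfixq : ∀ q, (∀ s, act s q = q) → q = 1 := by
    intro q
    induction q using QuotientGroup.induction_on with
    | H y =>
      intro hq
      refine (QuotientGroup.eq_one_iff y).mpr ?_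
      haveI := F.normal_subgroupOf _ (le_inf F.le hLI)
      refine (F.coset_of (R := F.K ⊓ I) (le_inf F.le hLI) inf_le_left
        (fun s x hx => ⟨F.actK s x hx.1, hIs s x hx.1 hx.2⟩) y.2 fun s =>
        ⟨F.K.mul_mem (F.actK s y y.2) (F.K.inv_mem y.2), ?_⟩).2
      have h : (F.restrAct F.K F.actK s y : F.K ⧸ I.subgroupOf F.K) = (y : F.K ⧸ I.subgroupOf F.K) :=
        hq s
      exact (QuotientGroup.eq_one_iff (N := I.subgroupOf F.K) (F.restrAct F.K F.actK s y * y⁻¹)).mp
        (by rw [QuotientGroup.mk_mul, QuotientGroup.mk_inv, h, mul_inv_cancel])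
  obtain ⟨v, hv, -⟩ := existsUnique_coboundary act
    (F.cop.coprime_dvd_right
      ((Subgroup.card_quotient_dvd_card _).trans (Subgroup.card_subgroup_dvd_card F.K)))
    hfixq a hcoc
  obtain ⟨w, rfl⟩ := QuotientGroup.mk_surjective v
  refine ⟨conjN F.L (w : G) θ, IsIrrCharacter.conjN hθ _, ?_, fun s => ?_⟩
  · rw [classInner_restrict_conjN F.L (isClassFunction_isChar (isCharacter_of_irr hχ))]
    exact hc
  · rw [sL_conjN, hke, ← conjN_mul]
    refine F.conjN_congr ?_
    have h := hv s⁻¹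
    simp only [a] at h
    have h' : (((⟨k s⁻¹⁻¹, hk _⟩ : F.K) * F.restrAct F.K F.actK s⁻¹ w * w⁻¹ : F.K) :
        F.K ⧸ I.subgroupOf F.K) = 1 := by
      rw [QuotientGroup.mk_mul, QuotientGroup.mk_mul, QuotientGroup.mk_inv]
      exact mul_inv_eq_one.mpr h
    have h2 := (QuotientGroup.eq_one_iff (N := I.subgroupOf F.K) _).mp h'
    change k s⁻¹⁻¹ * F.act s⁻¹ w * (w : G)⁻¹ ∈ I at h2
    rwa [inv_inv] at h2

section Correspondence

variable [Fintype F.L] (H : Subgroup G) [Fintype H]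

theorem stable_H (hH : H = F.L ⊔ F.C) (s : S) {x : G} (hx : x ∈ H) : F.act s x ∈ H := by
  subst hH
  obtain ⟨l, hl, c, hc, rfl⟩ : x ∈ (F.L : Set G) * (F.C : Set G) := by
    rw [← Subgroup.normal_mul F.L F.C]; exact hx
  rw [map_mul, F.actC s c hc]
  exact Subgroup.mul_mem _ (Subgroup.mem_sup_left (F.actL s l hl)) (Subgroup.mem_sup_right hc)

theorem oddMult_comp (hH : H = F.L ⊔ F.C) (s : S) {χ : G → ℂ} (hS : ∀ g, χ (F.act s g) = χ g)
    {ψ : H → ℂ} (h : OddMult H χ ψ) :
    OddMult H χ (fun x => ψ (F.restrAct H (fun s _ hx => F.stable_H H hH s hx) s x)) := by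
  obtain ⟨m, hm, ho⟩ := h
  refine ⟨m, ?_, ho⟩
  rw [← hm, ← classInner_comp_equiv (F.restrAct H (fun s _ hx => F.stable_H H hH s hx) s).toEquiv
    (fun h : H => χ h) ψ]
  congr 1
  funext x
  exact (hS x).symm

/-- The correspondence over an invariant character. -/
theorem correspondence_of_invariant (hH : H = F.L ⊔ F.C) (hLH : F.L ≤ H) {θ : F.L → ℂ}
    (hθ : IsIrrCharacter F.L θ) (hG : ∀ g, conjN F.L g θ = θ) (hS : ∀ s, F.sL s θ = θ) :
    (∀ χ : IrrCharacter G, (∀ s g, χ.1 (F.act s g) = χ.1 g) →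
      classInner (fun l : F.L => χ.1 l) θ ≠ 0 → ∃ ψ : IrrCharacter H, F.Inv H ψ.1 ∧
        classInner (fun l : F.L => ψ.1 ⟨l, hLH l.2⟩) θ ≠ 0 ∧
        ∀ ψ' : IrrCharacter H, OddMult H χ.1 ψ'.1 ↔ ψ' = ψ) ∧
    (∀ χ χ' : IrrCharacter G, (∀ s g, χ.1 (F.act s g) = χ.1 g) →
      (∀ s g, χ'.1 (F.act s g) = χ'.1 g) → classInner (fun l : F.L => χ.1 l) θ ≠ 0 →
      classInner (fun l : F.L => χ'.1 l) θ ≠ 0 → ∀ ψ : IrrCharacter H,
      OddMult H χ.1 ψ.1 → OddMult H χ'.1 ψ.1 → χ = χ') ∧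
    (∀ ψ : IrrCharacter H, F.Inv H ψ.1 → classInner (fun l : F.L => ψ.1 ⟨l, hLH l.2⟩) θ ≠ 0 →
      ∃ χ : IrrCharacter G, (∀ s g, χ.1 (F.act s g) = χ.1 g) ∧
        classInner (fun l : F.L => χ.1 l) θ ≠ 0 ∧ OddMult H χ.1 ψ.1) := by
  obtain ⟨n, ρ, hρ, rfl⟩ := id hθ
  let B : Block G :=
    { R := F.L
      normal := F.normalL
      n := n
      ρ := ρ
      irr := hρ
      inv := fun g r s h =>
        (congrArg ρ.character (Subtype.ext h)).trans (congrFun (hG g) r) }
  let Λ : Lev F :=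
    { B := B
      le := le_refl F.L
      ge := F.le
      sR := F.actL
      sInv := fun s r r' h => (F.inv_L_iff _).mpr hS s r r' h
      irrL := hρ }
  have hinner : ∀ f : F.L → ℂ,
      @classInner Λ.B.R _ (Fintype.ofFinite _) f Λ.φ = classInner f ρ.character := fun f => by
    simp only [classInner_eq_finsum]
    rfl
  obtain ⟨h1, h2, h3⟩ := Λ.correspondence H hH hLH
  refine ⟨fun χ hχ hc => ?_, fun χ χ' hχ hχ' hc hc' ψ ho ho' => ?_, fun ψ hψ hc => ?_⟩
  · obtain ⟨ψ, hψ1, hψ2⟩ := h1 χ (Λ.isOver_of_invariant χ hχ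
      (fun h => hc ((hinner _).symm.trans h)))
    refine ⟨ψ, fun s x x' hx => ?_, fun h => hψ1 ((hinner _).trans h), hψ2⟩
    have he := (hψ2 ⟨_, IsIrrCharacter.comp_mulEquiv ψ.2 _⟩).mp
      (F.oddMult_comp H hH s (hχ s) ((hψ2 ψ).mpr rfl))
    refine Eq.trans ?_ (congrFun (congrArg Subtype.val he) x)
    exact congrArg ψ.1 (Subtype.ext hx)
  · exact h2 χ χ' (Λ.isOver_of_invariant χ hχ (fun h => hc ((hinner _).symm.trans h)))
      (Λ.isOver_of_invariant χ' hχ' (fun h => hc' ((hinner _).symm.trans h))) ψ ho ho'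
  · obtain ⟨χ, ho, hodd⟩ := h3 ψ (fun h => hc ((hinner _).symm.trans h))
    have hinv : ∀ s g, χ.1 (F.act s g) = χ.1 g := fun s => by
      let χ' : IrrCharacter G :=
        ⟨fun g => χ.1 (F.act s g), IsIrrCharacter.comp_mulEquiv χ.2 (F.act s)⟩
      have ho' : Λ.IsOver χ'.1 := by
        show ext (fun g => χ.1 (F.act s g)) (Λ.eps 1) = χ.1 (F.act s 1)
        rw [← ext_domCongr, show domCongr ℂ ℂ (F.act s) (Λ.eps 1) = Λ.eps 1 from Λ.eps_one_act s,
          map_one]
        exact ho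
      have hodd' : OddMult H χ'.1 ψ.1 := by
        obtain ⟨m, hm, hm'⟩ := hodd
        refine ⟨m, ?_, hm'⟩
        rw [← hm, ← classInner_comp_equiv
          (F.restrAct H (fun s _ hx => F.stable_H H hH s hx) s).toEquiv (fun h : H => χ.1 h) ψ.1]
        congr 1
        funext x
        exact (hψ s x _ rfl).symm
      intro g
      exact congrFun (congrArg Subtype.val (h2 χ' χ ho' ho ψ hodd' hodd)) g
    refine ⟨χ, hinv, ?_, hodd⟩
    intro h0
    obtain ⟨m, σ, hσ, he⟩ := χ.2
    rw [← he] at ho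
    have hσo := (Λ.over_iff σ).mpr ho
    have h := Λ.ext_t_one (χ := σ.character)
    rw [← trace_eq_ext, hσo.t_one, LinearMap.trace_one, hinner, he, h0, mul_zero] at h
    exact (Nat.cast_ne_zero.mpr (finrank_pos_of_irreducible σ).ne') h

end Correspondence

end Frame

end Cfsg.Lib.IsaacsStep
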